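import Cfsg.Agent.TF4.ChU
import Cfsg.Agent.Oct.StepC2A
import Cfsg.Agent.Solv.Hall

/-!
# Normalising the automorphisms of the whole group
-/

set_option autoImplicit false
set_option linter.unusedSectionVars false
set_option linter.unusedSimpArgs false
set_option linter.unusedVariables false
set_option maxRecDepth 100000

namespace Cfsg.Lib.TF4

open Subgroup Function Cfsg.Lib.Fus Cfsg.Lib.Gold Cfsg.Lib.Oct Cfsg.Lib.Oct.UU
open scoped commutatorElement Pointwise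

variable {K : Type*} [Field K] [TwF K] [Finite K] {𝓕 : FS K}

namespace Nrm

theorem core {Ω : Type*} [Group Ω] [Finite Ω] {𝓕 : FusionSystem (⊤ : Subgroup Ω)} (hΩ : IsPGroup 2 Ω)
    (h𝓕 : 𝓕.IsSaturated 2) : ∃ A : Subgroup (MulAut Ω), (Nat.card A).Coprime 2 ∧ ∀ f, PIso 𝓕 f ⊤ ⊤ →
      ∃ g, ∃ α ∈ A, ∀ x, f x = g * α x * g⁻¹ := by
  have : Fact (Nat.Prime 2) := ⟨Nat.prime_two⟩
  have hs := sat_aut_top (hΩ.to_subgroup ⊤) h𝓕
  have hc : ((Inn (⊤ : Subgroup Ω)).relIndex (𝓕.autGroup ⊤)).Coprime 2 :=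
    ((Nat.Prime.coprime_iff_not_dvd Nat.prime_two).2 hs.not_dvd_relIndex).symm
  obtain ⟨n, hn⟩ := IsPGroup.iff_card.1 hs.pgroup
  obtain ⟨A, -, h1, -, h2⟩ := Solv.exists_complement_ambient _ _ hs.le (by rw [normalizer_eq_top]; exact le_top)
    (hn ▸ hc.symm.pow_left n)
  refine ⟨A.map (MulAut.congr topEquiv).toMonoidHom, by
    rwa [card_map_of_injective (MulAut.congr topEquiv).injective, h2], fun f hf => ?_⟩
  have h3 : hf.aut ∈ (↑(Inn (⊤ : Subgroup Ω) ⊔ A) : Set _) := h1 ▸ hf.aut_mem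
  rw [normal_mul] at h3
  obtain ⟨_, ⟨g, rfl⟩, α, hα, e⟩ := h3
  exact ⟨g, _, mem_map_of_mem _ hα, fun x => by
    exact (congrArg (fun β : MulAut (⊤ : Subgroup Ω) => (β ⟨x, mem_top x⟩ : Ω)) e).symm⟩

variable (K) in
/-- The standard automorphisms. -/
def N0 : Subgroup (MulAut (UU K)) :=
  let M : Submonoid (MulAut (UU K)) :=
    { carrier := {α | ∃ (a b : Kˣ) (φ : K →+* K), ∀ x, α x = tor (a : K) (b : K) (fr φ x)}
      one_mem' := ⟨1, 1, RingHom.id K, fun x => by simp⟩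
      mul_mem' := by
        rintro α β ⟨a, b, φ, h⟩ ⟨c, d, ψ, k⟩
        exact ⟨a * Units.map (φ : K →* K) c, b * Units.map (φ : K →* K) d, φ.comp ψ, fun x => by
          rw [MulAut.mul_apply, k, h, fr_tor, tor_tor, fr_fr]; rfl⟩ }
  { M with inv_mem' := fun {α} h => Submonoid.powers_le.2 h (mem_powers_iff_mem_zpowers.2 (inv_mem (mem_zpowers α))) }

theorem N0_eq_1' : type_of% @N0.eq_1 := @N0.eq_1

instance normal_P0 : (C2.P0 K).Normal := ⟨fun α hα β u => by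
  obtain ⟨a, b, φ, h⟩ := aut_sl β
  have e := h (β⁻¹ u)
  rw [MulAut.apply_inv_self] at e
  simp only [MulAut.mul_apply, h, hα (β⁻¹ u), e, and_self]⟩

theorem inf_eq : C2.P0 K ⊓ N0 K = ⊥ := eq_bot_iff.2 fun α ⟨h, a, b, φ, k⟩ => by
  have e1 : (a : K) = 1 := by simpa [k] using (h (x1 1)).1
  have e2 : (b : K) = 1 := by simpa [k] using (h (y8 1)).2
  have e3 : φ = RingHom.id K := RingHom.ext fun t => by simpa [k, e1] using (h (x1 t)).1
  exact MulEquiv.ext fun x => by simp [k, e1, e2, e3]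

theorem mem_sup (β : MulAut (UU K)) : β ∈ C2.P0 K ⊔ N0 K := by
  obtain ⟨a, b, φ, h⟩ := aut_sl β
  rw [← inv_mul_cancel_right β (torA (a, b) * frA φ)]
  refine mul_mem (mem_sup_left fun u => ?_) (mem_sup_right ⟨a, b, φ, fun _ => rfl⟩)
  obtain ⟨v, rfl⟩ := (torA (a, b) * frA φ).surjective u
  rw [MulAut.mul_apply, MulAut.inv_apply_self]
  exact h v

set_option maxHeartbeats 1000000 in
theorem low {Φ : Subgroup (UU K)} (sq : ∀ u : UU K, u * u ∈ Φ) (cm : ∀ u v : UU K, ⁅u, v⁆ ∈ Φ) (w : UU K)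
    (e1 : w.a1 = 0) (e2 : w.b8 = 0) (e3 : w.b2 = 0) (e4 : w.b6 = 0) (e5 : w.b4 = 0) : w ∈ Φ := by
  have N : ∀ {l m : K → UU K}, (∀ t, l t * l t = m (σ t * t)) → ∀ s, m s ∈ Φ := fun h s => by
    obtain ⟨t, rfl⟩ := exists_N1 s
    rw [mul_comm, ← h]; exact sq _
  have h4 := N y4_sq
  have h6 := N y6_sq
  have h2 := N y2_sq
  have h8 := N y8_sq
  have h5 : ∀ s, x5 s ∈ Φ := fun s => by
    rw [show x5 s = ⁅x2 s, x8 1⁆ * x4 (σ s) * x6 s by uu]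
    exact mul_mem (mul_mem (cm _ _) (h4 _)) (h6 _)
  have h3 : ∀ s, x3 s ∈ Φ := fun s => by
    rw [show x3 s = ⁅y4 s, y2 1⁆ by uu]; exact cm _ _
  have h7 : ∀ s, x7 s ∈ Φ := fun s => by
    rw [show x7 s = ⁅y6 s, y8 1⁆ by uu]; exact cm _ _
  exact C2.mem_of (C2.z0 x1_zero e1) (C2.z0 y8_zero e2) (C2.z0 y2_zero e3) (h8 _)
    (C2.z0 y6_zero e4) (C2.z0 y4_zero e5) (h7 _) (h2 _) (h3 _) (h5 _) (h6 _) (h4 _)

theorem F_dec {w : UU K} (hw : w ∈ F K) : ∃ s, w * y4 s ∈ frattini (UU K) := by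
  have : Fact (Nat.Prime 2) := ⟨Nat.prime_two⟩
  have hp := UU.isPGroup K
  have := hp.isNilpotent
  have sq : ∀ u : UU K, u * u ∈ frattini (UU K) := fun u => pow_two u ▸ Solv.pow_mem_frattini hp u
  have cm : ∀ u v : UU K, ⁅u, v⁆ ∈ frattini (UU K) := fun u v =>
    Solv.commutator_le_frattini_of_isNilpotent (commutator_mem_commutator (mem_top u) (mem_top v))
  generalize frattini (UU K) = Φ at sq cm
  have l4 : ∀ w : UU K, w.a1 = 0 → w.b8 = 0 → w.b2 = 0 → w.b6 = 0 → ∃ s, w * y4 s ∈ Φ := fun w e1 e2 e3 e4 =>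
    ⟨w.b4, by refine low sq cm _ ?_ ?_ ?_ ?_ ?_ <;> simp [e1, e2, e3, e4, CharTwo.add_self_eq_zero]⟩
  have l6 : ∀ w : UU K, w.a1 = 0 → w.b8 = 0 → w.b2 = 0 → ∃ s, w * y4 s ∈ Φ := fun w e1 e2 e3 => by
    obtain ⟨s, hs⟩ := l4 (⁅x8 w.b6, x1 1⁆ * w) (by simp [C2.c81, e1]) (by simp [C2.c81, e2])
      (by simp [C2.c81, e3]) (by simp [C2.c81, e1, CharTwo.add_self_eq_zero])
    rw [mul_assoc] at hs
    exact ⟨s, (mul_mem_cancel_left (cm _ _)).1 hs⟩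
  have c := cT_T (y8 w.b2) (x1 1)
  obtain ⟨s, hs⟩ := l6 (⁅y8 w.b2, x1 1⁆ * w) (mul_mem c hw).1 (mul_mem c hw).2
    (by simp [ChU.comm_b2, hw.1, CharTwo.add_self_eq_zero])
  rw [mul_assoc] at hs
  exact ⟨s, (mul_mem_cancel_left (cm _ _)).1 hs⟩

theorem eq_one (q : Nat.card K = 2) {α : MulAut (UU K)} (h : (orderOf α).Coprime 2) : α = 1 := by
  have : Fact (Nat.Prime 2) := ⟨Nat.prime_two⟩
  have hp := UU.isPGroup K
  have two : ∀ t : K, t ≠ 0 → t = 1 := fun t ht => by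
    obtain ⟨y, -, hy⟩ := (Nat.card_eq_two_iff' (0 : K)).1 q
    rw [hy t ht, hy 1 one_ne_zero]
  have hF : ∀ u, α u * u⁻¹ ∈ F K := fun u => by
    obtain ⟨a, b, φ, k⟩ := aut_sl α
    have e : ∀ t, φ t = t := fun t => (eq_or_ne t 0).elim (fun e => by simp [e]) fun e => by simp [two t e]
    exact mul_inv_F.2 (by simpa [e, two _ a.ne_zero, two _ b.ne_zero] using k u)
  have hd : ∀ w ∈ F K, w ∉ frattini (UU K) → w * y4 1 ∈ frattini (UU K) := fun w hw h0 => by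
    obtain ⟨s, hs⟩ := F_dec hw
    rwa [two s fun e => h0 (by simpa [e, y4_zero] using hs)] at hs
  have hc : ∀ u, α u ∈ frattini (UU K) ↔ u ∈ frattini (UU K) := fun u => by
    conv_rhs => rw [← characteristic_iff_comap_eq.1 (inferInstance : (frattini (UU K)).Characteristic) α]
    rfl
  have hf : ∀ w ∈ F K, α w * w⁻¹ ∈ frattini (UU K) := fun w hw => by
    by_cases h0 : w ∈ frattini (UU K)
    · exact mul_mem ((hc w).2 h0) (inv_mem h0)
    · simpa using mul_mem (hd _ (by simpa using mul_mem (hF w) hw) (mt (hc w).1 h0)) (inv_mem (hd w hw h0))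
  have e2 : α ^ 2 = 1 := Ess.eq_one_of_triv_frattini hp (h.coprime_dvd_left (orderOf_pow_dvd 2)) fun u _ => by
    refine (inferInstance : (frattini (UU K)).Normal).mem_comm ?_
    have := mul_mem (hf _ (hF u)) (Solv.pow_mem_frattini hp (α u * u⁻¹))
    simpa [pow_two, mul_assoc] using this
  exact orderOf_eq_one_iff.1 (h.eq_one_of_dvd (orderOf_dvd_of_pow_eq_one e2))

end Nrm

theorem exists_nm (q : 2 < Nat.card K) (h𝓕 : 𝓕.IsSaturated 2) : ∃ β : MulAut (UU K), ∀ f, PIso 𝓕 f ⊤ ⊤ →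
    ∃ (u : UU K) (a b : Kˣ) (φ : K →+* K), ∀ x, f (β x) = β (u * tor (a : K) (b : K) (fr φ x) * u⁻¹) := by
  have : Fact (Nat.Prime 2) := ⟨Nat.prime_two⟩
  obtain ⟨A, h1, h2⟩ := Nrm.core (UU.isPGroup K) h𝓕
  have hp := C2.P0_two q
  obtain ⟨n, hn⟩ := IsPGroup.iff_card.1 hp
  have := hp.isNilpotent
  obtain ⟨p, -, hA⟩ := Solv.exists_conj_le_of_le_sup (K := A) (by simp [normalizer_eq_top]) Nrm.inf_eq
    (fun β _ => Nrm.mem_sup β) (hn ▸ h1.pow_right n) (Or.inr inferInstance)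
  refine ⟨p⁻¹, fun f hf => ?_⟩
  obtain ⟨g, α, hα, e⟩ := h2 f hf
  obtain ⟨a, b, φ, k⟩ := hA (smul_mem_pointwise_smul α _ A hα)
  exact ⟨p g, a, b, φ, fun x => by simp [e, ← k]⟩

theorem nm_two (q : Nat.card K = 2) (h𝓕 : 𝓕.IsSaturated 2) : Nm 𝓕 := fun f hf => by
  obtain ⟨A, h1, h2⟩ := Nrm.core (UU.isPGroup K) h𝓕
  obtain ⟨g, α, hα, e⟩ := h2 f hf
  rw [Nrm.eq_one q (h1.coprime_dvd_left (A.orderOf_dvd_natCard hα))] at e
  exact ⟨g, 1, 1, RingHom.id K, fun x => by simp [e]⟩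

end Cfsg.Lib.TF4
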