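import Cfsg.Agent.TF4.Nu
import Cfsg.Agent.Oct.Cox
import Cfsg.Agent.Fus.Rk2Pull
import Mathlib.GroupTheory.SemidirectProduct

/-!
# The model extended by field automorphisms
-/

set_option autoImplicit false
set_option linter.unusedSectionVars false
set_option linter.unusedSimpArgs false
set_option linter.unusedVariables false
set_option maxRecDepth 100000

namespace Cfsg.Lib.TF4

open Subgroup Function Cfsg.Lib.Fus Cfsg.Lib.Gold Cfsg.Lib.Oct Cfsg.Lib.Oct.UU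
open scoped commutatorElement

universe u

variable {K : Type*} [Field K] [TwF K] [Finite K]

namespace Emb

variable {ρ : RK K} {G G' : Type*} [Group G] [Group G'] (φ : K →+* K)

/-- The action on units. -/
abbrev um : Kˣ →* Kˣ := Units.map (φ : K →* K)

theorem um_eq_1' : type_of% @um.eq_1 := @um.eq_1

theorem um_surj : Surjective (um φ) := Finite.surjective_of_injective (Units.map_injective φ.injective)

theorem fr_surj : Surjective (fr φ) := (frA φ).surjective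

theorem jL_um (β : Kˣ) : jL (um φ β) = ((um φ).prodMap (um φ)) (jL β) := by ext <;> simp [σ_comm]

theorem fr_tl (β : Kˣ) (u : UU K) : fr φ (tl β u) = tl (um φ β) (fr φ u) := by
  rw [tl, tl, fr_tor, jL_um]; rfl

theorem fr_l (t : K) : fr φ (x1 t) = x1 (φ t) ∧ fr φ (y8 t) = y8 (φ t) ∧ fr φ (y2 t) = y2 (φ t) ∧
    fr φ (x8 t) = x8 (φ t) ∧ fr φ (y6 t) = y6 (φ t) ∧ fr φ (y4 t) = y4 (φ t) ∧ fr φ (x7 t) = x7 (φ t) ∧
    fr φ (x2 t) = x2 (φ t) ∧ fr φ (x3 t) = x3 (φ t) ∧ fr φ (x5 t) = x5 (φ t) ∧ fr φ (x6 t) = x6 (φ t) ∧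
    fr φ (x4 t) = x4 (φ t) := by and_intros <;> ext <;> simp

theorem fr_U8 {v : UU K} (h : v ∈ U8 K) : fr φ v ∈ U8 K := by simp_all

theorem cjg (L : Lc ρ G) (v : UU K) {y : UU K} (hy : y ∈ Q K) :
    L.n * L.ι v * L.n⁻¹ * L.ι y * (L.n * L.ι v * L.n⁻¹)⁻¹ = L.ι (ν8 (v * ν8 y * v⁻¹)) := by
  rw [← L.nι ((normal_Q).conj_mem _ (ν8_mem y) v), map_mul, map_mul, map_inv, ← L.nι hy]
  simp only [mul_inv_rev, L.n_inv, mul_assoc]

theorem rk_fr (L : Lc ρ G) {v : UU K} (hv : v ∈ U8 K) (h1 : v ≠ 1) : L.n * L.ι (fr φ v) * L.n⁻¹ =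
    L.ι (fr φ (ρ v).1) * L.h (um φ (ρ v).2.1) * L.n * L.ι (fr φ (ρ v).2.2) := by
  obtain ⟨a1, a2, e⟩ := L.rk v hv h1
  obtain ⟨b1, b2, e'⟩ := L.rk _ (fr_U8 φ hv) ((map_ne_one_iff _ (frA φ).injective).2 h1)
  have hC : L.ι (fr φ (ρ v).1) * L.h (um φ (ρ v).2.1) * L.n * L.ι (fr φ (ρ v).2.2) ∈ L.C :=
    mul_mem (mul_mem (mul_mem (L.ι_mem _) (L.h_mem _)) L.n_mem) (L.ι_mem _)
  have k : ∀ y ∈ Q K, L.n * L.ι (fr φ v) * L.n⁻¹ * L.ι y * (L.n * L.ι (fr φ v) * L.n⁻¹)⁻¹ =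
      L.ι (fr φ (ρ v).1) * L.h (um φ (ρ v).2.1) * L.n * L.ι (fr φ (ρ v).2.2) * L.ι y *
        (L.ι (fr φ (ρ v).1) * L.h (um φ (ρ v).2.1) * L.n * L.ι (fr φ (ρ v).2.2))⁻¹ := fun y hy => by
    obtain ⟨y, rfl⟩ := fr_surj φ y
    have hy' : y ∈ Q K := by simpa using hy
    have := cjg L v hy'
    rw [e, L.conj_big _ _ _ ((normal_Q).conj_mem _ hy' _), L.inj.eq_iff] at this
    rw [cjg L _ hy, L.conj_big _ _ _ ((normal_Q).conj_mem _ hy _)]
    simp only [← map_inv, ← map_mul, ν8_fr, ← fr_tl, this]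
  obtain ⟨c, hc⟩ := L.mem_Z.1 (L.cent_Q (mul_mem (inv_mem hC) (mul_mem (mul_mem L.n_mem (L.ι_mem (fr φ v)))
    (inv_mem L.n_mem))) (mem_centralizer_iff.2 (by
      rintro _ ⟨y, hy, rfl⟩
      rw [← mul_assoc, eq_comm, ← mul_inv_eq_iff_eq_mul, mul_assoc _ _ (L.ι y), mul_assoc, k y hy]
      group)))
  rw [eq_inv_mul_iff_mul_eq, ← L.C_le_CZ hC _ (L.mem_Z.2 ⟨c, rfl⟩)] at hc
  have e2 := hc.trans e'
  simp only [← mul_assoc, ← map_mul] at e2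
  have e3 := (mul_mem_cancel_right (fr_U8 φ a1)).1 ((L.big_inj (fr_U8 φ a2) b2 e2).1 ▸ b1)
  rw [← hc, show c = 0 by simpa using e3, x4_zero, map_one, one_mul]

/-- The twisted structure. -/
def tw (M : Oc ρ G) : Oc ρ G where
  ι := M.ι.comp (fr φ)
  inj := M.inj.comp (frA φ).injective
  h := M.h.comp (um φ)
  n := M.n
  nn := M.nn
  hι β u := by simp [M.hι, fr_tl]
  nh β := by simp [M.nh]
  nx1 t := by simp [fr_l, M.nx1]
  ny2 t := by simp [fr_l, M.ny2]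
  nx2 t := by simp [fr_l, M.nx2]
  nx3 t := by simp [fr_l, M.nx3]
  ny4 t := by simp [fr_l, M.ny4]
  nx4 t := by simp [fr_l, M.nx4]
  rk v hv h1 := ⟨(M.rk v hv h1).1, (M.rk v hv h1).2.1, rk_fr φ M.toLc hv h1⟩
  η := M.η.comp ((um φ).prodMap (um φ))
  ηι t u := by simp [M.ηι, fr_tor]
  hη β := by simp [M.hη, jL_um]
  ηn t := (M.ηn _).trans (by
    rw [MonoidHom.comp_apply, show um φ (σu t.2) = σu (um φ t.2) from Units.ext (σ_comm φ _)]; rfl)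
  m := M.m
  mm := M.mm
  my8 t := by simp [fr_l, M.my8]
  mx8 t := by simp [fr_l, M.mx8]
  my6 t := by simp [fr_l, M.my6]
  mx6 t := by simp [fr_l, M.mx6]
  mx7 t := by simp [fr_l, M.mx7]
  mx5 t := by simp [fr_l, M.mx5]
  mη t := by simp [M.mη]
  br := by simp [fr_l, M.br]
  r8 := M.r8

theorem tw_eq_1' : type_of% @tw.eq_1 := @tw.eq_1

theorem tw_GG (M : Oc ρ G) : (tw φ M).GG = M.GG := by
  have e : (tw φ M).C = M.C := by
    simp only [Lc.C, Lc.S, tw, MonoidHom.range_comp, MonoidHom.range_eq_top.2 (fr_surj φ),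
      MonoidHom.range_eq_top.2 (um_surj φ), ← MonoidHom.range_eq_map]
  rw [Oa.GG, e]; rfl

theorem bij {O : Oc ρ G} {O' : Oc ρ G'} {π : G →* G'} (a : Cx.Hom O O' π) (h : O'.GG = ⊤) :
    Bijective (π.comp O.GG.subtype) :=
  ⟨(injective_iff_map_eq_one _).2 fun g e => Subtype.ext (a.eq_one g.2 e), fun g => by
    obtain ⟨x, hx, e⟩ := a.map_GG.ge (h.ge (mem_top g))
    exact ⟨⟨x, hx⟩, e⟩⟩

theorem exists_hom (O : Oc ρ G) (O' : Oc ρ G') (h : O.GG = ⊤) (h' : O'.GG = ⊤) :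
    ∃ α : G ≃* G', (∀ u, α (O.ι u) = O'.ι u) ∧ α O.m = O'.m ∧ α O.n = O'.n := by
  have b1 := bij (O := O.prod O') (π := .fst G G') ⟨fun _ => rfl, fun _ => rfl, rfl, rfl⟩ h
  have b2 := bij (O := O.prod O') (π := .snd G G') ⟨fun _ => rfl, fun _ => rfl, rfl, rfl⟩ h'
  have k : ∀ p ∈ (O.prod O').GG, (MulEquiv.ofBijective _ b1).symm.trans (MulEquiv.ofBijective _ b2) p.1 = p.2 :=
    fun p hp => congrArg (MulEquiv.ofBijective _ b2) ((MulEquiv.ofBijective _ b1).symm_apply_apply ⟨p, hp⟩)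
  exact ⟨_, fun u => k _ (mem_sup_left ((O.prod O').ι_mem u)), k _ (O.prod O').m_mem,
    k _ (mem_sup_left (O.prod O').n_mem)⟩

theorem mι (O : Oa ρ G) {u : UU K} (hu : u ∈ R K) : O.m * O.ι u * O.m⁻¹ = O.ι (ν1 u) := by
  have cm : ∀ {a b : G}, O.m * a * O.m⁻¹ = b → O.m * b * O.m⁻¹ = a := fun h => by
    rw [← h, O.m_inv]; simp only [← mul_assoc, O.mm, one_mul]; rw [mul_assoc, O.mm, mul_one]
  conv_lhs => rw [nf u, (mem_R.1 hu : u.a1 = 0), x1_zero, one_mul]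
  simp only [ν1, map_mul, ← conj_mul, O.my8, O.mx8, O.my6, O.mx6, O.mx7, O.mx5, cm (O.my8 _), cm (O.mx8 _),
    cm (O.my6 _), cm (O.mx6 _), cm (O.mx7 _)]

variable [Finite G] (M : Oc ρ G) (Φ : Submonoid (K →+* K))

/-- The field automorphisms of the group. -/
def FA : Subgroup (MulAut G) :=
  let N : Submonoid (MulAut G) :=
    { carrier := {α | ∃ φ ∈ Φ, (∀ u, α (M.ι u) = M.ι (fr φ u)) ∧ α M.m = M.m ∧ α M.n = M.n}
      one_mem' := ⟨1, one_mem _, fun _ => rfl, rfl, rfl⟩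
      mul_mem' := by
        rintro α β ⟨φ, a, b, c, d⟩ ⟨ψ, a', b', c', d'⟩
        exact ⟨φ * ψ, mul_mem a a', fun u => by rw [MulAut.mul_apply, b', b]; rfl,
          by rw [MulAut.mul_apply, c', c], by rw [MulAut.mul_apply, d', d]⟩ }
  { N with inv_mem' := fun {α} h => Submonoid.powers_le.2 h (mem_powers_iff_mem_zpowers.2 (inv_mem (mem_zpowers α))) }

theorem FA_eq_1' : type_of% @FA.eq_1 := @FA.eq_1

theorem FA_odd (hM : M.GG = ⊤) : ¬ 2 ∣ Nat.card (FA M Φ) := fun h => by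
  have : Fact (Nat.Prime 2) := ⟨Nat.prime_two⟩
  obtain ⟨N, hN, e⟩ := exists_odd_pow (K := K)
  obtain ⟨⟨α, φ, _, h1, h2, h3⟩, hα⟩ := exists_prime_orderOf_dvd_card' 2 h
  have k : ∀ n : ℕ, (∀ u, (α ^ n) (M.ι u) = M.ι (fr (φ ^ n) u)) ∧ (α ^ n) M.m = M.m ∧ (α ^ n) M.n = M.n := fun n => by
    induction n with
    | zero => exact ⟨fun _ => rfl, rfl, rfl⟩
    | succ n ih =>
      simp only [pow_succ, MulAut.mul_apply, h1, h2, h3, ih, and_self, and_true]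
      exact fun _ => rfl
  obtain ⟨k1, k2, k3⟩ := k N
  have hC : M.C ≤ (α ^ N).toMonoidHom.eqLocus (.id G) := M.C_le_of (by
    rintro _ ⟨u, rfl⟩
    exact (k1 u).trans (e φ ▸ rfl)) k3
  have e1 : α ^ N = 1 := MulEquiv.ext fun g =>
    (sup_le hC (Trans.cj_le_of_mem_of_le k2 hC) : M.GG ≤ _) (hM.ge (mem_top g))
  rw [← orderOf_coe] at hα
  exact Nat.not_even_iff_odd.2 hN (even_iff_two_dvd.2 (hα ▸ orderOf_dvd_of_pow_eq_one e1))

end Emb

open Cfsg.Lib.Rank2 Cfsg.Lib.Fus.Rk2 in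
theorem exists_emb {ρ : RK K} {G : Type u} [Group G] [Finite G] (M : Oc ρ G) (hM : M.GG = ⊤)
    (Φ : Submonoid (K →+* K)) : ∃ (H : Type u) (_ : Group H) (_ : Finite H) (J : SylEmb (⊤ : Subgroup (UU K)) H),
      Mor (pullE J) (Q K) ν8 ∧ Mor (pullE J) (R K) ν1 ∧ Tr (pullE J) ∧ (∀ φ ∈ Φ, Mor (pullE J) ⊤ (fr φ)) ∧
      ∀ f, PIso (pullE J) f ⊤ ⊤ → ∃ (u : UU K) (a b : Kˣ), ∃ φ ∈ Φ,
        ∀ x, f x = u * tor (a : K) (b : K) (fr φ x) * u⁻¹ := by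
  let A := Emb.FA M Φ
  let J : SylEmb (⊤ : Subgroup (UU K)) (G ⋊[A.subtype] A) :=
    ⟨SemidirectProduct.inl.comp (M.ι.comp (⊤ : Subgroup (UU K)).subtype),
      SemidirectProduct.inl_injective.comp (M.inj.comp Subtype.val_injective), by
      rw [MonoidHom.range_comp, MonoidHom.range_comp, range_subtype, ← MonoidHom.range_eq_map, index_map,
        (MonoidHom.ker_eq_bot_iff _).2 SemidirectProduct.inl_injective, sup_bot_eq,
        SemidirectProduct.range_inl_eq_ker_rightHom, index_ker,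
        MonoidHom.range_eq_top.2 SemidirectProduct.rightHom_surjective, card_top, Nat.prime_two.dvd_mul, not_or]
      exact ⟨by simpa [hM] using M.syl.not_dvd, Emb.FA_odd M Φ hM⟩⟩
  have k : ∀ {P : Subgroup (UU K)} {f : UU K → UU K}, Mor (pullE J) P f ↔
      ∃ (g : G) (α : A), ∀ x ∈ P, M.ι (f x) = g * α.1 (M.ι x) * g⁻¹ := fun {P f} => by
    rw [mor_iff_of_realized (pullE_realized J)]
    simp only [le_top, mem_top, implies_true, true_and, extFun_of_mem _ (mem_top _)]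
    refine ⟨fun ⟨g, hg⟩ => ⟨g.left, g.right, fun x hx => ?_⟩, fun ⟨g, α, hg⟩ => ⟨⟨g, α⟩, fun x hx => ?_⟩⟩
    · simpa [J] using congrArg SemidirectProduct.left (hg x hx)
    · ext1 <;> simp [J, hg x hx]
  refine ⟨_, inferInstance, Finite.of_equiv _ SemidirectProduct.equivProd.symm, J,
    k.2 ⟨M.n, 1, fun x hx => (M.nι hx).symm⟩, k.2 ⟨M.m, 1, fun x hx => (Emb.mι M.toOa hx).symm⟩,
    fun a b => k.2 ⟨M.η (a, b), 1, fun x _ => (M.ηι (a, b) x).symm⟩, fun φ hφ => ?_, fun f hf => ?_⟩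
  · obtain ⟨α, h⟩ := Emb.exists_hom M (Emb.tw φ M) hM ((Emb.tw_GG φ M).trans hM)
    exact k.2 ⟨1, ⟨α, φ, hφ, h⟩, fun x _ => by rw [one_mul, inv_one, mul_one]; exact (h.1 x).symm⟩
  obtain ⟨g, ⟨α, φ, hφ, h, _⟩, e⟩ := k.1 hf.mor
  have hg : g ∈ Ns M.S := mem_normalizer_fintype (by
    rintro _ ⟨u, rfl⟩
    obtain ⟨u, rfl⟩ := Emb.fr_surj φ u
    exact ⟨f u, by rw [e u (mem_top u), h]⟩)
  obtain ⟨u, w, t, v, rfl⟩ := Cx.bruhat M (hM ▸ mem_top g)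
  obtain rfl := Cx.eq_one_of_norm M (Cx.strip M le_normalizer hg)
  refine ⟨u * tor (t.1 : K) (t.2 : K) v, t.1, t.2, φ, hφ, fun x => M.inj ?_⟩
  simp only [e x (mem_top x), h, map_mul, map_inv, ← M.ηι, map_one]
  group

end Cfsg.Lib.TF4
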