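import Cfsg.Agent.TF4.Nu

/-!
# Two lemmas on additive maps of a field, and conjugation in coordinates
-/

set_option autoImplicit false
set_option linter.unusedSectionVars false
set_option linter.unusedSimpArgs false
set_option maxRecDepth 100000

namespace Cfsg.Lib.TF4.Fl

open Subgroup Function Cfsg.Lib.Fus Cfsg.Lib.Gold Cfsg.Lib.Oct Cfsg.Lib.Oct.UU
open scoped commutatorElement

variable {K : Type*} [Field K] {κ l μ : K → K}

theorem left {φ : K → K} (e : ∀ s t, κ (s * t) = l s * μ t) (h1 : μ 1 ≠ 0) (h : ∀ t, μ t = μ 1 * φ t) (t : K) :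
    l t = l 1 * φ t := by
  have := (e t 1).symm.trans (mul_comm 1 t ▸ e 1 t)
  rw [h t] at this
  exact mul_right_cancel₀ h1 (by rw [this]; ring)

theorem exists_hom (e : ∀ s t, κ (s * t) = l s * μ t) (h1 : μ 1 ≠ 0) (l1 : l 1 ≠ 0)
    (hμ : ∀ s t, μ (s + t) = μ s + μ t) : ∃ φ : K →+* K, ∀ t, μ t = μ 1 * φ t := by
  have h : ∀ t, μ t = μ 1 * (μ t / μ 1) := fun t => by field_simp
  refine ⟨{ toFun t := μ t / μ 1
            map_one' := div_self h1
            map_mul' s t := ?_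
            map_zero' := by rw [show μ 0 = 0 by simpa using hμ 0 0, zero_div]
            map_add' s t := by rw [hμ, add_div] }, h⟩
  have := (e 1 (s * t)).symm.trans ((one_mul (s * t)).symm ▸ e s t)
  rw [left e h1 h s, mul_assoc, mul_right_inj' l1] at this
  rw [this, mul_div_assoc]

variable [TwF K]

theorem conj_a1 (u v : UU K) : (u * v * u⁻¹).a1 = v.a1 := by simp; grind

theorem conj_b8 (u v : UU K) : (u * v * u⁻¹).b8 = v.b8 := by simp; grind

theorem conj_b2 (u v : UU K) : (u * v * u⁻¹).b2 = v.b2 + u.b8 * v.a1 + u.a1 * v.b8 := by simp; grind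

theorem conj_b6 (u : UU K) {v : UU K} (hv : v ∈ Q K) :
    (u * v * u⁻¹).b6 = v.b6 + u.a8 * v.a1 + σ u.b8 * v.b2 := by simp [hv.1, hv.2]; grind

theorem comm_RD {r d : UU K} (hr : r ∈ R K) (hd : d ∈ D K) : ⁅r, d⁆ = x6 (r.b8 * d.a5) * x4 (r.b2 * d.a5) := by
  obtain ⟨b0, b1, b2, b3, b4, b5, b6, b7, b8⟩ := hd
  have h1 : r.a1 = 0 := hr
  rw [commutatorElement_def, mul_inv_eq_iff_eq_mul, mul_inv_eq_iff_eq_mul]
  uu [h1, b0, b1, b2, b3, b4, b5, b6, b7, b8]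

theorem comm_QC {u c : UU K} (hu : u ∈ Q K) (hc : c ∈ CW K) :
    ⁅u, c⁆ * (x2 (u.a1 * c.b4) * x3 (u.b2 * c.b4) * x5 (u.b6 * c.b4) * x6 (u.a7 * c.b4))⁻¹ ∈ Z K := by
  obtain ⟨b0, b1, b2, b3, b4, b5⟩ := hc
  rw [commutatorElement_def, mul_assoc, mul_assoc, ← mul_inv_rev, ← mul_inv_rev, mul_inv_Z]
  uus [hu.1, hu.2, b0, b1, b2, b3, b4, b5]
  and_intros <;> grind

end Cfsg.Lib.TF4.Fl
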