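import Cfsg.Agent.TF4.Pt
import Cfsg.Agent.TF4.Fl

/-!
# Automorphisms of `Q` fixing two points
-/

set_option autoImplicit false
set_option linter.unusedSectionVars false
set_option linter.unusedSimpArgs false
set_option maxRecDepth 100000

namespace Cfsg.Lib.TF4

open Subgroup Function Cfsg.Lib.Fus Cfsg.Lib.Gold Cfsg.Lib.Oct Cfsg.Lib.Oct.UU
open scoped commutatorElement

variable {K : Type*} [Field K] [TwF K] [Finite K] {f : Equiv.Perm (UU K)}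

namespace KQ

theorem flag (h : Au (Q K) f) (h7 : f (x7 1) ∈ Yy K) {x : UU K} (hx : x ∈ Q K) :
    (f x ∈ QR K ↔ x ∈ QR K) ∧ (f x ∈ Z6 K ↔ x ∈ Z6 K) ∧ (f x ∈ Z5 K ↔ x ∈ Z5 K) := by
  obtain ⟨-, a, b, c, -⟩ := flagQ le_rfl (clOne h).iv_mem (charQ (clOne h)).2.1 (ivY_of h h7)
  exact ⟨iv_clOne.1 a x hx, iv_clOne.1 b x hx, iv_clOne.1 c x hx⟩

theorem ν8_X1 {u : UU K} (h : u ∈ X1 K) : ν8 u ∈ Yy K := by simp_all

theorem flag' (h : Au (Q K) f) (h1 : f (x1 1) ∈ X1 K) {x : UU K} (hx : x ∈ Q K) :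
    (x.a7 = 0 → (f x).a7 = 0) ∧ (x.a7 = 0 → x.b6 = 0 → (f x).b6 = 0) ∧
      (x.a7 = 0 → x.b6 = 0 → x.b2 = 0 → x.b4 = 0 → (f x).b2 = 0 ∧ (f x).b4 = 0) := by
  obtain ⟨n, hn, -, e⟩ := exists_n8 K
  have k : ∀ x ∈ Q K, (n * f * n) (ν8 x) = ν8 (f x) := fun x hx => by
    rw [Equiv.Perm.mul_apply, Equiv.Perm.mul_apply, e _ (ν8_mem x), ν8_ν8 hx, e _ (h.maps hx)]
  obtain ⟨a, b, c⟩ := flag ((hn.comp h).comp hn) (by
    rw [show x7 1 = ν8 (x1 (1 : K)) by ext <;> simp, k _ (by simp)]; exact ν8_X1 h1) (ν8_mem x)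
  rw [k x hx] at a b c
  simp only [mem_QR, mem_Z6, mem_Z5, ν8_a1, ν8_b8, ν8_b2, ν8_a8, ν8_b6, ν8_b4, true_and, and_true] at a b c
  exact ⟨a.2, fun p q => (b.2 ⟨p, q⟩).2, fun p q r s => (c.2 ⟨p, q, r, s⟩).2.2⟩

theorem comm_a3 {u v : UU K} (hu : u ∈ Q K) (hv : v ∈ Q K) : ⁅u, v⁆.a3 = σ u.a1 * v.a7 + u.a1 * σ v.b6 +
    u.a7 * σ v.a1 + u.b2 * v.b4 + u.b4 * v.b2 + σ u.b6 * v.a1 := by
  uus [hu.1, hu.2, hv.1, hv.2]
  grind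

theorem x2_eq (s t : K) : x2 (s * t) = ⁅x1 s, y4 t⁆ := by uu
theorem x3_eq (s t : K) : x3 (s * t) = ⁅y2 s, y4 t⁆ := by uu
theorem x5_eq (s t : K) : x5 (s * t) = ⁅y6 s, y4 t⁆ := by uu
theorem x6_eq (s t : K) : x6 (s * t) = ⁅x7 s, y4 t⁆ := by uu
theorem c16 : ⁅x1 (1 : K), y6 (1 : K)⁆ = x2 (1 : K) * x3 (1 : K) * x4 (1 : K) := by uu
theorem c17 : ⁅x1 (1 : K), x7 (1 : K)⁆ = x3 (1 : K) * x5 (1 : K) := by uu

theorem comm_C {u c : UU K} (hu : u ∈ Q K) (hc : c ∈ CW K) : ⁅u, c⁆.a2 = u.a1 * c.b4 ∧ ⁅u, c⁆.a3 = u.b2 * c.b4 ∧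
    ⁅u, c⁆.a5 = u.b6 * c.b4 ∧ ⁅u, c⁆.a6 = u.a7 * c.b4 := by
  simpa using (mul_inv_Z.1 (Fl.comm_QC hu hc)).2.2.2.2.2.2.2

theorem alg {c1 c2 c6 c7 m z : K} (h1 : c1 ≠ 0) (r1 : c1 * m = z + z + σ c2 * c2) (r2 : c2 * m = c1 * σ c6)
    (r3 : c2 * m = σ c1 * c7) : c6 = c2 * σ (c2 / c1) ∧ c7 = c2 ^ 2 / c1 * σ (c2 / c1) := by
  have s1 := (map_ne_zero σ).2 h1
  refine ⟨(σ : K →+* K).injective ?_, ?_⟩
  · rw [map_mul, σσ]; field_simp; grind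
  · rw [map_div₀]; field_simp; grind

end KQ

set_option maxHeartbeats 1000000 in
theorem kQ (h : Au (Q K) f) (h7 : f (x7 1) ∈ Yy K) (h1 : f (x1 1) ∈ X0 K) :
    ∃ (a b : Kˣ) (φ : K →+* K), ∀ x ∈ Q K, (tor (a : K) (b : K) (fr φ x))⁻¹ * f x ∈ CW K := by
  obtain ⟨iZ, iW, iC⟩ := charQ (clOne h)
  replace iZ := iv_clOne.1 iZ
  replace iW := iv_clOne.1 iW
  replace iC := iv_clOne.1 iC
  have q1 : ∀ t : K, x1 t ∈ Q K := by simp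
  have q2 : ∀ t : K, y2 t ∈ Q K := by simp
  have q4 : ∀ t : K, y4 t ∈ Q K := by simp
  have q6 : ∀ t : K, y6 t ∈ Q K := by simp
  have q7 : ∀ t : K, x7 t ∈ Q K := by simp
  have c1 : (f (x1 1)).a1 ≠ 0 := fun e => by simpa using (iW _ (q1 1)).1 (by simp_all)
  have hX := inv_X0 (h.maps (q1 1)) h1.2.1 h1.2.2.2.1 c1 (by
    rw [← h.map_mul (q1 1) (q1 1), x1_add, CharTwo.add_self_eq_zero, x1_zero, h.map_one])
  have e1 : ∀ t, (f (x1 t)).a7 = 0 ∧ (f (x1 t)).b6 = 0 ∧ (f (x1 t)).b2 = 0 ∧ (f (x1 t)).b4 = 0 := fun t => by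
    simpa using KQ.flag' h hX (q1 t)
  have e7 : ∀ t, f (x7 t) ∈ Z5 K := fun t => (KQ.flag h h7 (q7 t)).2.2.2 (by simp)
  have e2 : ∀ t, (f (y2 t)).a1 = 0 ∧ (f (y2 t)).a7 = 0 ∧ (f (y2 t)).b6 = 0 := fun t =>
    ⟨((KQ.flag h h7 (q2 t)).1.2 (by simp)).1, (KQ.flag' h hX (q2 t)).1 rfl, (KQ.flag' h hX (q2 t)).2.1 rfl rfl⟩
  have e6 : ∀ t, f (y6 t) ∈ Z6 K ∧ (f (y6 t)).a7 = 0 := fun t =>
    ⟨(KQ.flag h h7 (q6 t)).2.1.2 (by simp), (KQ.flag' h hX (q6 t)).1 rfl⟩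
  have e4 : ∀ t, f (y4 t) ∈ CW K := fun t => (iC _ (q4 t)).2 (by simp)
  have k : ∀ {u w : UU K} (t : K), u ∈ Q K → w = ⁅u, y4 t⁆ → (f w).a2 = (f u).a1 * (f (y4 t)).b4 ∧
      (f w).a3 = (f u).b2 * (f (y4 t)).b4 ∧ (f w).a5 = (f u).b6 * (f (y4 t)).b4 ∧
      (f w).a6 = (f u).a7 * (f (y4 t)).b4 := fun t hu e => by
    rw [e, h.map_comm hu (q4 t)]; exact KQ.comm_C (h.maps hu) (e4 t)
  have k2 := fun s t => k t (q1 s) (KQ.x2_eq s t)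
  have k3 := fun s t => k t (q2 s) (KQ.x3_eq s t)
  have k5 := fun s t => k t (q6 s) (KQ.x5_eq s t)
  have k6 := fun s t => k t (q7 s) (KQ.x6_eq s t)
  have d1 : (f (y4 1)).b4 ≠ 0 := fun e => by
    have := e4 1
    simpa using (iW _ (q4 1)).1 (by simp_all)
  have c2 : (f (y2 1)).b2 ≠ 0 := fun e => by
    simpa using (iC _ (q2 1)).1 ⟨(e2 1).1, (h.maps (q2 1)).1, e, (h.maps (q2 1)).2, (e2 1).2.2, (e2 1).2.1⟩
  obtain ⟨φ, hφ⟩ := Fl.exists_hom (κ := fun t => (f (x2 t)).a2) (l := fun t => (f (x1 t)).a1)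
    (μ := fun t => (f (y4 t)).b4) (fun s t => (k2 s t).1) d1 c1 fun s t => by
      have a := e4 s
      have := (iW _ (mul_mem (inv_mem (q4 (s + t))) (mul_mem (q4 s) (q4 t)))).2 (inv_mul_W.2 (by simp))
      rw [h.map_mul (inv_mem (q4 _)) (mul_mem (q4 s) (q4 t)), h.map_inv (q4 _), h.map_mul (q4 s) (q4 t),
        inv_mul_W] at this
      rw [this.2.2.2.2.2.1]
      simp [a.2.2.1, a.2.2.2.1, a.2.1]
  have l1 := Fl.left (κ := fun t => (f (x2 t)).a2) (l := fun t => (f (x1 t)).a1) (fun s t => (k2 s t).1) d1 hφ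
  have l2 := Fl.left (κ := fun t => (f (x3 t)).a3) (l := fun t => (f (y2 t)).b2) (fun s t => (k3 s t).2.1) d1 hφ
  have l6 := Fl.left (κ := fun t => (f (x5 t)).a5) (l := fun t => (f (y6 t)).b6) (fun s t => (k5 s t).2.2.1) d1 hφ
  have l7 := Fl.left (κ := fun t => (f (x6 t)).a6) (l := fun t => (f (x7 t)).a7) (fun s t => (k6 s t).2.2.2) d1 hφ
  have w2 : f (x2 1) ∈ W K := (iW _ (by simp)).2 (by simp)
  have w3 : f (x3 1) ∈ W K := (iW _ (by simp)).2 (by simp)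
  have w5 : f (x5 1) ∈ W K := (iW _ (by simp)).2 (by simp)
  have w4 : f (x4 1) ∈ Z K := (iZ _ (by simp)).2 (by simp)
  have r1 := congrArg a2 (h.map_mul (q2 1) (q2 1))
  have r2 := KQ.comm_a3 (h.maps (q1 1)) (h.maps (q6 1))
  have r3 := KQ.comm_a3 (h.maps (q1 1)) (h.maps (q7 1))
  rw [← h.map_comm (q1 1) (q6 1), KQ.c16,
    h.map_mul (by simp) (by simp), h.map_mul (by simp) (by simp)] at r2
  rw [← h.map_comm (q1 1) (q7 1), KQ.c17, h.map_mul (by simp) (by simp)] at r3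
  have s2 := k2 1 1
  have s3 := k3 1 1
  have s5 := k5 1 1
  rw [mul_one] at s2 s3 s5
  rw [mem_W] at w2 w3 w5
  rw [mem_Z] at w4
  have v6 := (e6 1).1
  have v7 := e7 1
  rw [mem_Z6] at v6
  rw [mem_Z5] at v7
  rw [y2_sq, map_one, one_mul, s2.1] at r1
  uus [e2, (h.maps (q2 _)).1, (h.maps (q2 _)).2] at r1
  uus [w2, w3, w4, s2, s3, e1, v6, e6] at r2
  uus [w3, w5, s3, s5, e1, v6, v7] at r3
  obtain ⟨c6, c7⟩ := KQ.alg c1 r1 r2 r3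
  refine ⟨Units.mk0 _ c1, Units.mk0 _ (div_ne_zero c2 c1), φ, fun x hx => ?_⟩
  have hy := mul_mem (mul_mem (mul_mem (q1 x.a1) (q2 x.b2)) (q6 x.b6)) (q7 x.a7)
  have := (iC _ (mul_mem (inv_mem hy) hx)).2 (inv_mul_CW.2 (by simp [hx.1, hx.2]))
  rw [h.map_mul (inv_mem hy) hx, h.map_inv hy, h.map_mul (by simp) (q7 _), h.map_mul (by simp) (q6 _),
    h.map_mul (q1 _) (q2 _), inv_mul_CW] at this
  have u6 := (e6 x.b6).1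
  have u7 := e7 x.a7
  rw [mem_Z6] at u6
  rw [mem_Z5] at u7
  uus [(h.maps (q1 _)).1, (h.maps (q1 _)).2, (h.maps (q2 _)).1, (h.maps (q2 _)).2, e1, e2, e6, u6, u7] at this
  obtain ⟨t1, t2, t3, t4, t5, t6⟩ := this
  rw [inv_mul_CW, ← t1, ← t2, ← t3, ← t4, ← t5, ← t6, l1 x.a1, l2 x.b2, l6 x.b6, l7 x.a7, c6, c7]
  simp only [tor_a1, tor_b8, tor_b2, tor_a8, tor_b6, tor_a7, fr_a1, fr_b8, fr_b2, fr_a8, fr_b6, fr_a7, hx.1, hx.2,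
    map_zero, mul_zero, Units.val_mk0, true_and]
  and_intros <;> field_simp

end Cfsg.Lib.TF4
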