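import Cfsg.Agent.TF4.Cmp
import Cfsg.Agent.TF4.KQ
import Cfsg.Agent.TF4.Emb

/-!
# The Suzuki group on `Q / C(W)`
-/

set_option autoImplicit false
set_option linter.unusedSectionVars false
set_option linter.unusedSimpArgs false
set_option maxRecDepth 100000

namespace Cfsg.Lib.TF4

open Subgroup Function Cfsg.Lib.Fus Cfsg.Lib.Gold Cfsg.Lib.Oct Cfsg.Lib.Oct.UU
open scoped commutatorElement

variable {K : Type*} [Field K] [TwF K] [Finite K] {𝓕 : FS K} {f : Equiv.Perm (UU K)}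

theorem std_Q (h𝓕 : 𝓕.IsSaturated 2) (nm : Nm 𝓕) (hf : PIso 𝓕 f (Q K) (Q K)) {a b : Kˣ}
    (h : ∀ x ∈ Q K, (tor (a : K) (b : K) x)⁻¹ * f x ∈ CW K) :
    Mor 𝓕 ⊤ (tor (a : K) (b : K)) ∧ ∃ y ∈ Q K, ∀ x ∈ Q K, f x = y * tor (a : K) (b : K) x * y⁻¹ := by
  have q1 : ∀ t : K, x1 t ∈ Q K := by simp
  have q7 : x7 1 ∈ Q K := by simp
  have h7 := inv_mul_CW.1 (h _ q7)
  simp only [tor_a1, tor_b8, tor_b2, tor_a8, tor_b6, tor_a7, x7_a1, x7_b8, x7_b2, x7_a8, x7_b6, x7_a7, mul_zero] at h7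
  obtain ⟨g, hg, e⟩ := extQ h𝓕 hf ((inv_Z6 ⟨h7.1.symm, h7.2.1.symm, h7.2.2.1.symm, h7.2.2.2.1.symm⟩ (by
    rw [← hf.map_mul q7 q7, x7_add, CharTwo.add_self_eq_zero, x7_zero, (Au.of_piso hf).map_one])).resolve_left
      fun e => by simpa using h7.2.2.2.2.2.trans e.2.2.2.2.2.2)
  obtain ⟨u, a', b', φ, k⟩ := nm g hg
  have k1 := fun t => inv_mul_CW.1 (h _ (q1 t))
  have k2 := (inv_mul_CW.1 (h (y2 1) (by simp))).2.2.1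
  have k6 := (k1 1).2.2.2.2.1
  rw [← e _ (q1 1), k, Fl.conj_b6 _ (by simp)] at k6
  simp only [← e _ (q1 _), k, Fl.conj_a1, Fl.conj_b2] at k1
  rw [← e _ (by simp), k, Fl.conj_b2] at k2
  obtain rfl : a = a' := Units.ext (by simpa using (k1 1).1)
  obtain rfl : b = b' := Units.ext (by simpa using k2)
  obtain rfl : RingHom.id K = φ := RingHom.ext fun t => by simpa using (k1 t).1
  exact ⟨(hg.mor.conj_comp (s := u⁻¹) trivial).congr fun x _ => by simp [k, mul_assoc],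
    u, ⟨by simpa using (k1 1).2.2.1, by simpa using k6⟩, fun x hx => by rw [← e x hx, k, fr_id]⟩

namespace BQ

variable {ρ : RK K} {G : Type*} [Group G] {L : Lc ρ G}

variable (𝓕 L) in
/-- The element acts on `Q / C(W)` like an automorphism of the system. -/
def In (g : G) : Prop := ∃ f, PIso 𝓕 f (Q K) (Q K) ∧
  ∀ x ∈ Q K, ∃ x' ∈ Q K, g * L.ι x * g⁻¹ = L.ι x' ∧ x'⁻¹ * f x ∈ CW K

theorem In_eq_1' : type_of% @In.eq_1 := @In.eq_1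

theorem In.mul {g g' : G} (h : In 𝓕 L g) (h' : In 𝓕 L g') : In 𝓕 L (g * g') := by
  obtain ⟨f, hf, e⟩ := h
  obtain ⟨f', hf', e'⟩ := h'
  refine ⟨f * f', hf'.trans hf, fun x hx => ?_⟩
  obtain ⟨y, hy, a, b⟩ := e' x hx
  obtain ⟨z, hz, c, d⟩ := e y hy
  have hA := Au.of_piso hf
  refine ⟨z, hz, by rw [← c, ← a]; group, ?_⟩
  have := mul_mem d ((iv_clOne.1 (charQ (clOne hA)).2.2 _ (CW_le_Q b)).2 b)
  rwa [hA.map_mul (inv_mem hy) (hf'.maps hx), hA.map_inv hy, mul_assoc, mul_inv_cancel_left] at this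

theorem cj_piso (u : UU K) : PIso 𝓕 (Fus.cj u) (Q K) (Q K) :=
  PIso.cj 𝓕 le_top ⟨trivial, mem_Ns_of_normal _ u⟩

theorem in_ι (u : UU K) : In 𝓕 L (L.ι u) :=
  ⟨_, cj_piso u, fun x hx => ⟨_, normal_Q.conj_mem x hx u, by simp, (inv_mul_cancel (u * x * u⁻¹)).symm ▸ one_mem _⟩⟩

theorem in_n (mq : MQ 𝓕) (w : UU K) : In 𝓕 L (L.n * L.ι w * L.n⁻¹) := by
  obtain ⟨f₀, hf₀, h0⟩ := mq
  obtain ⟨f, hf, h7⟩ : ∃ f, PIso 𝓕 f (Q K) (Q K) ∧ f (x7 1) ∈ X1 K := by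
    obtain ⟨v, -, hv⟩ := (ptQ (Au.of_piso hf₀)).resolve_left h0
    exact ⟨_, hf₀.trans (cj_piso v), hv⟩
  obtain ⟨n, hn, -, e⟩ := exists_n8 K
  have q1 : x1 1 ∈ Q K := by simp
  have hg := hn.comp (Au.of_piso hf)
  have g7 : (n * f) (x7 1) ∈ Yy K := by rw [Equiv.Perm.mul_apply, e _ (hf.maps (by simp))]; exact KQ.ν8_X1 h7
  obtain ⟨v, -, hv, -⟩ := conj_X1 (u := (n * f) (x1 1))
    (fun e => by simpa using (KQ.flag hg g7 q1).1.1 ⟨e, hg.maps q1⟩)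
    (by rw [← hg.map_mul q1 q1, x1_add, CharTwo.add_self_eq_zero, x1_zero, hg.map_one])
  obtain ⟨a, b, φ, k⟩ := kQ ((Au.cj (mem_Ns_of_normal _ v)).comp hg) (normal_Yy.conj_mem _ g7 v) (X1_le_X0 hv)
  replace k : ∀ x ∈ Q K, QuotientGroup.mk' (CW K) ((torA (a, b) * frA φ) x) =
      QuotientGroup.mk' (CW K) (v * ν8 (f x) * v⁻¹) := fun x hx => QuotientGroup.eq.2 (e _ (hf.maps hx) ▸ k x hx)
  obtain ⟨s, hs⟩ := (torA (a, b) * frA φ).surjective (v * w * v⁻¹)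
  refine ⟨_, (hf.symm.trans (cj_piso s)).trans hf, fun x hx => ⟨_, ν8_mem _, Emb.cjg L w hx, ?_⟩⟩
  obtain ⟨z, hz, rfl⟩ := (Au.of_piso hf).surj hx
  have hz' := normal_Q.conj_mem z hz s
  have k2 := k _ hz'
  rw [map_mul _ (s * z), map_mul _ s z, map_inv, hs, map_mul, map_mul, k z hz, ← map_mul, ← map_mul] at k2
  have k3 : (w * ν8 (f z) * w⁻¹)⁻¹ * ν8 (f (s * z * s⁻¹)) ∈ CW K := by
    have := normal_CW.conj_mem _ (QuotientGroup.eq.1 k2) v⁻¹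
    convert this using 1
    group
  simp only [Equiv.Perm.mul_apply, perm_inv_apply, cj_apply]
  rw [← ν8_ν8 (hf.maps hz')]
  rw [inv_mul_CW] at k3 ⊢
  simp only [ν8_a1 (w * _ * _), ν8_b8, ν8_b2 (w * _ * _), ν8_a8, ν8_b6 (w * _ * _), ν8_a7 (w * _ * _), k3,
    ν8_a1 (ν8 _), ν8_b2 (ν8 _), ν8_b6 (ν8 _), ν8_a7 (ν8 _), and_self]

theorem in_hn (mq : MQ 𝓕) (δ : Kˣ) : In 𝓕 L (L.h δ * L.n) := by
  obtain ⟨-, -, e⟩ := L.rk (y8 1) (by simp) fun e => by simpa using congrArg b8 e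
  obtain ⟨γ, hγ⟩ := exists_unit_sq (δ / (ρ (y8 1)).2.1)
  have k := L.conj_h_big (ρ (y8 1)).1 (ρ (y8 1)).2.2 (ρ (y8 1)).2.1 γ
  rw [← e, hγ, mul_div_cancel, show L.h γ * (L.n * L.ι (y8 1) * L.n⁻¹) * (L.h γ)⁻¹ =
    L.n * L.ι (tl γ⁻¹ (y8 1)) * L.n⁻¹ by rw [← L.hι, ← inv_inv γ, ← L.nh γ⁻¹, inv_inv, map_inv]; group] at k
  have := ((in_ι (tl γ (ρ (y8 1)).1)⁻¹).mul (k ▸ in_n (L := L) mq _)).mul (in_ι (tl γ (ρ (y8 1)).2.2)⁻¹)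
  simpa [mul_assoc] using this

end BQ

theorem bQ {ρ : RK K} {G : Type*} [Group G] (L : Lc ρ G) (h𝓕 : 𝓕.IsSaturated 2) (nm : Nm 𝓕) (mq : MQ 𝓕) :
    NQ 𝓕 ∧ IQ 𝓕 ∧ ∀ γ, Mor 𝓕 ⊤ (tl γ) := by
  have hn := BQ.in_hn (L := L) mq 1
  rw [map_one, one_mul] at hn
  refine ⟨?_, fun f hf h => ?_, fun γ => ?_⟩
  · obtain ⟨n, h1, h2⟩ := hn
    refine ⟨n, h1, fun x hx => ?_⟩
    obtain ⟨y, -, a, b⟩ := h2 x hx
    rwa [L.inj ((L.nι hx).symm.trans a)]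
  · simpa using (std_Q h𝓕 nm hf (a := 1) (b := 1) (by simpa using h)).2
  · obtain ⟨n, h1, h2⟩ := (BQ.in_hn mq γ).mul hn
    refine (std_Q h𝓕 nm h1 fun x hx => ?_).1
    obtain ⟨y, -, a, b⟩ := h2 x hx
    rw [mul_assoc (L.h γ), L.nn, mul_one, L.hι] at a
    exact (L.inj a).symm ▸ b

end Cfsg.Lib.TF4
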