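import Cfsg.Agent.TF4.Cmp
import Cfsg.Agent.TF4.Fl

/-!
# The group `SL₂(q)` on `R / C(D)`
-/

set_option autoImplicit false
set_option linter.unusedSectionVars false
set_option linter.unusedSimpArgs false
set_option maxRecDepth 100000

namespace Cfsg.Lib.TF4

open Subgroup Function Cfsg.Lib.Fus Cfsg.Lib.Gold Cfsg.Lib.Oct Cfsg.Lib.Oct.UU
open scoped commutatorElement

variable {K : Type*} [Field K] [TwF K] [Finite K] {𝓕 : FS K} {f : Equiv.Perm (UU K)}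

theorem BR.b8_iff (h : Au (R K) f) (h2 : (f (y2 1)).b8 = 0) {x : UU K} (hx : x ∈ R K) : (f x).b8 = 0 ↔ x.b8 = 0 :=
  iv_clOne.1 (((charR (clOne h)).2.1.all (ivZ_of h h2)).congr (q := (· ∈ Pb K)) fun x hx => ⟨fun k => by
    simpa [Fl.comm_RD hx] using k (x5 1) rfl (by simp), fun k y _ hy => cPb_D k hy⟩) x hx

theorem kR (h : Au (R K) f) (h2 : (f (y2 1)).b8 = 0) (h8 : (f (y8 1)).b2 = 0) :
    ∃ (a b : Kˣ) (φ : K →+* K), ∀ x ∈ R K, (f x).b8 = b * φ x.b8 ∧ (f x).b2 = a * b * φ x.b2 := by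
  obtain ⟨iV, iD, -, iC⟩ := charR (clOne h)
  replace iV := iv_clOne.1 iV
  replace iC := iv_clOne.1 iC
  have hD : ∀ t, f (x5 t) ∈ D K := fun t => (iv_clOne.1 iD _ rfl).2 (by simp)
  have k : ∀ r ∈ R K, ∀ t, f (x6 (r.b8 * t) * x4 (r.b2 * t)) =
      x6 ((f r).b8 * (f (x5 t)).a5) * x4 ((f r).b2 * (f (x5 t)).a5) := fun r hr t => by
    rw [← Fl.comm_RD (h.maps hr) (hD t), ← h.map_comm hr rfl, Fl.comm_RD hr (by simp)]; rfl
  have k6 : ∀ s t, (f (x6 (s * t))).a6 = (f (y8 s)).b8 * (f (x5 t)).a5 := fun s t => by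
    simpa [x4_zero] using congrArg a6 (k (y8 s) rfl t)
  have k4 : ∀ s t, (f (x4 (s * t))).a4 = (f (y2 s)).b2 * (f (x5 t)).a5 := fun s t => by
    simpa [x6_zero] using congrArg a4 (k (y2 s) rfl t)
  have d1 : (f (x5 1)).a5 ≠ 0 := fun e => by
    have := hD 1
    simpa using (iV (x5 1) rfl).1 (by simp_all)
  have e8 : ∀ s, (f (y8 s)).b2 = 0 := fun s => by
    have a := congrArg a4 (k (y8 1) rfl s)
    have b := congrArg a4 (k (y8 s) rfl 1)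
    simp_all
  have e2 : ∀ s, (f (y2 s)).b8 = 0 := fun s => (BR.b8_iff h h2 rfl).2 rfl
  have l8 : (f (y8 1)).b8 ≠ 0 := fun e => by simpa using (BR.b8_iff h h2 rfl).1 e
  have l2 : (f (y2 1)).b2 ≠ 0 := fun e => by simpa using (iC (y2 1) rfl).1 ⟨h.maps rfl, h2, e⟩
  obtain ⟨φ, hφ⟩ := Fl.exists_hom (κ := fun t => (f (x6 t)).a6) (l := fun t => (f (y8 t)).b8)
    (μ := fun t => (f (x5 t)).a5) k6 d1 l8 fun s t => by
    have a := hD s
    have b := hD t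
    rw [← x5_add, h.map_mul rfl rfl]
    simp_all
  refine ⟨Units.mk0 _ (div_ne_zero l2 l8), Units.mk0 _ l8, φ, fun x hx => ?_⟩
  have hy : y8 x.b8 * y2 x.b2 ∈ R K := by simp
  have := (iC _ (mul_mem (inv_mem hy) hx)).2 (inv_mul_CD.2 (by simp [mem_R.1 hx]))
  rw [h.map_mul (inv_mem hy) hx, h.map_inv hy, h.map_mul rfl rfl, inv_mul_CD] at this
  have a1 : (f (y2 x.b2)).a1 = 0 := h.maps rfl
  rw [← this.2.1, ← this.2.2]
  simp only [mul_b8, mul_b2, e8, e2, a1, Units.val_mk0,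
    Fl.left (κ := fun t => (f (x6 t)).a6) (l := fun t => (f (y8 t)).b8) k6 d1 hφ x.b8,
    Fl.left (κ := fun t => (f (x4 t)).a4) (l := fun t => (f (y2 t)).b2) k4 d1 hφ x.b2]
  exact ⟨by simp, by field_simp; simp⟩

namespace BR

theorem std (h𝓕 : 𝓕.IsSaturated 2) (nm : Nm 𝓕) (hf : PIso 𝓕 f (R K) (R K)) {a b : Kˣ}
    (h : ∀ x ∈ R K, (f x).b8 = b * x.b8 ∧ (f x).b2 = a * b * x.b2) :
    Mor 𝓕 ⊤ (tor (a : K) (b : K)) ∧ ∃ y ∈ R K, ∀ x ∈ R K, f x = y * tor (a : K) (b : K) x * y⁻¹ := by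
  obtain ⟨g, hg, e⟩ := extR h𝓕 hf (by simpa using (h (y2 1) rfl).1)
  obtain ⟨u, a', b', φ, k⟩ := nm g hg
  have k8 := fun t => h (y8 t) rfl
  have k2 := (h (y2 1) rfl).2
  simp only [← e _ (show y8 _ ∈ R K from rfl), k, Fl.conj_b8, Fl.conj_b2] at k8
  rw [← e _ rfl, k, Fl.conj_b2] at k2
  obtain rfl : b' = b := Units.ext (by simpa using (k8 1).1)
  obtain rfl : a' = a := Units.ext (by simpa using k2)
  obtain rfl : φ = RingHom.id K := RingHom.ext fun t => by simpa using (k8 t).1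
  exact ⟨(hg.mor.conj_comp (s := u⁻¹) trivial).congr fun x _ => by simp [k, mul_assoc],
    u, by simpa using (k8 1).2, fun x hx => by rw [← e x hx, k, fr_id]⟩

variable (𝓕) in
/-- The map is induced on `R / C(D)`. -/
def In (M : K × K → K × K) : Prop :=
  ∃ f, PIso 𝓕 f (R K) (R K) ∧ ∀ x ∈ R K, ((f x).b8, (f x).b2) = M (x.b8, x.b2)

theorem In_eq_1' : type_of% @In.eq_1 := @In.eq_1

theorem In.comp {M N : K × K → K × K} (h : In 𝓕 M) (k : In 𝓕 N) : In 𝓕 (M ∘ N) := by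
  obtain ⟨f, hf, e⟩ := h
  obtain ⟨g, hg, e'⟩ := k
  exact ⟨f * g, hg.trans hf, fun x hx => by rw [Equiv.Perm.mul_apply, e _ (hg.maps hx), e' x hx]; rfl⟩

theorem cj_piso (u : UU K) : PIso 𝓕 (Fus.cj u) (R K) (R K) :=
  PIso.cj 𝓕 le_top ⟨trivial, mem_Ns_of_normal _ u⟩

theorem in_l (t : K) : In 𝓕 fun p => (p.1, p.2 + t * p.1) :=
  ⟨_, cj_piso (x1 t), fun x _ => by simp only [cj_apply, Fl.conj_b8, Fl.conj_b2]; simp⟩

theorem in_u (mr : MR 𝓕) (c : K) : In 𝓕 fun p => (p.1 + c * p.2, p.2) := by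
  obtain ⟨f₀, hf₀, h0⟩ := mr
  obtain ⟨f, hf, h2⟩ : ∃ f, PIso 𝓕 f (R K) (R K) ∧ (f (y2 1)).b2 = 0 :=
    ⟨_, hf₀.trans (cj_piso (x1 ((f₀ (y2 1)).b2 / (f₀ (y2 1)).b8))), by
      rw [Equiv.Perm.mul_apply, cj_apply, Fl.conj_b2]; simp [div_mul_cancel₀ _ h0, CharTwo.add_self_eq_zero]⟩
  obtain ⟨n, hn, -, e⟩ := exists_n1 K
  have hg := hn.comp (Au.of_piso hf)
  have g8 : ∀ x ∈ R K, ((n * f) x).b8 = (f x).b2 := fun x hx => by rw [Equiv.Perm.mul_apply, e _ (hf.maps hx), ν1_b8]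
  have g2 : ∀ x ∈ R K, ((n * f) x).b2 = (f x).b8 := fun x hx => by rw [Equiv.Perm.mul_apply, e _ (hf.maps hx), ν1_b2]
  have h8 : (f (y8 1)).b2 ≠ 0 := fun e => by
    simpa using (b8_iff hg ((g8 _ rfl).trans h2) rfl).1 ((g8 _ rfl).trans e)
  obtain ⟨t, ht⟩ : ∃ t, t * (f (y8 1)).b2 = (f (y8 1)).b8 := ⟨_, div_mul_cancel₀ _ h8⟩
  obtain ⟨a, b, φ, k⟩ := kR ((Au.cj (mem_Ns_of_normal _ (x1 t))).comp hg)
    (by rw [Equiv.Perm.mul_apply, cj_apply, Fl.conj_b8, g8 _ rfl, h2])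
    (by rw [Equiv.Perm.mul_apply, cj_apply, Fl.conj_b2, g8 _ rfl, g2 _ rfl]; simp [ht, CharTwo.add_self_eq_zero])
  replace k : ∀ x ∈ R K, (f x).b2 = b * φ x.b8 ∧ (f x).b8 + t * (f x).b2 = a * b * φ x.b2 := fun x hx => by
    have := k x hx
    rw [Equiv.Perm.mul_apply, cj_apply, Fl.conj_b8, Fl.conj_b2, g8 _ hx, g2 _ hx] at this
    simpa using this
  obtain ⟨s, hs⟩ := Finite.surjective_of_injective φ.injective (c / a)
  refine ⟨_, (hf.symm.trans (cj_piso (x1 s))).trans hf, fun x hx => ?_⟩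
  obtain ⟨z, hz, rfl⟩ := (Au.of_piso hf).surj hx
  have k1 := k z hz
  have k2 := k _ ((cj_piso (𝓕 := 𝓕) (x1 s)).maps hz)
  simp only [Equiv.Perm.mul_apply, perm_inv_apply, Prod.mk.injEq]
  generalize f (Fus.cj (x1 s) z) = w at k2
  simp only [cj_apply, Fl.conj_b8, Fl.conj_b2, x1_b8, x1_a1, zero_mul, add_zero, map_add, map_mul, hs] at k2
  have := a.ne_zero
  grind

end BR

theorem bR (h𝓕 : 𝓕.IsSaturated 2) (nm : Nm 𝓕) (mr : MR 𝓕) :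
    NR 𝓕 ∧ IR 𝓕 ∧ ∀ c : Kˣ, Mor 𝓕 ⊤ (tor ((c : K) ^ 2) (c : K)⁻¹) := by
  have w := fun c : K => ((BR.in_l c).comp (BR.in_u mr c⁻¹)).comp (BR.in_l c)
  refine ⟨?_, fun f hf h => ?_, fun c => ?_⟩
  · obtain ⟨m, hm, e⟩ := w 1
    refine ⟨m, hm, fun x hx => inv_mul_CD.2 ⟨(ν1_a1 x).trans (hm.maps hx).symm, ?_⟩⟩
    have := e x hx
    simp only [comp_apply, Prod.mk.injEq, ν1_b8, ν1_b2] at this ⊢
    grind
  · simpa using (BR.std h𝓕 nm hf (a := 1) (b := 1) fun x hx => by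
      simpa [eq_comm] using (inv_mul_CD.1 (h x hx)).2).2
  · obtain ⟨m, hm, e⟩ := (w c).comp (w 1)
    rw [← Units.val_pow_eq_pow_val, ← Units.val_inv_eq_inv_val]
    exact (BR.std h𝓕 nm hm fun x hx => by
      have := e x hx
      have := c.ne_zero
      simp only [comp_apply, Prod.mk.injEq, Units.val_pow_eq_pow_val, Units.val_inv_eq_inv_val] at *
      grind).1

theorem tr_of (h1 : ∀ γ, Mor 𝓕 ⊤ (tl γ)) (h2 : ∀ c : Kˣ, Mor 𝓕 ⊤ (tor ((c : K) ^ 2) (c : K)⁻¹)) : Tr 𝓕 := fun a b => by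
  obtain ⟨γ, hγ⟩ := Finite.surjective_of_injective ((injective_iff_map_eq_one (σu / .id Kˣ : Kˣ →* Kˣ)).2 fun γ e => by
    have e1 : σ (γ : K) = γ := congrArg Units.val (div_eq_one.1 e)
    have e2 := σσ (γ : K)
    rw [e1, e1, pow_two, left_eq_mul₀ γ.ne_zero] at e2
    exact Units.ext e2) (a * b ^ 2)
  have e : σ (γ : K) = a * b ^ 2 * γ := by simpa using congrArg Units.val (div_eq_iff_eq_mul.1 hγ)
  refine ((h2 (σu γ / b)).comp (h1 γ) fun _ _ => trivial).congr fun x _ => ?_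
  have := a.ne_zero
  have := b.ne_zero
  have := γ.ne_zero
  rw [comp_apply, tl, tor_tor, jL_fst, jL_snd, Units.val_div_eq_div_val, coe_σu, e]
  congr 2 <;> field_simp

end Cfsg.Lib.TF4
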