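import Cfsg.Agent.TF4.Gen
import Cfsg.Agent.Fus.Res

/-!
# Chain criterion, union lemma and extension lemma for essential subgroups
-/

set_option autoImplicit false
set_option linter.unusedSectionVars false
set_option linter.unusedVariables false

namespace Cfsg.Lib.TF4

open Subgroup Function Cfsg.Lib.Fus Cfsg.Lib.Gold Cfsg.Lib.Oct Cfsg.Lib.Oct.UU
open scoped commutatorElement

universe u

namespace Ch

open Cfsg.Lib.Fus.Ess

variable {E : Type*} [Group E] [Finite E] {X X' Z : Subgroup E} {a : MulAut E}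

/-- the stabiliser of a subgroup -/
def stab (Z : Subgroup E) : Subgroup (MulAut E) where
  carrier := {a | ∀ x, a x ∈ Z ↔ x ∈ Z}
  one_mem' _ := Iff.rfl
  mul_mem' h k x := (h _).trans (k x)
  inv_mem' {a} h x := by simpa using (h (a⁻¹ x)).symm

theorem mem_stab (h : ∀ x ∈ Z, a x ∈ Z) : a ∈ stab Z := fun x => ⟨fun k => by
  obtain ⟨y, hy, e⟩ := ((Set.toFinite (Z : Set E)).injOn_iff_bijOn_of_mapsTo (f := a) h).1
    a.injective.injOn |>.surjOn k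
  exact a.injective e ▸ hy, h x⟩

theorem triv_sup [Z.Normal] (h : Triv a X Z) (k : Triv a X' Z) : Triv a (X ⊔ X') Z := fun x hx =>
  QuotientGroup.eq.1 (sup_le (c := (QuotientGroup.mk' Z).eqLocus ((QuotientGroup.mk' Z).comp a.toMonoidHom))
    (fun y hy => QuotientGroup.eq.2 (h y hy)) (fun y hy => QuotientGroup.eq.2 (k y hy)) hx)

theorem odd_mem {X Y : Subgroup E} (n : ¬ X ≤ Y) (h : ∀ x, x ∈ X ∨ x ∈ Y → a x ∈ X ∨ a x ∈ Y)
    (ho : (orderOf a).Coprime 2) : a ∈ stab X := by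
  have un : ∀ W : Subgroup E, (∀ x ∈ W, x ∈ X ∨ x ∈ Y) →
      W ≤ X.comap a.toMonoidHom ∨ W ≤ Y.comap a.toMonoidHom := fun W k =>
    SubgroupClass.subset_union.1 fun x hx => h x (k x hx)
  rcases un X fun _ => Or.inl with h1 | h1
  · exact mem_stab h1
  rcases un Y fun _ => Or.inr with h2 | h2
  · have h3 : a ^ 2 ∈ stab X := mem_stab fun x hx => by rw [sq]; exact h2 (h1 hx)
    exact zpowers_le.2 h3 (mem_zpowers_pow_iff.2 ho.symm)
  · exact absurd (fun x hx => (mem_stab h2 x).1 (h1 hx)) n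

end Ch

section Gen
open Cfsg.Lib.Fus.Ess
variable {Ω : Type*} [Group Ω] [Finite Ω] {𝓕 : FusionSystem (⊤ : Subgroup Ω)} {E : Subgroup Ω}

theorem ch_of_ess (hΩ : IsPGroup 2 Ω) (hE : 𝓕.IsEssential 2 E) :
    ∀ x ∈ Ns E, (clF 𝓕 E).Stab (· = x) ⊤ → x ∈ E := fun x hx h => by
  have iv : ∀ {X : Subgroup Ω}, (clF 𝓕 E).Iv (· ∈ X) → AInv (𝓕.autGroup E) (X.subgroupOf E) :=
    fun k => aInv_of_piso le_top (iv_clF.1 k)
  have ht := autInducedBy_le_autGroup' 𝓕 le_top le_rfl (conjAut_mem_autInducedBy (mem_top x) hx)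
  have key : ∀ X, (clF 𝓕 E).Stab (· = x) X → PTr 2 (𝓕.autGroup E) (conjAut E x hx) (X.subgroupOf E) ⊥ := by
    intro X k
    induction k with
    | bot => rw [bot_subgroupOf]; exact ptr_self aInv_bot ht
    | step k1 k2 k3 ih =>
      refine (ptr_of_triv (iv k2) (iv k1.iv) ht (triv_conjAut_iff.2 fun y hy hX => ?_)).trans
        (hΩ.to_subgroup E) ih aInv_bot
      rw [inv_mul_conj_eq]
      exact comm_mem_symm (k3 x rfl _ (inv_mem hy) (inv_mem hX))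
  exact (radIn_of_essential (hΩ.to_subgroup ⊤) hE).mem_of_ptr le_top (mem_top x) hx
    (top_subgroupOf E ▸ key ⊤ h)

theorem un_of_ess (hΩ : IsPGroup 2 Ω) (h𝓕 : 𝓕.IsSaturated 2) (hE : 𝓕.IsEssential 2 E) (X Y : Subgroup Ω)
    (hX : ∀ s ∈ Ns E, ∀ x ∈ E, x ∈ X → s * x * s⁻¹ ∈ X) (h : (clF 𝓕 E).Iv fun x => x ∈ X ∨ x ∈ Y) :
    (clF 𝓕 E).Iv (· ∈ X) ∨ (E ⊓ X ≤ Y ∧ (clF 𝓕 E).Iv (· ∈ Y)) := by
  by_cases n : E ⊓ X ≤ Y
  · exact Or.inr ⟨n, h.congr fun x hx => ⟨fun k => k.elim (fun k => n ⟨hx, k⟩) id, Or.inr⟩⟩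
  refine Or.inl (iv_clF.2 fun f hf x hx k => ?_)
  obtain ⟨b, hb, t, ht, e⟩ := (sat_sylIn (hΩ.to_subgroup ⊤) h𝓕 hE.2.1).exists_resIn_mul hf.aut_mem
  have h1 : resIn 2 (𝓕.autGroup E) ≤ Ch.stab (X.subgroupOf E) := resIn_le_iff.2 fun a ha ho =>
    Ch.odd_mem (Y := Y.subgroupOf E) (fun c => n fun y hy => c (x := ⟨y, hy.1⟩) hy.2) (fun y hy => by
      have := iv_clF.1 h _ (piso_pext_of_mem le_top ha) y y.2 hy
      rwa [pext_coe] at this) ho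
  have h2 : t ∈ Ch.stab (X.subgroupOf E) := by
    obtain ⟨s, -, hs, rfl⟩ := mem_autInducedBy'.1 ht
    exact Ch.mem_stab fun y hy => hX s hs y y.2 hy
  exact ((e ▸ mul_mem (h1 hb) h2 : hf.aut ∈ Ch.stab (X.subgroupOf E)) ⟨x, hx⟩).2 k

theorem ext_of_stab (hΩ : IsPGroup 2 Ω) (h𝓕 : 𝓕.IsSaturated 2) [E.Normal] {f : Equiv.Perm Ω}
    (hf : PIso 𝓕 f E E) (hs : (clOne (Au.of_piso hf)).Stab (fun _ => True) ⊤) :
    ∃ g, PIso 𝓕 g ⊤ ⊤ ∧ ∀ x ∈ E, g x = f x := by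
  have hN : FusionSystem.normalizerIn ⊤ E = ⊤ := eq_top_iff.2 fun x _ => ⟨trivial, mem_Ns_of_normal E x⟩
  have hE : 𝓕.IsFullyNormalized E := ⟨le_top, fun Q _ => by rw [hN]; exact card_le_of_le le_top⟩
  have hT := sat_sylIn (hΩ.to_subgroup ⊤) h𝓕 hE
  obtain ⟨B, hB⟩ : ∃ B, B = autInducedBy ⊤ E ⊔ zpowers hf.aut := ⟨_, rfl⟩
  have b1 : autInducedBy ⊤ E ≤ B := hB ▸ le_sup_left
  have b2 : hf.aut ∈ B := hB ▸ mem_sup_right (mem_zpowers _)
  have key : ∀ X, (clOne (Au.of_piso hf)).Stab (fun _ => True) X → ∃ Z : Subgroup E,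
      X.subgroupOf E ≤ Z ∧ AInv B Z ∧ ∀ t ∈ autInducedBy ⊤ E, PTr 2 B t Z ⊥ := by
    intro X k
    induction k with
    | bot => exact ⟨⊥, (bot_subgroupOf E).le, aInv_bot, fun t ht => ptr_self aInv_bot (b1 ht)⟩
    | @step X Y k1 k2 k3 ih =>
      obtain ⟨Z, z1, z2, z3⟩ := ih
      have : Z.Normal := ⟨fun x hx g =>
        z2 _ (b1 (conjAut_mem_autInducedBy (mem_top (g : Ω)) (mem_Ns_of_normal E g))) x hx⟩
      have tr : ∀ t ∈ autInducedBy ⊤ E, Triv t (X.subgroupOf E ⊔ Z) Z := fun t ht => by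
        refine Ch.triv_sup ?_ (triv_self (z2 t (b1 ht)))
        obtain ⟨s, -, hs, rfl⟩ := mem_autInducedBy'.1 ht
        refine (triv_conjAut_iff.2 fun y hy hX => ?_).mono le_rfl z1
        rw [inv_mul_conj_eq]
        exact comm_mem_symm (k3 s trivial _ (inv_mem hy) (inv_mem hX))
      have iv : B ≤ Ch.stab (X.subgroupOf E ⊔ Z) := hB ▸ sup_le
        (fun t ht => Ch.mem_stab fun x hx => (tr t ht).maps le_sup_right hx)
        (zpowers_le.2 (Ch.mem_stab (sup_le (c := (X.subgroupOf E ⊔ Z).comap hf.aut.toMonoidHom)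
          (fun x hx => mem_sup_left ((iv_clOne.1 k2 x x.2).2 hx)) fun x hx => mem_sup_right (z2 _ b2 x hx))))
      have iv' : AInv B (X.subgroupOf E ⊔ Z) := fun a ha x hx => (iv ha x).2 hx
      exact ⟨_, le_sup_left, iv', fun t ht =>
        (ptr_of_triv iv' z2 (b1 ht) (tr t ht)).trans (hΩ.to_subgroup E) (z3 t ht) aInv_bot⟩
  obtain ⟨Z, z1, -, z3⟩ := key ⊤ hs
  have h1 : pCoreIn 2 B = autInducedBy ⊤ E := hT.max _
    (fun t ht => ((z3 t ht).mono ((top_subgroupOf E).ge.trans z1) le_rfl).mem_pCoreIn)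
    ((pCoreIn_le B).trans (hB ▸ sup_le hT.le (zpowers_le.2 hf.aut_mem))) (isPGroup_pCoreIn B)
  obtain ⟨g, g1, g2⟩ := exists_ext_aut (sat_receptive (hΩ.to_subgroup ⊤) h𝓕 hE) hf.aut_mem hN.ge
    fun x hx => h1 ▸ conj_mem_pCoreIn b2 (h1 ▸ conjAut_mem_autInducedBy hx _)
  exact ⟨g, g1.piso_top, fun x hx => (g2 x hx).trans (hf.pext_aut hx)⟩

end Gen

end Cfsg.Lib.TF4
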