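import Cfsg.Agent.TF4.Pt
import Cfsg.Agent.TF4.Ch

/-!
# Extension to the Sylow subgroup and comparison of systems
-/

set_option autoImplicit false
set_option linter.unusedSectionVars false
set_option maxRecDepth 100000

namespace Cfsg.Lib.TF4

open Subgroup Function Cfsg.Lib.Fus Cfsg.Lib.Gold Cfsg.Lib.Oct Cfsg.Lib.Oct.UU
open scoped commutatorElement

variable {K : Type*} [Field K] [TwF K] [Finite K] {𝓕 𝓖 : FS K} {f : Equiv.Perm (UU K)}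

theorem Cmp.stab_top (c : Cl (Q K)) (iY : c.Iv (· ∈ Yy K)) : c.Stab (fun _ => True) ⊤ :=
  (stabQ le_rfl c.iv_mem (charQ c).2.1 iY).step c.iv_top fun a _ _ hy _ => comm_mem_right (mem_Ns_of_normal _ a) hy

theorem extQ (h𝓕 : 𝓕.IsSaturated 2) (hf : PIso 𝓕 f (Q K) (Q K)) (h7 : f (x7 1) ∈ Yy K) :
    ∃ g, PIso 𝓕 g ⊤ ⊤ ∧ ∀ x ∈ Q K, g x = f x :=
  ext_of_stab (UU.isPGroup K) h𝓕 hf (Cmp.stab_top _ (ivY_of _ h7))

theorem extR (h𝓕 : 𝓕.IsSaturated 2) (hf : PIso 𝓕 f (R K) (R K)) (h2 : (f (y2 1)).b8 = 0) :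
    ∃ g, PIso 𝓕 g ⊤ ⊤ ∧ ∀ x ∈ R K, g x = f x :=
  ext_of_stab (UU.isPGroup K) h𝓕 hf (stabR _ (ivZ_of _ h2))

theorem mq_of_es (h : Es (clF 𝓕 (Q K))) : MQ 𝓕 := by_contra fun n => h.not_stab (UU.isPGroup K) (Cmp.stab_top _
  fun f hf => iv_clOne.1 (ivY_of (.of_piso hf) (by_contra fun e => n ⟨f, hf, e⟩)))

theorem mr_of_es (h : Es (clF 𝓕 (R K))) : MR 𝓕 := by_contra fun n => h.not_stab (UU.isPGroup K) (stabR _
  fun f hf => iv_clOne.1 (ivZ_of (.of_piso hf) (by_contra fun e => n ⟨f, hf, e⟩)))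

theorem Cmp.mor {E : Subgroup (UU K)} [hE : E.Normal] {ν : UU K → UU K} {n : Equiv.Perm (UU K)} (hn : Au E n)
    (nn : n * n = 1) (e : ∀ x ∈ E, n x = ν x) (m : Mor 𝓕 E ν) (m' : Mor 𝓖 E ν) (hf : PIso 𝓕 f E E) (v : UU K)
    (h : PIso 𝓕 (n * (Fus.cj v * f)) E E → Mor 𝓖 E (n * (Fus.cj v * f) : Equiv.Perm _)) : Mor 𝓖 E f := by
  have p : PIso 𝓕 n E E := ⟨m.congr fun x hx => (e x hx).symm, hn.mem⟩
  have p' := (hf.trans (PIso.cj 𝓕 le_top (s := v) ⟨trivial, mem_Ns_of_normal E v⟩)).trans p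
  refine (((h p').pmul (m'.congr fun x hx => (e x hx).symm) fun x hx => p'.maps hx).conj_comp (s := v⁻¹) trivial).congr
    fun x _ => ?_
  rw [← mul_assoc, nn, one_mul]
  simp [mul_assoc]

theorem cmp (h𝓕 : 𝓕.IsSaturated 2) (hE : ∀ E, 𝓕.IsEssential 2 E → E = Q K ∨ E = R K)
    (n : Mor 𝓕 (Q K) ν8) (n' : Mor 𝓖 (Q K) ν8) (m : Mor 𝓕 (R K) ν1) (m' : Mor 𝓖 (R K) ν1)
    (hS : ∀ f, PIso 𝓕 f ⊤ ⊤ → Mor 𝓖 ⊤ f) : 𝓕 ≤ 𝓖 := by
  have k : ∀ {E : Subgroup (UU K)} {f : Equiv.Perm (UU K)}, (∃ g, PIso 𝓕 g ⊤ ⊤ ∧ ∀ x ∈ E, g x = f x) → Mor 𝓖 E f :=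
    fun ⟨g, hg, e⟩ => ((hS g hg).restrict le_top).congr e
  refine le_of_autGroup_le_essential ((UU.isPGroup K).to_subgroup ⊤) h𝓕 fun P hP α hα => ?_
  have hf := piso_pext_of_mem le_top hα
  rw [mem_autGroup_pext le_top]
  generalize pext P α = f at hf
  rcases hP.imp_right (hE P) with rfl | rfl | rfl
  · exact hS f hf
  · rcases ptQ (.of_piso hf) with h | ⟨v, -, h⟩
    · exact k (extQ h𝓕 hf h)
    obtain ⟨ν, h1, h2, h3⟩ := exists_n8 K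
    refine Cmp.mor h1 h2 h3 n n' hf v fun p => k (extQ h𝓕 p ?_)
    rw [Equiv.Perm.mul_apply, Equiv.Perm.mul_apply, cj_apply, h3 _ (X0_le_Q (X1_le_X0 h))]
    generalize v * f (x7 1) * v⁻¹ = w at h
    obtain ⟨h1, h2, h3, h4, h5, h6, h7⟩ := h
    simp [*]
  · by_cases h : (f (y2 1)).b8 = 0
    · exact k (extR h𝓕 hf h)
    obtain ⟨ν, h1, h2, h3⟩ := exists_n1 K
    have hr : f (y2 1) ∈ R K := hf.maps (by simp)
    refine Cmp.mor h1 h2 h3 m m' hf (x1 ((f (y2 1)).b2 / (f (y2 1)).b8)) fun p => k (extR h𝓕 p ?_)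
    rw [Equiv.Perm.mul_apply, Equiv.Perm.mul_apply, cj_apply, h3 _ (normal_R.conj_mem _ hr _), ν1_b8]
    generalize f (y2 1) = w at h hr
    uus [mem_R.1 hr]
    grind

end Cfsg.Lib.TF4
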