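import Cfsg.Agent.TF4.I2

/-!
# Invariance of `Q`, and `W ≤ E`
-/

set_option autoImplicit false
set_option linter.unusedSectionVars false
set_option linter.unusedSimpArgs false
set_option linter.unusedTactic false
set_option linter.unreachableTactic false
set_option linter.unnecessarySeqFocus false
set_option maxRecDepth 100000

namespace Cfsg.Lib.TF4

open Subgroup Function Cfsg.Lib.Fus Cfsg.Lib.Gold Cfsg.Lib.Oct Cfsg.Lib.Oct.UU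
open scoped commutatorElement

variable {K : Type*} [Field K] [TwF K] [Finite K] {E : Subgroup (UU K)} {c : Cl E}

namespace I4

theorem comm_om {Ω : Type*} [Group Ω] {H : Subgroup Ω} {s x : Ω} (hs : s ∈ Ns H) (hx : x ∈ om H) :
    ⁅s, x⁆ ∈ om H := mul_mem (conj_mem_om hs hx) (inv_mem hx)

theorem sq_Z6_a5 {v : UU K} (hv : v ∈ Z6 K) : (v * v).a5 = v.b4 * v.b6 := by
  obtain ⟨h1, h2, h3, h4⟩ := hv
  uus [h1, h2, h3, h4]; grind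

theorem sq_F {f : UU K} (hf : f ∈ F K) : f * f ∈ Z5 K ∧ (f * f).a2 = σ f.b2 * f.b2 := by
  obtain ⟨h1, h2⟩ := hf
  rw [mem_Z5]
  uus [h1, h2]; and_intros <;> grind

theorem sq_Pb {u : UU K} (hu : u.b8 = 0) :
    u * u ∈ Z6 K ∧ (u * u).b6 = u.a1 * u.a8 ∧ (u * u).b4 = σ u.a1 * u.a8 := by
  rw [mem_Z6]
  uus [hu]; and_intros <;> grind

theorem sq_T (u : UU K) : u * u ∈ F K ∧ (u * u).b2 = u.a1 * u.b8 := by
  rw [mem_F]
  uus; and_intros <;> grind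

theorem sq_Q {u : UU K} (hu : u ∈ Q K) : u * u ∈ W K := by
  obtain ⟨h1, h2⟩ := hu
  rw [mem_W]
  uus [h1, h2]; and_intros <;> grind

theorem sq_CD {u : UU K} (hu : u ∈ CD K) : u * u ∈ D K := by
  obtain ⟨h1, h2, h3⟩ := hu
  rw [mem_D]
  uus [h1, h2, h3]; and_intros <;> grind

theorem four_F {v : UU K} (hv : v ∈ F K) : (v * v * (v * v)).a4 = v.a8 * v.b2 * (σ v.b2 * v.b2) := by
  obtain ⟨⟨h1, h2, h3, h4, h5, h6⟩, h7⟩ := sq_F hv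
  have h8 : (v * v).a7 = v.a8 * v.b2 := by
    obtain ⟨k1, k2⟩ := hv
    uus [k1, k2]; grind
  generalize v * v = w at *
  rw [← h7, ← h8]
  uus [h1, h2, h3, h4, h5, h6]; grind

theorem four {u : UU K} (hu : u.b8 = 0) : u ^ 4 = 1 ↔ u ∈ Q K ∨ u ∈ CD K := by
  rw [show u ^ 4 = u * u * (u * u) by simp only [pow_succ, pow_zero, one_mul, mul_assoc]]
  refine ⟨fun h => ?_, fun h => h.elim (fun k => sq_W (sq_Q k)) fun k => sq_W (D_le_W (sq_CD k))⟩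
  by_cases h8 : u.a8 = 0
  · exact .inl ⟨hu, h8⟩
  obtain ⟨k1, k2, k3⟩ := sq_Pb hu
  have k := sq_Z6_a5 k1
  rw [h, k2, k3, one_a5] at k
  have h1 : u.a1 = 0 := N1_eq_zero (by grind)
  have k' := four_F (v := u) ⟨h1, hu⟩
  rw [h, one_a4] at k'
  refine .inr ⟨h1, hu, by_contra fun h2 => h2 (N1_eq_zero ?_)⟩
  grind

theorem comm_b (e : UU K) {u : UU K} (hu : u ∈ CD K) :
    ⁅e, u⁆.b6 = e.a1 * u.a8 ∧ ⁅e, u⁆.b4 = σ e.a1 * u.a8 := by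
  obtain ⟨h1, h2, h3⟩ := hu
  uus [h1, h2, h3]; and_intros <;> grind

theorem mem_D_of {x u w : UU K} (hx : x ∈ Z5 K) (hu : u ∈ CD K) (hw : w ∈ Z6 K) (u8 : u.a8 ≠ 0) (w4 : w.b4 ≠ 0)
    (k1 : x * u = u * x) (k2 : x * w = w * x) : x ∈ D K := by
  obtain ⟨x1, x2, x3, x4, x5, x6⟩ := hx
  obtain ⟨u1, u2, u3⟩ := hu
  obtain ⟨w1, w2, w3, w5⟩ := hw
  have l1 := congrArg a5 k1
  uus [x1, x2, x3, x4, x5, x6, u1, u2, u3] at l1
  have x7 : x.a2 = 0 := by grind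
  have l2 := congrArg a6 k2
  uus [x1, x2, x3, x4, x5, x6, w1, w2, w3, w5] at l2
  have x8 : x.a7 = 0 := by grind
  have l3 := congrArg a6 k1
  uus [x1, x2, x3, x4, x5, x6, x7, x8, u1, u2, u3] at l3
  exact ⟨x1, x2, x3, x4, x5, x6, x8, x7, by grind⟩

theorem cen_z {y z : UU K} (hy : y ∈ Q K) (hz : z ∈ Yy K) (z7 : z.a7 ≠ 0) (k : z * y = y * z) :
    y.a1 = 0 ∧ y.b4 = 0 ∧ y.b6 * z.a3 = y.a2 * z.a7 := by
  obtain ⟨y1, y2⟩ := hy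
  obtain ⟨z1, z2, z3, z4, z5, z6, z8⟩ := hz
  have hσ := σ_eq_zero.not.2 z7
  have l1 := congrArg a3 k
  uus [y1, y2, z1, z2, z3, z4, z5, z6, z8] at l1
  have y3 : y.a1 = 0 := σ_eq_zero.1 (by grind)
  have l2 := congrArg a5 k
  uus [y1, y2, y3, z1, z2, z3, z4, z5, z6, z8] at l2
  have y4 : y.b2 = 0 := σ_eq_zero.1 (by grind)
  have l3 := congrArg a6 k
  uus [y1, y2, y3, y4, z1, z2, z3, z4, z5, z6, z8] at l3
  have y5 : y.b4 = 0 := by grind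
  have l4 := congrArg a4 k
  uus [y1, y2, y3, y4, y5, z1, z2, z3, z4, z5, z6, z8] at l4
  exact ⟨y3, y5, by grind⟩

theorem inv_Z5 {u : UU K} (hu : u ∈ Z6 K) (h : u * u = 1) : u ∈ Z5 K :=
  (inv_Z6 hu h).elim (fun k => W_le_Z5 k) fun k => Yy_le_Z5 k

end I4

open I4

theorem Es.ivQ (h : Es c) (hD : D K ≤ E) (hR : ¬ E ≤ R K) (iP : c.Iv (· ∈ Pb K)) : c.Iv (· ∈ Q K) := by
  refine (h.un' (Q K) (CD K) ((iP.and (c.iv_one.pow 4)).congr fun x _ => ⟨fun k => (four k.1).1 k.2, fun k =>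
    have := k.elim (fun k => Q_le_Pb k) fun k => CD_le_Pb k
    ⟨this, (four this).2 k⟩⟩)).elim id fun ⟨hQ, iC⟩ => ?_
  by_cases hE : ∀ u ∈ E, u ∈ CD K → u.a8 = 0
  · exact iC.congr fun x hx => ⟨fun k => ⟨k.2.1, hE x hx k⟩, fun k => hQ ⟨hx, k⟩⟩
  exfalso
  push Not at hE
  obtain ⟨u, hu, uC, u8⟩ := hE
  obtain ⟨e, he, e1⟩ := SetLike.not_le_iff_exists.1 hR
  rw [mem_R] at e1
  have hσ := σ_eq_zero.not.2 e1
  have hN : e ∈ Ns (E ⊓ CD K) := mem_Ns_of_comm fun y hy =>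
    ⟨comm_mem he hy.1, comm_mem_right (mem_Ns_of_normal _ e) hy.2⟩
  have iD : c.Iv (· ∈ D K) := iC.om.congr fun x hx => ⟨fun k => by
    replace k : x ∈ om (E ⊓ CD K) := k
    have k1 : ⁅e, x⁆ ∈ om (E ⊓ CD K) := comm_om hN k
    have k2 := (inv_Z5 (cT_F e (CD_le_F k.1.2)) k1.2.1).2.2.2.2.1
    rw [(comm_b e k.1.2).1] at k2
    have k3 := inv_Z5 ⟨k.1.2.1, k.1.2.2.1, k.1.2.2.2, (mul_eq_zero.1 k2).resolve_left e1⟩ k.2.1
    have hw := cT_F e (CD_le_F uC)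
    exact mem_D_of k3 uC hw u8 (by rw [(comm_b e uC).2]; exact mul_ne_zero hσ u8) (k.2.2 u ⟨hu, uC⟩)
      (k.2.2 _ ⟨comm_mem he hu, Z6_le_CD hw⟩),
    fun k => ⟨⟨hx, D_le_CD k⟩, sq_W (D_le_W k), fun y hy => (mCD_D hy.2 k).symm⟩⟩
  have hC := h.CD_le hD iD
  have hP : ∀ y ∈ E, y.b8 = 0 → y.a1 = 0 ∧ y.b2 = 0 := fun y hy y8 => by
    obtain ⟨k1, -, k2⟩ := @hQ (y * x8 y.a8) ⟨mul_mem hy (hC (by simp)), mem_Q.2 (by
      uus [y8]; and_intros <;> grind)⟩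
    uus [y8] at k1 k2
    exact ⟨k1, k2⟩
  have k := (hP _ (mul_mem he he) (sq_T e).1.2).2
  rw [(sq_T e).2] at k
  exact e1 (hP e he ((mul_eq_zero.1 k).resolve_left e1)).1

theorem Es.W_le (h : Es c) (hD : D K ≤ E) (hR : ¬ E ≤ R K) (iQ : c.Iv (· ∈ Q K)) : W K ≤ E := by
  have hz : ∀ z ∈ om (E ⊓ Q K), z ∈ Z6 K := fun z hz =>
    have := cen_D fun d hd => hz.2.2 d ⟨hD hd, D_le_Q hd⟩
    ⟨this.1, this.2.1, this.2.2, hz.1.2.2⟩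
  have hZ : Z K ≤ om (E ⊓ Q K) := fun z hz =>
    ⟨⟨hD (Z_le_D hz), Z_le_Q hz⟩, sq_W (Z_le_W hz), fun y _ => (mT_Z y hz).symm⟩
  have key : ∀ x ∈ W K, (∀ e ∈ E, ⁅x, e⁆ ∈ E) → (∀ z ∈ om (E ⊓ Q K), x * z = z * x) → x ∈ E :=
    fun x hx k1 k2 => h.mem_of k1 (((Cl.stab_of_comm iQ.om fun y _ hy => k2 y hy).st iQ
      fun y _ hy => hZ (comm_mem_symm (cQ_W hy hx))).top
      fun y _ => comm_mem_left (W_le_Q hx) (mem_Ns_of_normal _ y))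
  have h4 : Z4 K ≤ E := fun x hx => key x (Z4_le_W hx) (fun e _ => hD (comm_mem_symm (cT_Z4 e hx)))
    fun z k => (mZ5_Z4 (inv_Z5 (hz z k) k.2.1) hx).symm
  by_cases hW : om (E ⊓ Q K) ≤ W K
  · exact fun x hx => key x hx (fun e _ => h4 (comm_mem_symm (cT_Z5 e (W_le_Z5 hx))))
      fun z k => (mCW_W (W_le_CW (hW k)) hx).symm
  exfalso
  obtain ⟨z, z1, z2⟩ := SetLike.not_le_iff_exists.1 hW
  have z3 := (inv_Z6 (hz z z1) z1.2.1).resolve_left z2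
  have z7 : z.a7 ≠ 0 := fun e => z2 ⟨z3.1, z3.2.1, z3.2.2.1, z3.2.2.2.1, z3.2.2.2.2.1, z3.2.2.2.2.2.1, e⟩
  have hy := fun y hy hq => cen_z hq z3 z7 (z1.2.2 y ⟨hy, hq⟩)
  obtain ⟨e, he, e1⟩ := SetLike.not_le_iff_exists.1 hR
  rw [mem_R] at e1
  by_cases e8 : e.b8 = 0
  · obtain ⟨k1, -, k2⟩ := sq_Pb e8
    have k := (hy _ (mul_mem he he) (Z6_le_Q k1)).2.1
    rw [k2] at k
    exact e1 (hy e he ⟨e8, (mul_eq_zero.1 k).resolve_left (σ_eq_zero.not.2 e1)⟩).1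
  · obtain ⟨k1, k2⟩ := sq_T e
    obtain ⟨k3, k4⟩ := sq_F k1
    have k := (hy _ (mul_mem (mul_mem he he) (mul_mem he he)) (Z6_le_Q (Z5_le_Z6 k3))).2.2
    rw [k3.2.2.2.2.1, zero_mul, k4, k2] at k
    exact mul_ne_zero e1 e8 (N1_eq_zero ((mul_eq_zero.1 k.symm).resolve_right z7))

end Cfsg.Lib.TF4
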