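import Cfsg.Agent.TF4.Tab

/-!
# Essential subgroups of the unipotent group: invariance of `W`
-/

set_option autoImplicit false
set_option linter.unusedSectionVars false
set_option linter.unusedVariables false
set_option linter.unusedSimpArgs false
set_option maxRecDepth 100000

namespace Cfsg.Lib.TF4

open Subgroup Function Cfsg.Lib.Fus Cfsg.Lib.Gold Cfsg.Lib.Oct Cfsg.Lib.Oct.UU
open scoped commutatorElement

variable {K : Type*} [Field K] [TwF K] [Finite K]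

namespace I6

theorem x4_inj : Injective (x4 : K → UU K) := fun _ _ e => by simpa using congrArg a4 e

theorem ncard_x4 : (Set.range (x4 : K → UU K)).ncard = Nat.card K := by
  rw [← Nat.card_coe_set_eq, Nat.card_range_of_injective x4_inj]

theorem full {u : UU K} (hu : u ∈ Q K) (hc : u ∉ CW K) (t : K) : ∃ w ∈ W K, x4 t = ⁅u, w⁆ := by
  obtain ⟨b8, a8⟩ := hu
  by_cases h1 : u.a1 = 0
  · by_cases h2 : u.b2 = 0
    · by_cases h3 : u.b6 = 0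
      · have h4 : u.a7 ≠ 0 := fun h4 => hc ⟨h1, b8, h2, a8, h3, h4⟩
        obtain ⟨s, rfl⟩ : ∃ s, t = s * u.a7 := ⟨_, (div_mul_cancel₀ _ h4).symm⟩
        refine ⟨x2 s, by simp, ?_⟩
        rw [commutatorElement_def, mul_assoc, ← mul_inv_rev, eq_mul_inv_iff_mul_eq]
        uu [b8, a8]
      · obtain ⟨s, rfl⟩ : ∃ s, t = s * u.b6 := ⟨_, (div_mul_cancel₀ _ h3).symm⟩
        refine ⟨x3 s, by simp, ?_⟩
        rw [commutatorElement_def, mul_assoc, ← mul_inv_rev, eq_mul_inv_iff_mul_eq]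
        uu [b8, a8]
    · obtain ⟨s, rfl⟩ : ∃ s, t = s * u.b2 := ⟨_, (div_mul_cancel₀ _ h2).symm⟩
      refine ⟨x5 s, by simp, ?_⟩
      rw [commutatorElement_def, mul_assoc, ← mul_inv_rev, eq_mul_inv_iff_mul_eq]
      uu [b8, a8]
  · obtain ⟨s, rfl⟩ : ∃ s, t = s * u.a1 := ⟨_, (div_mul_cancel₀ _ h1).symm⟩
    refine ⟨x6 s, by simp, ?_⟩
    rw [commutatorElement_def, mul_assoc, ← mul_inv_rev, eq_mul_inv_iff_mul_eq]
    uu [b8, a8]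

theorem le_Z6 {u y : UU K} (hu : u ∈ Yy K) (h7 : u.a7 ≠ 0) (hy : y ∈ Q K) (h : ⁅u, y⁆ ∈ Z K) : y ∈ Z6 K := by
  obtain ⟨-, -, -, -, -, -, -, -, e3, e5, -⟩ := comm_Z.1 h
  obtain ⟨a0, a1, a2, a3, a4, a5, a6⟩ := hu
  obtain ⟨b8, a8⟩ := hy
  uus [a0, a1, a2, a3, a4, a5, a6, b8, a8] at e3
  have k1 : y.a1 = 0 := σ_eq_zero.1 (by grind)
  uus [a0, a1, a2, a3, a4, a5, a6, b8, a8, k1] at e5
  exact ⟨k1, b8, σ_eq_zero.1 (by grind), a8⟩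

theorem le_X {u y : UU K} (hu : u ∈ X1 K) (h1 : u.a1 ≠ 0) (hy : y ∈ Q K) (h : ⁅u, y⁆ ∈ Z K) :
    y.b6 = 0 ∧ y.b4 = 0 ∧ y.a7 = 0 := by
  obtain ⟨-, -, -, -, -, -, -, e2, e3, e5, -⟩ := comm_Z.1 h
  obtain ⟨a0, a1, a2, a3, a4, a5, a6⟩ := hu
  obtain ⟨b8, a8⟩ := hy
  uus [a0, a1, a2, a3, a4, a5, a6, b8, a8] at e5
  have k7 : y.a7 = 0 := σ_eq_zero.1 (by grind)
  uus [a0, a1, a2, a3, a4, a5, a6, b8, a8, k7] at e3
  have k6 : y.b6 = 0 := σ_eq_zero.1 (by grind)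
  uus [a0, a1, a2, a3, a4, a5, a6, b8, a8, k7, k6] at e2
  exact ⟨k6, by grind, k7⟩

theorem inv_X {x : UU K} (hx : x ∈ Q K) (k6 : x.b6 = 0) (k4 : x.b4 = 0) (k7 : x.a7 = 0) (h : x * x = 1) :
    x ∈ W K ∨ x ∈ X1 K := by
  have e := congrArg a2 h
  obtain ⟨b8, a8⟩ := hx
  uus [b8, a8, k6, k4, k7] at e
  have k2 : x.b2 = 0 := N1_eq_zero (by grind)
  by_cases h1 : x.a1 = 0
  · exact .inl ⟨h1, b8, k2, a8, k6, k4, k7⟩
  · exact .inr (inv_X0 ⟨b8, a8⟩ k2 k6 h1 h)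

variable {E : Subgroup (UU K)} {c : Cl E}

theorem caseX (h : Es c) (iQ : c.Iv (· ∈ Q K)) (hW : W K ≤ E) {u : UU K} (hu : u ∈ X1 K) (h1 : u.a1 ≠ 0)
    (k : ∀ y ∈ E, y ∈ Q K → ⁅u, y⁆ ∈ Z K) : c.Iv (· ∈ W K) := by
  refine (h.un' (W K) (X1 K) ((iQ.and c.iv_sq).congr fun x hx => ⟨fun ⟨hQ, h2⟩ => ?_, ?_⟩)).resolve_right
    fun hh => ?_
  · obtain ⟨k6, k4, k7⟩ := le_X hu h1 hQ (k x hx hQ)
    exact inv_X hQ k6 k4 k7 h2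
  · rintro (e | e)
    · exact ⟨W_le_Q e, sq_W e⟩
    · exact ⟨X0_le_Q (X1_le_X0 e), sq_X1 e⟩
  · simpa using @hh.1 (x6 1) ⟨hW (by simp), by simp⟩

theorem caseY (h : Es c) (iQ : c.Iv (· ∈ Q K)) (hW : W K ≤ E) {u : UU K} (hu : u ∈ Yy K) (h7 : u.a7 ≠ 0)
    (k : ∀ y ∈ E, y ∈ Q K → ⁅u, y⁆ ∈ Z K) : c.Iv (· ∈ W K) := by
  refine (h.un' (W K) (Yy K) ((iQ.and c.iv_sq).congr fun x hx => ⟨fun ⟨hQ, h2⟩ => ?_, ?_⟩)).resolve_right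
    fun hh => ?_
  · exact inv_Z6 (le_Z6 hu h7 hQ (k x hx hQ)) h2
  · rintro (e | e)
    · exact ⟨W_le_Q e, sq_W e⟩
    · exact ⟨Yy_le_Q e, sq_Yy e⟩
  · simpa using @hh.1 (x2 1) ⟨hW (by simp), by simp⟩

end I6

variable {E : Subgroup (UU K)} {c : Cl E}

theorem Es.ivW (h : Es c) (iQ : c.Iv (· ∈ Q K)) (hW : W K ≤ E) : c.Iv (· ∈ W K) := by
  have i0 := (iQ.and c.iv_sq).and (iQ.cnt (Nat.card K))
  by_cases h0 : ∀ u ∈ E, (u ∈ Q K ∧ u * u = 1) ∧ {z | ∃ y ∈ E, y ∈ Q K ∧ z = ⁅u, y⁆}.ncard ≤ Nat.card K → u ∈ W K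
  · refine i0.congr fun x hx => ⟨h0 x hx, fun e => ⟨⟨W_le_Q e, sq_W e⟩, ?_⟩⟩
    rw [← I6.ncard_x4]
    refine Set.ncard_le_ncard ?_
    rintro _ ⟨y, -, hy, rfl⟩
    exact ⟨_, (eq_of_mem_Z (comm_mem_symm (cQ_W hy e))).symm⟩
  push Not at h0
  obtain ⟨u, hu, ⟨⟨hQ, h2⟩, hc⟩, hn⟩ := h0
  have k : ∀ y ∈ E, y ∈ Q K → ⁅u, y⁆ ∈ Z K := fun y hy hy' => by
    have e : Set.range (x4 : K → UU K) = {z | ∃ y ∈ E, y ∈ Q K ∧ z = ⁅u, y⁆} := by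
      refine Set.eq_of_subset_of_ncard_le ?_ (I6.ncard_x4 (K := K) ▸ hc)
      rintro _ ⟨t, rfl⟩
      obtain ⟨w, hw, e⟩ := I6.full hQ (fun hh => hn (inv_CW hh h2)) t
      exact ⟨w, hW hw, W_le_Q hw, e⟩
    obtain ⟨t, ht⟩ : ⁅u, y⁆ ∈ Set.range (x4 : K → UU K) := e ▸ ⟨y, hy, hy', rfl⟩
    rw [← ht]; simp
  by_cases h1 : u.a1 = 0
  · obtain ⟨-, -, b2⟩ := inv_R h1 h2
    have hY := (inv_Z6 ⟨h1, hQ.1, b2, hQ.2⟩ h2).resolve_left hn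
    refine I6.caseY h iQ hW hY (fun h7 => hn ?_) k
    obtain ⟨a0, a1, a2, a3, a4, a5, a6⟩ := hY
    exact ⟨a0, a1, a2, a3, a4, a5, h7⟩
  · obtain ⟨v, -, hv, e⟩ := conj_X1 h1 h2
    have cQ : ∀ x, v * x * v⁻¹ ∈ Q K ↔ x ∈ Q K := fun x => (mem_normalizer_iff.1 (mem_Ns_of_normal _ v) x).symm
    have cW : ∀ x, v * x * v⁻¹ ∈ W K ↔ x ∈ W K := fun x => (mem_normalizer_iff.1 (mem_Ns_of_normal _ v) x).symm
    have := I6.caseX (h.map (MulAut.conj v)) (Cl.iv_map.2 (iQ.congr fun x _ => (cQ x).symm))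
      (fun w hw => mem_map_conj.2 (hW (by simpa using normal_W.conj_mem _ hw v⁻¹))) hv (e ▸ h1)
      fun y hy hy' => by
        have k1 := normal_Z.conj_mem _ (k _ (mem_map_conj.1 hy) (by simpa using normal_Q.conj_mem _ hy' v⁻¹)) v
        convert k1 using 1
        simp only [commutatorElement_def]
        group
    exact (Cl.iv_map.1 this).congr fun x _ => cW x

end Cfsg.Lib.TF4
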