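import Cfsg.Agent.TF4.Nu

/-!
# Essential subgroups of the unipotent group: `Q ≤ E`, `Q7 ≤ E`, the central involutions
-/

set_option autoImplicit false
set_option linter.unusedSectionVars false
set_option linter.unusedVariables false
set_option linter.unusedSimpArgs false
set_option maxRecDepth 100000

namespace Cfsg.Lib.TF4

open Subgroup Function Cfsg.Lib.Fus Cfsg.Lib.Gold Cfsg.Lib.Oct Cfsg.Lib.Oct.UU
open scoped commutatorElement

variable {K : Type*} [Field K] [TwF K] [Finite K]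

namespace I7

variable {u v : UU K}

theorem comm_V6 (hu : u ∈ R K) (hv : v ∈ R K) :
    ⁅u, v⁆ ∈ V6 K ↔ ⁅u, v⁆ ∈ V K ∧ (u * v).a4 = (v * u).a4 := by
  have e : u * v = ⁅u, v⁆ * (v * u) := by simp [commutatorElement_def, mul_assoc]
  have h1 : (v * u).a1 = 0 := mul_mem hv hu
  rw [e]
  generalize ⁅u, v⁆ = c
  generalize v * u = w at h1
  constructor
  · intro h
    refine ⟨V6_le_V h, ?_⟩
    rw [eq_of_mem_V6 h]
    uus [h1]
  · rintro ⟨h, k⟩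
    rw [eq_of_mem_V h] at k ⊢
    uus [h1] at k
    have : c.a4 = 0 := by grind
    simp [this]

theorem cCW7_R (hu : u ∈ CW7 K) (hv : v ∈ R K) : ⁅u, v⁆ ∈ W7 K := by
  obtain ⟨h1, h2, h3, h4, h5, h6⟩ := hu
  rw [mem_R] at hv
  rw [mem_W7]
  uus [h1, h2, h3, h4, h5, h6, hv]
  grind

theorem cW7_R (hu : u ∈ W7 K) (hv : v ∈ R K) : ⁅u, v⁆ ∈ Y7 K := by
  obtain ⟨h1, h2, h3, h4, h5, h6, h7⟩ := hu
  rw [mem_R] at hv
  rw [mem_Y7]
  uus [h1, h2, h3, h4, h5, h6, h7, hv]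
  grind

theorem cQ7_W7 (hu : u ∈ Q7 K) (hv : v ∈ W7 K) : ⁅u, v⁆ ∈ V6 K := by
  rw [comm_V6 (Q7_le_R hu) (CD_le_R (W7_le_CD hv)), comm_V]
  obtain ⟨h1, h2, h3⟩ := hu
  obtain ⟨k1, k2, k3, k4, k5, k6, k7⟩ := hv
  uus [h1, h2, h3, k1, k2, k3, k4, k5, k6, k7]
  grind

theorem cQ7_Q7 (hu : u ∈ Q7 K) (hv : v ∈ Q7 K) : ⁅u, v⁆ ∈ W7 K := by
  obtain ⟨h1, h2, h3⟩ := hu
  obtain ⟨k1, k2, k3⟩ := hv
  rw [mem_W7]
  uus [h1, h2, h3, k1, k2, k3]
  grind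

theorem cQ7_R (hu : u ∈ Q7 K) (hv : v ∈ R K) : ⁅u, v⁆ ∈ Q7 K := by
  obtain ⟨h1, h2, h3⟩ := hu
  rw [mem_R] at hv
  rw [mem_Q7]
  uus [h1, h2, h3, hv]
  grind

theorem cen_W7 (hu : u ∈ R K) (h : ∀ w ∈ W7 K, u * w = w * u) : u ∈ CW7 K := by
  rw [mem_R] at hu
  have e8 := h (x8 1) (by simp)
  have f7 := congrArg a7 e8
  have f5 := congrArg a5 e8
  have f6 := congrArg a6 e8
  have g6 := congrArg a6 (h (x7 1) (by simp))
  have k6 := congrArg a6 (h (x5 1) (by simp))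
  uus [hu] at f7 k6
  have b2 : u.b2 = 0 := by grind
  have b8 : u.b8 = 0 := by grind
  uus [hu, b2, b8] at f5 f6 g6
  exact ⟨hu, b8, b2, by grind, by grind, by grind⟩

end I7

variable {E : Subgroup (UU K)} {c : Cl E}

theorem Es.Q_le (h : Es c) (hW : W K ≤ E) (iW : c.Iv (· ∈ W K)) : Q K ≤ E := by
  have hC : CW K ≤ E := fun x hx =>
    h.mem_of_two iW hW (fun e _ => comm_mem_symm (cT_CW e hx)) fun y hy => mCW_W hx hy
  have iC : c.Iv (· ∈ CW K) := iW.cent.congr fun x _ =>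
    ⟨fun k => cen_W fun w hw => k w (hW hw) hw, fun k y _ hy => mCW_W k hy⟩
  have iZ : c.Iv (· ∈ Z K) := iC.sqs.congr fun x _ =>
    ⟨fun ⟨a, _, ha, e⟩ => by rw [e, sq_CW ha]; simp, fun k => by
      obtain ⟨t, ht⟩ := exists_N1 x.a4
      have h1 : y4 t ∈ CW K := by simp
      exact ⟨_, hC h1, h1, by rw [sq_CW h1, y4_b4, mul_comm, ht, ← eq_of_mem_Z k]⟩⟩
  have iQ : c.Iv (· ∈ Q K) := (iW.all iZ).congr fun x _ => ⟨fun k => by
    obtain ⟨-, -, -, -, -, -, -, -, -, e5, e6⟩ := comm_Z.1 (k (x3 1) (hW (by simp)) (by simp))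
    uus at e5
    have b8 : x.b8 = 0 := σ_eq_zero.1 (by grind)
    uus [b8] at e6
    exact ⟨b8, by grind⟩, fun k y _ hy => cQ_W k hy⟩
  exact h.le_of_normal (UU.isPGroup K) _ fun x hx _ =>
    (((Cl.stab_of_comm iZ fun y _ hy => mT_Z x hy).st iW fun y _ hy => cQ_W hx hy).st iQ
      fun y _ hy => cQ_Q hx hy).top fun y _ => comm_mem_left hx (mem_Ns_of_normal _ _)

theorem Es.Q7_le (h : Es c) (hR : E ≤ R K) (hW : W7 K ≤ E) (iW : c.Iv (· ∈ W7 K)) : Q7 K ≤ E := by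
  have hC : CW7 K ≤ E := fun x hx =>
    h.mem_of_two iW hW (fun e he => I7.cCW7_R hx (hR he)) fun y hy => mCW7_W7 hx hy
  have iC : c.Iv (· ∈ CW7 K) := iW.cent.congr fun x hx =>
    ⟨fun k => I7.cen_W7 (hR hx) fun w hw => k w (hW hw) hw, fun k y _ hy => mCW7_W7 k hy⟩
  have iZ : c.Iv (· ∈ V6 K) := iC.sqs.congr fun x _ =>
    ⟨fun ⟨a, _, ha, e⟩ => by rw [e, sq_CW7 ha]; simp, fun k => by
      obtain ⟨t, ht⟩ := exists_N1 x.a6
      have h1 : y6 t ∈ CW7 K := by simp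
      exact ⟨_, hC h1, h1, by rw [sq_CW7 h1, y6_b6, mul_comm, ht, ← eq_of_mem_V6 k]⟩⟩
  have iQ : c.Iv (· ∈ Q7 K) := (iW.all iZ).congr fun x hx => ⟨fun k => by
    have a1 : x.a1 = 0 := hR hx
    obtain ⟨k1, e4⟩ := (I7.comm_V6 (hR hx) (by simp)).1 (k (x7 1) (hW (by simp)) (by simp))
    obtain ⟨-, -, -, -, -, -, -, -, -, e5⟩ := comm_V.1 k1
    uus [a1] at e5
    have b2 : x.b2 = 0 := σ_eq_zero.1 (by grind)
    uus [a1, b2] at e4
    exact ⟨a1, b2, by grind⟩, fun k y _ hy => I7.cQ7_W7 k hy⟩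
  exact h.le_of (UU.isPGroup K)
    (fun e he => mem_Ns_of_comm fun y hy => comm_mem_symm (I7.cQ7_R hy (hR he))) fun x hx _ =>
    (((Cl.stab_of_comm iZ fun y _ hy => mR_V (Q7_le_R hx) (V6_le_V hy)).st iW
      fun y _ hy => I7.cQ7_W7 hx hy).st iQ fun y _ hy => I7.cQ7_Q7 hx hy).top
      fun y hy => I7.cQ7_R hx (hR hy)

namespace I7

theorem case2 (h : Es c) (hD : D K ≤ E) (hR : E ≤ R K) {z : UU K} (zW : z ∈ W K) (z2 : z.a2 ≠ 0)
    (k : ∀ y ∈ E, y * y = 1 → z * y = y * z) : False := by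
  have iW : c.Iv (· ∈ W K) := c.iv_sq.congr fun y hy => ⟨fun y2 => by
    obtain ⟨a1, b8, b2⟩ := inv_R (hR hy) y2
    obtain ⟨k1, k2, k3, k4, k5, k6, k7⟩ := zW
    have e5 := congrArg a5 (k y hy y2)
    have e4 := congrArg a4 (k y hy y2)
    uus [a1, b8, b2, k1, k2, k3, k4, k5, k6, k7] at e5
    have a8 : y.a8 = 0 := by grind
    refine (inv_Z6 ⟨a1, b8, b2, a8⟩ y2).elim id fun ⟨_, _, _, _, b6, b4, _⟩ => ?_
    uus [a1, b8, b2, a8, b6, b4, k1, k2, k3, k4, k5, k6, k7] at e4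
    exact ⟨a1, b8, b2, a8, b6, b4, by grind⟩, sq_W⟩
  have h4 : Z4 K ≤ E := fun x hx => h.mem_of_two iW.inf_left inf_le_left
    (fun e _ => have := comm_mem_symm (cT_Z4 e hx); ⟨hD this, D_le_W this⟩)
    fun y hy => mCW_W (W_le_CW (Z4_le_W hx)) hy.2
  have hW : W K ≤ E := fun x hx => h.mem_of_two iW.inf_left inf_le_left
    (fun e _ => have := comm_mem_symm (cT_Z5 e (W_le_Z5 hx)); ⟨h4 this, Z4_le_W this⟩)
    fun y hy => mCW_W (W_le_CW hx) hy.2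
  simpa using hR (h.Q_le hW iW (x := x1 1) (by simp))

theorem case7 (h : Es c) (hD : D K ≤ E) (hR : E ≤ R K) {z : UU K} (zW : z ∈ W7 K) (z8 : z.a8 ≠ 0)
    (k : ∀ y ∈ E, y * y = 1 → z * y = y * z) : False := by
  have key : ∀ y ∈ E, y * y = 1 → y ∈ W7 K := fun y hy y2 => by
    obtain ⟨a1, b8, b2⟩ := inv_R (hR hy) y2
    obtain ⟨k1, k2, k3, k4, k5, k6, k7⟩ := zW
    have e5 := congrArg a5 (k y hy y2)
    have e6 := congrArg a6 (k y hy y2)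
    have f5 := congrArg a5 y2
    have f6 := congrArg a6 y2
    have f4 := congrArg a4 y2
    uus [a1, b8, b2, k1, k2, k3, k4, k5, k6, k7] at e5
    have a2 : y.a2 = 0 := by grind
    uus [a1, b8, b2, a2, k1, k2, k3, k4, k5, k6, k7] at e6 f5 f6 f4
    have b4 : y.b4 = 0 := by
      by_cases b6 : y.b6 = 0
      · exact N1_eq_zero (by grind)
      · grind
    have a3 : y.a3 = 0 := by grind
    exact ⟨a1, b8, b2, N1_eq_zero (by grind), b4, a2, a3⟩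
  have iW : c.Iv (· ∈ W7 K) := c.iv_sq.congr fun y hy => ⟨key y hy, sq_W7⟩
  have h7 : Y7 K ≤ E := fun x hx => h.mem_of_two iW.inf_left inf_le_left
    (fun e he => have := comm_mem_symm (cR_Yy (hR he) (Y7_le_Yy hx)); ⟨hD this, Y7_le_W7 (D_le_Y7 this)⟩)
    fun y hy => mW7_W7 (Y7_le_W7 hx) hy.2
  have hW : W7 K ≤ E := fun x hx => h.mem_of_two iW.inf_left inf_le_left
    (fun e he => have := cW7_R hx (hR he); ⟨h7 this, Y7_le_W7 this⟩)
    fun y hy => mW7_W7 hx hy.2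
  simpa using key (x3 1) (h.Q7_le hR hW iW (by simp)) (sq_W (by simp))

end I7

theorem Es.om_le (h : Es c) (hD : D K ≤ E) (hR : E ≤ R K) : om (inv2 E) ≤ Yy K := by
  intro z hz
  obtain ⟨zE, z2, k⟩ := mem_om_inv2.1 hz
  by_contra zY
  by_cases z8 : z.a8 = 0
  · obtain ⟨a1, b8, b2⟩ := inv_R (hR zE) z2
    have zW := (inv_Z6 ⟨a1, b8, b2, z8⟩ z2).resolve_right zY
    refine I7.case2 h hD hR zW (fun a2 => zY ?_) k
    obtain ⟨-, -, -, -, b6, b4, -⟩ := zW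
    exact ⟨a1, b8, b2, z8, b6, b4, a2⟩
  · obtain ⟨t, h1, h2⟩ := conj_W7 (hR zE) z8 z2
    refine I7.case7 (h.map (MulAut.conj (x1 t))) (fun x hx => mem_map_conj.2 (hD ?_))
      (fun x hx => ?_) h1 (h2 ▸ z8) fun y hy y2 => ?_
    · simpa using normal_D.conj_mem x hx (x1 t)⁻¹
    · simpa [mul_assoc] using normal_R.conj_mem _ (hR (mem_map_conj.1 hx)) (x1 t)
    · have := k _ (mem_map_conj.1 hy) (by
        calc (x1 t)⁻¹ * y * x1 t * ((x1 t)⁻¹ * y * x1 t) = (x1 t)⁻¹ * (y * y) * x1 t := by group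
          _ = 1 := by rw [y2]; group)
      calc x1 t * z * (x1 t)⁻¹ * y = x1 t * (z * ((x1 t)⁻¹ * y * x1 t)) * (x1 t)⁻¹ := by group
        _ = y * (x1 t * z * (x1 t)⁻¹) := by rw [this]; group

end Cfsg.Lib.TF4
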