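import Cfsg.Agent.TF4.Tab

/-!
# Essential subgroups of the unipotent group: invariance of `D` when `E ≤ R`
-/

set_option autoImplicit false
set_option linter.unusedSectionVars false
set_option linter.unusedVariables false
set_option linter.unusedSimpArgs false
set_option maxRecDepth 100000

namespace Cfsg.Lib.TF4

open Subgroup Function Cfsg.Lib.Fus Cfsg.Lib.Gold Cfsg.Lib.Oct Cfsg.Lib.Oct.UU
open scoped commutatorElement

variable {K : Type*} [Field K] [TwF K] [Finite K]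

namespace I9

theorem rel {w y : UU K} (hw : w ∈ Yy K) (hy : y ∈ CD K) (h : w * y = y * w) :
    y.a8 * w.a3 + y.b4 * w.a7 = 0 ∧ y.b6 * w.a3 + y.a2 * w.a7 = 0 := by
  have e6 := congrArg a6 h
  have e4 := congrArg a4 h
  obtain ⟨a0, a1, a2, a3, a4, a5, a6⟩ := hw
  obtain ⟨b0, b1, b2⟩ := hy
  uus [a0, a1, a2, a3, a4, a5, a6, b0, b1, b2] at e6 e4
  constructor <;> grind

theorem inv_YW {y : UU K} (hy : y ∈ CD K) (k4 : y.b4 = 0) (k2 : y.a2 = 0) (h : y * y = 1) :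
    y ∈ Yy K ∨ y ∈ W7 K := by
  have e6 := congrArg a6 h
  have e4 := congrArg a4 h
  obtain ⟨b0, b1, b2⟩ := hy
  uus [b0, b1, b2, k4, k2] at e6 e4
  have k6 : y.b6 = 0 := by
    rcases eq_or_ne y.a3 0 with e | e
    · exact N1_eq_zero (by grind)
    · grind
  rw [mem_Yy, mem_W7]
  grind

theorem sq_CD {a : UU K} (ha : a ∈ CD K) : a * a ∈ D K := by
  obtain ⟨b0, b1, b2⟩ := ha
  rw [mem_D]
  uus [b0, b1, b2]
  and_intros <;> grind

theorem c8 {w : UU K} (hw : w ∈ Yy K) : ⁅x8 (1 : K), w⁆ = x6 w.a3 := by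
  obtain ⟨a0, a1, a2, a3, a4, a5, a6⟩ := hw
  rw [commutatorElement_def, mul_assoc, ← mul_inv_rev, mul_inv_eq_iff_eq_mul]
  uu [a0, a1, a2, a3, a4, a5, a6]

theorem c4 {w : UU K} (hw : w ∈ Yy K) : ⁅y4 (1 : K), w⁆ = x6 w.a7 := by
  obtain ⟨a0, a1, a2, a3, a4, a5, a6⟩ := hw
  rw [commutatorElement_def, mul_assoc, ← mul_inv_rev, mul_inv_eq_iff_eq_mul]
  uu [a0, a1, a2, a3, a4, a5, a6]

theorem comm_a5 {y r : UU K} (hy : y ∈ Yy K) (hr : r ∈ R K) : ⁅y, r⁆.a5 = σ r.b8 * y.a3 + σ r.b2 * y.a7 := by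
  have e : ⁅y, r⁆ * (r * y) = y * r := by rw [commutatorElement_def]; group
  obtain ⟨d0, d1, d2, d3, d4, d5, d6, d7, d8⟩ := mem_D.1 (comm_mem_symm (cR_Yy hr hy))
  generalize ⁅y, r⁆ = d at *
  have e5 := congrArg a5 e
  obtain ⟨a0, a1, a2, a3, a4, a5, a6⟩ := hy
  rw [mem_R] at hr
  uus [a0, a1, a2, a3, a4, a5, a6, d0, d1, d2, d3, d4, d5, d6, d7, d8, hr] at e5
  grind

theorem ex_a5 {r : UU K} (hr : r ∈ R K) (hc : r ∉ CD K) (t : K) : ∃ y ∈ Yy K, ⁅y, r⁆.a5 = t := by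
  by_cases h8 : r.b8 = 0
  · have h2 : σ r.b2 ≠ 0 := fun e => hc ⟨hr, h8, σ_eq_zero.1 e⟩
    refine ⟨x7 (t / σ r.b2), by simp, ?_⟩
    rw [comm_a5 (by simp) hr]
    simp [mul_div_cancel₀ _ h2]
  · have h2 : σ r.b8 ≠ 0 := fun e => h8 (σ_eq_zero.1 e)
    refine ⟨x3 (t / σ r.b8), by simp, ?_⟩
    rw [comm_a5 (by simp) hr]
    simp [mul_div_cancel₀ _ h2]

theorem mem_V_of {d r : UU K} (hd : d ∈ D K) (hr : r ∈ R K) (hc : r ∉ CD K) (h : d * r = r * d) : d ∈ V K := by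
  have e6 := congrArg a6 h
  have e4 := congrArg a4 h
  obtain ⟨d0, d1, d2, d3, d4, d5, d6, d7, d8⟩ := hd
  rw [mem_R] at hr
  uus [d0, d1, d2, d3, d4, d5, d6, d7, d8, hr] at e6 e4
  refine ⟨d0, d1, d2, d3, d4, d5, d6, d7, d8, by_contra fun k => hc ⟨hr, ?_, ?_⟩⟩ <;> grind

variable {E : Subgroup (UU K)} {c : Cl E}

theorem ivY (h : Es c) (hR : E ≤ R K) (hY : Yy K ≤ E) {w : UU K} (hw : w ∈ Yy K) (hD : w ∉ D K)
    (k : ∀ y ∈ E, y * y = 1 → w * y = y * w) : c.Iv (· ∈ Yy K) := by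
  by_cases h7 : w.a7 = 0
  · have h3 : w.a3 ≠ 0 := fun h3 => by
      obtain ⟨a0, a1, a2, a3, a4, a5, a6⟩ := hw
      exact hD ⟨a0, a1, a2, a3, a4, a5, h7, a6, h3⟩
    refine (h.un' (Yy K) (W K) (c.iv_sq.congr fun x hx => ⟨fun h2 => ?_, ?_⟩)).resolve_right fun hh => ?_
    · have hc := inv_R (hR hx) h2
      obtain ⟨e, -⟩ := rel hw hc (k x hx h2)
      exact (inv_Z6 ⟨hc.1, hc.2.1, hc.2.2, by grind⟩ h2).symm
    · rintro (e | e)
      exacts [sq_Yy e, sq_W e]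
    · simpa using @hh.1 (x7 1) ⟨hY (by simp), by simp⟩
  · obtain ⟨s, hs⟩ := exists_σ (w.a3 / w.a7)
    have hs' : σ s * w.a7 = w.a3 := by rw [hs, div_mul_cancel₀ _ h7]
    have w3 : (x1 s * w * (x1 s)⁻¹).a3 = 0 := by
      obtain ⟨a0, a1, a2, a3, a4, a5, a6⟩ := hw
      uus [a0, a1, a2, a3, a4, a5, a6]
      grind
    have w7 : (x1 s * w * (x1 s)⁻¹).a7 = w.a7 := by
      obtain ⟨a0, a1, a2, a3, a4, a5, a6⟩ := hw
      uus [a0, a1, a2, a3, a4, a5, a6]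
      try grind
    refine (h.un' (Yy K) ((W7 K).comap (MulAut.conj (x1 s)).toMonoidHom)
      (c.iv_sq.congr fun x hx => ⟨fun h2 => ?_, ?_⟩)).resolve_right fun hh => ?_
    · have hc := normal_CD.conj_mem _ (inv_R (hR hx) h2) (x1 s)
      obtain ⟨e, e'⟩ := rel (normal_Yy.conj_mem _ hw (x1 s)) hc (by rw [conj_mul, conj_mul, k x hx h2])
      rw [w3, w7, mul_zero, zero_add, mul_eq_zero] at e e'
      refine (inv_YW hc (e.resolve_right h7) (e'.resolve_right h7) (by rw [conj_mul, h2]; simp)).imp_left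
        fun e => ?_
      simpa [mul_assoc] using normal_Yy.conj_mem _ e (x1 s)⁻¹
    · rintro (e | e)
      · exact sq_Yy e
      · have := sq_W7 (u := x1 s * x * (x1 s)⁻¹) e
        rwa [conj_mul, conj_eq_one_iff] at this
    · have : x1 s * x3 1 * (x1 s)⁻¹ ∈ W7 K := @hh.1 (x3 1) ⟨hY (by simp), by simp⟩
      have e := this.2.2.2.2.2.2
      uus at e
      simp at e

theorem step2 (h : Es c) (hR : E ≤ R K) (hY : Yy K ≤ E) (iY : c.Iv (· ∈ Yy K)) {y : UU K} (hy : y ∈ Yy K)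
    (k : ∀ e ∈ E, e ∈ CD K → y * e = e * y) : y ∈ D K := by
  by_contra hD
  have key : ∀ (s : UU K) (g : K × K → UU K), s ∈ CD K → s ∉ E → (∀ i, g i ∈ CD K) →
      (∀ i j, (g i)⁻¹ * g j ∈ E → i = j) → (∀ w ∈ Yy K, ∃ j, ⁅s, w⁆ = x6 j) → False := fun s g h1 h2 h3 h4 h5 => by
    have := h.mb' (A := CD K) iY hY h2 (fun e he => comm_mem_symm (cR_CD (hR he) h1))
      (fun a ha e he => hY (comm_mem_symm (cR_CD (hR he) ha))) (fun a ha => hY (D_le_Yy (sq_CD ha))) g h3 h4 x6 h5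
    rw [Nat.card_prod] at this
    have h1 : 1 < Nat.card K := Finite.one_lt_card
    nlinarith
  by_cases h3 : y.a3 = 0
  · have h7 : y.a7 ≠ 0 := fun h7 => by
      obtain ⟨a0, a1, a2, a3, a4, a5, a6⟩ := hy
      exact hD ⟨a0, a1, a2, a3, a4, a5, h7, a6, h3⟩
    refine key (y4 1) (fun i => y4 i.1 * x2 i.2) (by simp) (fun e => ?_) (fun i => by simp) (fun i j e => ?_)
      fun w hw => ⟨_, c4 hw⟩
    · have := (rel hy (by simp) (k _ e (by simp))).1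
      simp [h7] at this
    · have hc : (y4 i.1 * x2 i.2)⁻¹ * (y4 j.1 * x2 j.2) ∈ CD K := mul_mem (inv_mem (by simp)) (by simp)
      obtain ⟨e1, e2⟩ := rel hy hc (k _ e hc)
      rw [h3, mul_zero, zero_add, mul_eq_zero] at e1 e2
      replace e1 := e1.resolve_right h7
      replace e2 := e2.resolve_right h7
      uus at e1 e2
      exact Prod.ext (by grind) (by grind)
  · refine key (x8 1) (fun i => x8 i.1 * y6 i.2) (by simp) (fun e => ?_) (fun i => by simp) (fun i j e => ?_)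
      fun w hw => ⟨_, c8 hw⟩
    · have := (rel hy (by simp) (k _ e (by simp))).1
      simp [h3] at this
    · have hc : (x8 i.1 * y6 i.2)⁻¹ * (x8 j.1 * y6 j.2) ∈ CD K := mul_mem (inv_mem (by simp)) (by simp)
      obtain ⟨e1, e2⟩ := rel hy hc (k _ e hc)
      uus at e1 e2
      exact Prod.ext (by grind) (by grind)

end I9

variable {E : Subgroup (UU K)} {c : Cl E}

theorem Es.ivD (h : Es c) (hD : D K ≤ E) (hR : E ≤ R K) (hO : om (inv2 E) ≤ Yy K) : c.Iv (· ∈ D K) := by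
  have hOE : om (inv2 E) ≤ E := fun x hx => (mem_om_inv2.1 hx).1
  have hDO : D K ≤ om (inv2 E) := fun x hx =>
    mem_om_inv2.2 ⟨hD hx, sq_W (D_le_W hx), fun y hy h2 => (mCD_D (inv_R (hR hy) h2) hx).symm⟩
  have hY : Yy K ≤ E := fun x hx => h.mem_of_two c.iv_om_inv2 hOE
    (fun e he => hDO (comm_mem_symm (cR_Yy (hR he) hx))) fun y hy => mYy_Yy hx (hO hy)
  by_cases h0 : om (inv2 E) ≤ D K
  · exact c.iv_om_inv2.congr fun x _ => ⟨fun k => h0 k, fun k => hDO k⟩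
  obtain ⟨w, hw, hw'⟩ := SetLike.not_le_iff_exists.1 h0
  have iY := I9.ivY h hR hY (hO hw) hw' (mem_om_inv2.1 hw).2.2
  by_cases h1 : E ≤ CD K
  · exact (iY.and c.iv_center).congr fun x _ => ⟨fun k => I9.step2 h hR hY iY k.1 fun e he _ => k.2 e he,
      fun k => ⟨D_le_Yy k, fun y hy => (mCD_D (h1 hy) k).symm⟩⟩
  obtain ⟨r, hr, hr'⟩ := SetLike.not_le_iff_exists.1 h1
  have iV : c.Iv (· ∈ V K) := (iY.and c.iv_center).congr fun x _ =>
    ⟨fun k => I9.mem_V_of (I9.step2 h hR hY iY k.1 fun e he _ => k.2 e he) (hR hr) hr' (k.2 r hr),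
      fun k => ⟨V_le_Yy k, fun y hy => (mR_V (hR hy) k).symm⟩⟩
  refine ((iY.comm (c.iv_const True)).mul iV).congr fun x hx => ⟨?_, fun k => ?_⟩
  · rintro ⟨_, -, b, -, ⟨y, -, e, he, hy, -, rfl⟩, hb, rfl⟩
    exact mul_mem (comm_mem_symm (cR_Yy (hR he) hy)) (V_le_D hb)
  · obtain ⟨y, hy, e⟩ := I9.ex_a5 (hR hr) hr' x.a5
    have hd := comm_mem_symm (cR_Yy (hR hr) hy)
    refine ⟨_, hD hd, ⁅y, r⁆⁻¹ * x, mul_mem (inv_mem (hD hd)) hx, ⟨y, hY hy, r, hr, hy, trivial, rfl⟩, ?_, (mul_inv_cancel_left _ _).symm⟩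
    obtain ⟨d0, d1, d2, d3, d4, d5, d6, d7, d8⟩ := hd
    obtain ⟨k0, k1, k2, k3, k4, k5, k6, k7, k8⟩ := k
    exact inv_mul_V.2 ⟨d0.trans k0.symm, d1.trans k1.symm, d2.trans k2.symm, d3.trans k3.symm, d4.trans k4.symm,
      d5.trans k5.symm, d6.trans k6.symm, d7.trans k7.symm, d8.trans k8.symm, e⟩

end Cfsg.Lib.TF4
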