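import Cfsg.Agent.TF4.Gen
import Cfsg.Agent.Bender.F2Dim

/-!
# The `𝔽₂`-module of the sections of an invariant subgroup
-/

set_option autoImplicit false
set_option linter.unusedSectionVars false
set_option linter.unusedVariables false

namespace Cfsg.Lib.TF4

open Subgroup Function Cfsg.Lib.Fus Cfsg.Lib.Gold Cfsg.Lib.Oct Cfsg.Lib.Oct.UU
open scoped commutatorElement

universe u

namespace Mod

open Cfsg.Lib.Bender Cfsg.Lib.Fus.Ess Cfsg.Lib.Solv

section R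

variable {G : Type u} [Group G] {K K' : G → Prop} {c c' : G → ℕ}

/-- there is a module with kernel `K` in which `[V, s]` has order `c s` -/
def R (K : G → Prop) (c : G → ℕ) : Prop :=
  ∃ (V : Type u) (_ : AddCommGroup V) (_ : Module (ZMod 2) V) (_ : Module.Finite (ZMod 2) V)
    (ρ : Representation (ZMod 2) G V), (∀ a, ρ a = 1 ↔ K a) ∧
      ∀ s, (LinearMap.range (ρ s - 1) : Set V).ncard = c s

theorem R.one (h : R K c) {s : G} (k : K s) : c s = 1 := by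
  obtain ⟨V, _, _, _, ρ, h1, h2⟩ := h
  rw [← h2, (h1 s).2 k, sub_self, LinearMap.range_zero]
  simp

theorem R.prod (h : R K c) (h' : R K' c') : R (fun a => K a ∧ K' a) fun s => c s * c' s := by
  obtain ⟨V, _, _, _, ρ, h1, h2⟩ := h
  obtain ⟨W, _, _, _, σ, k1, k2⟩ := h'
  refine ⟨V × W, inferInstance, inferInstance, inferInstance, ρ.prod σ, fun a => ?_, fun s => ?_⟩
  · beta_reduce
    rw [← h1, ← k1]
    refine ⟨fun e => ⟨LinearMap.ext fun v => ?_, LinearMap.ext fun w => ?_⟩, fun e => ?_⟩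
    · exact congrArg Prod.fst (LinearMap.congr_fun e (v, 0))
    · exact congrArg Prod.snd (LinearMap.congr_fun e (0, w))
    · show (ρ a).prodMap (σ a) = 1
      rw [e.1, e.2, LinearMap.prodMap_one]
  · beta_reduce
    rw [← h2, ← k2, ← Set.ncard_prod]
    congr 1
    ext ⟨v, w⟩
    constructor
    · rintro ⟨⟨x, y⟩, e⟩
      exact ⟨⟨x, congrArg Prod.fst e⟩, y, congrArg Prod.snd e⟩
    · rintro ⟨⟨x, e⟩, y, e'⟩
      exact ⟨(x, y), Prod.ext e e'⟩

theorem R.aut {Q : Type u} [Group Q] [Finite Q] (h2 : ∀ x : Q, x * x = 1) (φ : G →* MulAut Q) :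
    R (fun a => φ a = 1) fun s => {z | ∃ y, z = φ s y * y⁻¹}.ncard := by
  let _ : CommGroup Q := { ‹Group Q› with
    mul_comm := fun x y => by
      rw [← inv_eq_of_mul_eq_one_right (h2 (x * y)), mul_inv_rev, inv_eq_of_mul_eq_one_right (h2 x),
        inv_eq_of_mul_eq_one_right (h2 y)] }
  let _ : Module (ZMod 2) (Additive Q) := AddCommGroup.zmodModule fun b => by
    rw [two_nsmul]; exact h2 b.toMul
  let ρ : Representation (ZMod 2) G (Additive Q) :=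
    { toFun := fun a => (MonoidHom.toAdditive (φ a).toMonoidHom).toZModLinearMap 2
      map_one' := LinearMap.ext fun b => by rw [map_one]; rfl
      map_mul' := fun a b => LinearMap.ext fun x => by rw [map_mul]; rfl }
  refine ⟨Additive Q, inferInstance, inferInstance, Module.Finite.of_finite, ρ, fun a => ?_, fun s => ?_⟩
  · exact ⟨fun e => MulEquiv.ext fun x => LinearMap.congr_fun e (Additive.ofMul x),
      fun e => LinearMap.ext fun x => MulEquiv.congr_fun e x.toMul⟩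
  · refine Set.ncard_congr (fun x _ => x.toMul) ?_ (fun _ _ _ _ e => e) ?_
    · rintro _ ⟨y, rfl⟩
      exact ⟨y.toMul, div_eq_mul_inv _ _⟩
    · rintro _ ⟨y, rfl⟩
      exact ⟨_, ⟨Additive.ofMul y, rfl⟩, div_eq_mul_inv _ _⟩

end R

variable {E : Type u} [Group E] [Finite E] {𝒜 : Subgroup (MulAut E)} {B X X' : Subgroup E}

/-- the commutators of `s` with elements of `X` -/
def D (s : MulAut E) (X : Subgroup E) : Set E := {z | ∃ y ∈ X, z = s y * y⁻¹}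

theorem count (hX : AInv 𝒜 X) (hX' : AInv 𝒜 X') (le : X' ≤ X) [n : X'.Normal] (s : 𝒜) :
    {z | ∃ y, z = secHom hX hX' s y * y⁻¹}.ncard * (D s.1 X').ncard ≤ (D s.1 X).ncard := by
  have : ∀ z : X ⧸ X'.subgroupOf X, ∃ y : X, z ∈ {z | ∃ y, z = secHom hX hX' s y * y⁻¹} →
      z = QuotientGroup.mk (⟨s.1 y, hX s s.2 y y.2⟩ * y⁻¹) := fun z => by
    by_cases h : z ∈ {z | ∃ y, z = secHom hX hX' s y * y⁻¹}
    · obtain ⟨y, rfl⟩ := h
      induction y using QuotientGroup.induction_on with | H y => exact ⟨y, fun _ => rfl⟩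
    · exact ⟨1, fun k => absurd k h⟩
  choose r hr using this
  rw [← Set.ncard_prod]
  refine Set.ncard_le_ncard_of_injOn (fun p => s.1 (r p.1) * p.2 * (r p.1 : E)⁻¹) ?_ ?_ (Set.toFinite _)
  · rintro ⟨z, _⟩ ⟨-, y, hy, rfl⟩
    exact ⟨r z * y, mul_mem (r z).2 (le hy), by simp only [map_mul, mul_inv_rev, mul_assoc]⟩
  · have m : ∀ w ∈ D s.1 X', w ∈ X' := by
      rintro _ ⟨y, hy, rfl⟩
      exact mul_mem (hX' s s.2 y hy) (inv_mem hy)
    rintro ⟨z, w⟩ ⟨hz, hw⟩ ⟨z', w'⟩ ⟨hz', hw'⟩ e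
    obtain rfl : z = z' := by
      rw [hr z hz, hr z' hz', QuotientGroup.eq, mem_subgroupOf]
      have := mul_mem (n.conj_mem _ (m w hw) (r z)) (n.conj_mem _ (inv_mem (m w' hw')) (r z'))
      have e' : s.1 (r z') = s.1 (r z) * w * (r z : E)⁻¹ * r z' * w'⁻¹ := by
        rw [show s.1 (r z) * w * (r z : E)⁻¹ = _ from e]; group
      convert this using 1
      simp only [coe_mul, coe_inv, e']
      group
    simpa using e

theorem normal (hI : Inn E ≤ 𝒜) (hX : AInv 𝒜 X) : X.Normal :=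
  ⟨fun x hx g => hX (MulAut.conj g) (hI ⟨g, rfl⟩) x hx⟩

theorem step (hE : IsPGroup 2 E) (hI : Inn E ≤ 𝒜) (hB : AInv 𝒜 B) (hX : AInv 𝒜 X) (lt : B < X) :
    ∃ X', AInv 𝒜 X' ∧ B ≤ X' ∧ X' < X ∧ ⁅X, ⊤⁆ ≤ X' ∧ ∀ x ∈ X, x * x ∈ X' := by
  have := normal hI hB
  have := normal hI hX
  obtain ⟨K, _, h1, h2, h3⟩ := PG.exists_normal_step_down hE lt
  refine ⟨B ⊔ ⁅X, ⊤⁆ ⊔ powerClosure 2 1 X, (hB.sup (hX.commutator aInv_top)).sup (hX.powerClosure 1),
    le_sup_left.trans le_sup_left, lt_of_le_of_lt (sup_le (sup_le h1 ?_) ?_) h2,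
    le_sup_right.trans le_sup_left, fun x hx => mem_sup_right ?_⟩
  · exact (PG.commutator_le_of_card_eq_prime_mul (PG.isPGroup_top hE) (hE.to_subgroup X)
      le_normalizer_of_normal le_normalizer_of_normal h2.le h3).1
  · refine PG.powerClosure_le_iff.2 fun x hx => ?_
    have := pow_relIndex_mem K hx
    rwa [PG.relIndex_eq_of_card_eq_mul h2.le h3] at this
  · simpa only [pow_one, sq] using PG.pow_mem_powerClosure (p := 2) (n := 1) hx

theorem ind (hE : IsPGroup 2 E) (hI : Inn E ≤ 𝒜) (hB : AInv 𝒜 B) (X : Subgroup E) :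
    AInv 𝒜 X → B ≤ X → ∃ (K : 𝒜 → Prop) (c : 𝒜 → ℕ), R K c ∧ (∀ α : 𝒜, α.1 ∈ Inn E → K α) ∧
      (∀ α, K α → (orderOf α.1).Coprime 2 → Triv α.1 X B) ∧ (∀ s, c s ≤ (D s.1 X).ncard) ∧
      ∀ s : 𝒜, Triv s.1 X B → K s := by
  induction X using WellFoundedLT.induction with | _ X ih => ?_
  intro hX le
  rcases le.eq_or_lt with rfl | lt
  · have h := R.aut (Q := PUnit.{u + 1}) (fun _ => rfl) (1 : 𝒜 →* MulAut PUnit)
    refine ⟨_, _, h, fun _ _ => rfl, fun α _ _ => triv_self (hB α α.2), fun s => ?_, fun _ _ => rfl⟩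
    rw [h.one (s := s) rfl]
    exact (Set.ncard_pos (Set.toFinite _)).2 ⟨_, 1, one_mem _, rfl⟩
  obtain ⟨X', hX', h1, h2, h3, h4⟩ := step hE hI hB hX lt
  obtain ⟨K, c, r, k1, k2, k3, k4⟩ := ih X' h2 hX' h1
  have := normal hI hX'
  refine ⟨_, _, (R.aut (fun x => ?_) (secHom hX hX')).prod r, fun α hα => ⟨?_, k1 α hα⟩,
    fun α hα ho => ((secHom_eq_one_iff hX hX' α).1 hα.1).trans hE ho (k2 α hα.2 ho) (hB α α.2),
    fun s => (Nat.mul_le_mul_left _ (k3 s)).trans (count hX hX' h2.le s),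
    fun s hs => ⟨(secHom_eq_one_iff hX hX' s).2 (hs.mono le_rfl h1), k4 s (hs.mono h2.le le_rfl)⟩⟩
  · induction x using QuotientGroup.induction_on with | H x => ?_
    exact (QuotientGroup.eq_one_iff (x * x)).2 (h4 x x.2)
  · obtain ⟨g, e⟩ := hα
    refine (secHom_eq_one_iff hX hX' α).2 fun x hx => ?_
    have := h3 (commutator_mem_commutator (inv_mem hx) (mem_top g))
    rw [← e]
    simpa only [commutatorElement_def, inv_inv, MulAut.conj_apply, mul_assoc] using this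

end Mod

section Mod
open Cfsg.Lib.Bender Cfsg.Lib.Fus.Ess
theorem exists_mod {E : Type u} [Group E] [Finite E] (hE : IsPGroup 2 E) {𝒜 : Subgroup (MulAut E)}
    (hI : Inn E ≤ 𝒜) {Y : Subgroup E} (hY : AInv 𝒜 Y) :
    ∃ (V : Type u) (_ : AddCommGroup V) (_ : Module (ZMod 2) V) (_ : Module.Finite (ZMod 2) V)
      (ρ : Representation (ZMod 2) 𝒜 V), (∀ α : 𝒜, α.1 ∈ Inn E → ρ α = 1) ∧
      (∀ α : 𝒜, ρ α = 1 → α.1 ∈ pCoreIn 2 𝒜) ∧
      ∀ s : 𝒜, Triv s.1 ⊤ Y → 2 ^ F2.cod ρ s ≤ {z | ∃ y ∈ Y, z = s.1 y * y⁻¹}.ncard := by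
  obtain ⟨K, c, r, k1, k2, -, k4⟩ := Mod.ind hE hI hY ⊤ aInv_top le_top
  obtain ⟨K', c', r', l1, l2, l3, -⟩ := Mod.ind hE hI aInv_bot Y hY bot_le
  obtain ⟨V, _, _, _, ρ, h1, h2⟩ := r.prod r'
  refine ⟨V, _, _, ‹_›, ρ, fun α h => (h1 α).2 ⟨k1 α h, l1 α h⟩, fun α h => PT.mem_pCoreIn
    ⟨ρ.ker.map 𝒜.subtype, map_subtype_le _, ?_, ⟨α, h, rfl⟩, ?_⟩, fun s hs => ?_⟩
  · rintro a ha _ ⟨b, hb, rfl⟩
    exact ⟨_, (MonoidHom.normal_ker ρ).conj_mem b hb ⟨a, ha⟩, rfl⟩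
  · rintro _ ⟨b, hb, rfl⟩ ho
    have := (h1 b).1 hb
    exact triv_top_bot_iff.1 ((k2 b this.1 ho).trans hE ho (l2 b this.2 ho) (aInv_bot b.1 b.2))
  · have := h2 s
    beta_reduce at this
    rw [r.one (k4 s hs), one_mul] at this
    rw [F2.cod, ← F2.card_sub]
    exact this.le.trans (l3 s)
end Mod

end Cfsg.Lib.TF4
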