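import Cfsg.Agent.TF4.Se
import Cfsg.Agent.TF4.Mod
import Cfsg.Agent.Fus.EssBridge
import Cfsg.Agent.Local.StronglyEmb

/-!
# The module bound and the centre condition for an essential subgroup
-/

set_option autoImplicit false
set_option linter.unusedSectionVars false
set_option linter.unusedVariables false

namespace Cfsg.Lib.TF4

open Subgroup Function Cfsg.Lib.Fus Cfsg.Lib.Gold Cfsg.Lib.Oct Cfsg.Lib.Oct.UU
open scoped commutatorElement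

variable {Ω : Type*} [Group Ω] [Finite Ω] {𝓕 : FusionSystem (⊤ : Subgroup Ω)} {E : Subgroup Ω}

namespace Mb

/-- conjugation as a map into the automorphism group in the system -/
def cA (𝓕 : FusionSystem (⊤ : Subgroup Ω)) (E : Subgroup Ω) : Ns E →* 𝓕.autGroup E where
  toFun x := ⟨conjAut E x.1 x.2, conjAut_mem_autGroup 𝓕 le_top (mem_top _) x.2⟩
  map_one' := Subtype.ext (by ext y; simp)
  map_mul' x y := Subtype.ext (conjAut_mul x.2 y.2)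

/-- conjugation as a map into the outer automorphism group -/
def th (𝓕 : FusionSystem (⊤ : Subgroup Ω)) (E : Subgroup Ω)
    [((Inn E).subgroupOf (𝓕.autGroup E)).Normal] :
    Ns E →* 𝓕.autGroup E ⧸ (Inn E).subgroupOf (𝓕.autGroup E) :=
  (QuotientGroup.mk' _).comp (cA 𝓕 E)

theorem th_eq_one [((Inn E).subgroupOf (𝓕.autGroup E)).Normal] (hc : 𝓕.IsCentric E) (x : Ns E) :
    th 𝓕 E x = 1 ↔ (x : Ω) ∈ E := by
  have := conjAut_mem_inn_iff (S := ⊤) (isCentric_self hc) le_top (a := x.1) ⟨mem_top _, x.2⟩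
  rw [← this]
  simp only [th, MonoidHom.comp_apply, QuotientGroup.mk'_apply, QuotientGroup.eq_one_iff,
    mem_subgroupOf]
  rfl

theorem exists_syl [((Inn E).subgroupOf (𝓕.autGroup E)).Normal] (hΩ : IsPGroup 2 Ω) :
    ∃ S : Sylow 2 (𝓕.autGroup E ⧸ (Inn E).subgroupOf (𝓕.autGroup E)),
      ∀ x, th 𝓕 E x ∈ (S : Subgroup _) := by
  have h : IsPGroup 2 (th 𝓕 E).range :=
    (hΩ.to_subgroup (Ns E)).of_surjective (th 𝓕 E).rangeRestrict (th 𝓕 E).rangeRestrict_surjective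
  obtain ⟨S, hS⟩ := h.exists_le_sylow
  exact ⟨S, fun x => hS ⟨x, rfl⟩⟩

end Mb

open Mb in
theorem mb_of_ess (hΩ : IsPGroup 2 Ω) (h𝓕 : 𝓕.IsSaturated 2) (hE : 𝓕.IsEssential 2 E)
    (Y A : Subgroup Ω) (s : Ω) (h1 : (clF 𝓕 E).Iv (· ∈ Y)) (h2 : Y ≤ E) (h3 : s ∈ Ns E) (h4 : s ∉ E)
    (h5 : ∀ e ∈ E, ⁅s, e⁆ ∈ Y) (h6 : A ≤ Ns E) (h7 : ∀ a ∈ A, a * a ∈ E) :
    E.relIndex A ≤ {z | ∃ y ∈ Y, z = ⁅s, y⁆}.ncard := by
  have : Fact (Nat.Prime 2) := ⟨Nat.prime_two⟩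
  have hrad := (isRadical_iff.1 (isRadical_of_isEssential (hΩ.to_subgroup ⊤) hE)).2
  obtain ⟨hc, -, hn, H, hH⟩ := hE
  rw [Local.isStronglyPEmbedded_iff_se] at hH
  obtain ⟨S, hS⟩ := exists_syl (𝓕 := 𝓕) (E := E) hΩ
  obtain ⟨V, _, _, _, ρ, hρ1, hρ2, hρ3⟩ := exists_mod (hΩ.to_subgroup E) (inn_le_autGroup 𝓕 le_top)
    (Ess.aInv_of_piso (F := 𝓕) (X := Y) le_top (iv_clF.1 h1))
  let ρ' : Representation (ZMod 2) (𝓕.autGroup E ⧸ (Inn E).subgroupOf (𝓕.autGroup E)) V :=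
    QuotientGroup.lift _ ρ fun α hα => hρ1 α (mem_subgroupOf.1 hα)
  have hinj : Injective ρ' := by
    rw [injective_iff_map_eq_one]
    intro g hg
    obtain ⟨α, rfl⟩ := QuotientGroup.mk_surjective g
    rw [QuotientGroup.eq_one_iff, mem_subgroupOf, ← hrad]
    exact hρ2 α hg
  let φ := (th 𝓕 E).comp (inclusion h6)
  have hker : φ.ker = E.subgroupOf A := by
    ext a
    rw [MonoidHom.mem_ker, mem_subgroupOf]
    exact th_eq_one hc _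
  have hcard : E.relIndex A = Nat.card φ.range := by
    rw [← index_ker, hker]; rfl
  have hb := se_cod hH S ρ' hinj (A := φ.range) (by rintro _ ⟨a, rfl⟩; exact hS _)
    (by
      rintro _ ⟨a, rfl⟩
      rw [← map_mul]
      exact (th_eq_one hc _).2 (h7 a a.2))
    (hS ⟨s, h3⟩) (fun h => h4 ((th_eq_one hc _).1 h))
  have ht := hρ3 (cA 𝓕 E ⟨s, h3⟩) (Ess.triv_conjAut_top_iff.2 fun x hx => by
    rw [Ess.inv_mul_conj_eq]
    exact comm_mem_symm (h5 _ (E.inv_mem hx)))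
  rw [hcard]
  refine hb.trans (ht.trans (le_of_eq ?_))
  rw [← Set.ncard_image_of_injective _ E.subtype_injective]
  congr 1
  ext z
  constructor
  · rintro ⟨_, ⟨y, hy, rfl⟩, rfl⟩
    exact ⟨y, hy, by simp [cA, commutatorElement_def]⟩
  · rintro ⟨y, hy, rfl⟩
    exact ⟨_, ⟨⟨y, h2 hy⟩, hy, rfl⟩, by simp [cA, commutatorElement_def]⟩

open Mb in
theorem ci_of_ess (hΩ : IsPGroup 2 Ω) (h𝓕 : 𝓕.IsSaturated 2) (hE : 𝓕.IsEssential 2 E) :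
    ∀ a ∈ Ns E, ∀ b ∈ Ns E, a * a ∈ E → b * b ∈ E → ⁅a, b⁆ ∈ E → a ∉ E → b ∉ E → a * b ∉ E →
      ∀ x ∈ Ns E, ∀ y ∈ Ns E, x * x ∈ E → ⁅x, y⁆ ∈ E := by
  have : Fact (Nat.Prime 2) := ⟨Nat.prime_two⟩
  obtain ⟨hc, -, hn, H, hH⟩ := hE
  rw [Local.isStronglyPEmbedded_iff_se] at hH
  obtain ⟨S, hS⟩ := exists_syl (𝓕 := 𝓕) (E := E) hΩ
  intro a ha b hb a2 b2 hab a1 b1 ab1 x hx y hy x2
  have sq : ∀ u : Ns E, (u : Ω) * u ∈ E → th 𝓕 E u * th 𝓕 E u = 1 := fun u hu => by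
    rw [← map_mul]; exact (th_eq_one hc _).2 hu
  have cm : ∀ u v : Ns E, ⁅(u : Ω), (v : Ω)⁆ ∈ E ↔ th 𝓕 E u * th 𝓕 E v = th 𝓕 E v * th 𝓕 E u :=
    fun u v => by
      rw [← commutatorElement_eq_one_iff_mul_comm, ← map_commutatorElement, th_eq_one hc]
      rfl
  exact (cm ⟨x, hx⟩ ⟨y, hy⟩).2 (se_ci hH S (hS ⟨a, ha⟩) (hS ⟨b, hb⟩) (sq ⟨a, ha⟩ a2) (sq ⟨b, hb⟩ b2)
    ((cm ⟨a, ha⟩ ⟨b, hb⟩).1 hab) (fun h => a1 ((th_eq_one hc _).1 h))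
    (fun h => b1 ((th_eq_one hc _).1 h))
    (fun h => ab1 ((th_eq_one hc (⟨a, ha⟩ * ⟨b, hb⟩)).1 (by rw [map_mul]; exact h)))
    (hS _) (hS _) (sq ⟨x, hx⟩ x2))

end Cfsg.Lib.TF4
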