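import Cfsg.Agent.TF4.Gen
import Cfsg.Agent.Oct.StepC3A

/-!
# Fusion systems on a Sylow 2-subgroup of ²F₄(q): rigidity of torus-equivariant automorphisms
-/

set_option autoImplicit false
set_option linter.unusedSectionVars false
set_option maxRecDepth 100000

namespace Cfsg.Lib.TF4

open Subgroup Function Cfsg.Lib.Fus Cfsg.Lib.Gold Cfsg.Lib.Oct Cfsg.Lib.Oct.UU
open scoped commutatorElement

variable {K : Type*} [Field K] [TwF K] [Finite K] {f : Equiv.Perm (UU K)}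

namespace Rig

open C3

variable {E : Subgroup (UU K)}

theorem fix7 {a b : K} (hab : a * b ^ 2 * σ b = 1) (hb : b ≠ 1) {u : UU K} (h : tor a b u = u) :
    u ∈ U7 K := by
  simp only [UU.ext_iff, tor_a1, tor_b8, tor_b2, tor_a8, tor_b6, tor_b4, tor_a7, tor_a2, tor_a3,
    tor_a5, tor_a6, tor_a4] at h
  obtain ⟨h1, h2, h3, h4, h5, h6, -, h8, h9, h10, h11, h12⟩ := h
  have hs : σ a * σ b ^ 2 * b ^ 2 = 1 := by
    rw [← σσ b, ← map_pow, ← map_mul, ← map_mul, hab, map_one]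
  exact ⟨z0 h1 fun e => hb (eq_one_of_N2 (by grind)), z0 h2 hb,
    z0 h3 fun e => hb (eq_one_of_N1 (by grind)), z0 h4 fun e => hb (eq_one_of_N1 e),
    z0 h5 fun e => hb (by grind), z0 h6 fun e => hb (eq_one_of_N1 (by grind)),
    z0 h8 fun e => hb (N11 (by grind)), z0 h9 fun e => hb (N12 (by grind)),
    z0 h10 fun e => hb (eq_one_of_N2 (by grind)), z0 h11 fun e => hb (eq_one_of_N1 (by grind)),
    z0 h12 fun e => hb (N11 (by grind))⟩

/-- The fixed points of an automorphism. -/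
def Fx (h : Au E f) : Subgroup (UU K) where
  carrier := {x | x ∈ E ∧ f x = x}
  one_mem' := ⟨one_mem _, h.map_one⟩
  mul_mem' := fun hx hy => ⟨mul_mem hx.1 hy.1, by rw [h.map_mul hx.1 hy.1, hx.2, hy.2]⟩
  inv_mem' := fun hx => ⟨inv_mem hx.1, by rw [h.map_inv hx.1, hx.2]⟩

theorem Fx_eq_1' : type_of% @Fx.eq_1 := @Fx.eq_1

theorem pair (q : 2 < Nat.card K) (h : Au E f)
    (h2 : ∀ a b : Kˣ, ∀ x ∈ E, f (tor (a : K) (b : K) x) = tor (a : K) (b : K) (f x))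
    {y x : K → UU K} (yE : ∀ t, y t ∈ E) (xE : ∀ t, x t ∈ E) (y0 : y 0 = 1) (x0 : x 0 = 1)
    (ya : ∀ s t, y s * y t = y (s + t) * x (σ s * t)) (xa : ∀ s t, x s * x t = x (s + t))
    (xi : ∀ s t, x s = x t → s = t) (cm : ∀ s t, x s * y t = y t * x s)
    (ht : ∀ l : K, l ≠ 0 → ∃ a b : Kˣ, tor (a : K) (b : K) (y 1) = y l ∧
      ∀ c, tor (a : K) (b : K) (x c) = x (l * σ l * c))
    (hg : ∀ t, ∃ c, f (y t) = y t * x c) : (∀ t, y t ∈ Fx h) ∧ ∀ t, x t ∈ Fx h := by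
  choose g hg using hg
  have k : ∀ s t, f (y s * y t) = y s * y t * x (g s + g t) := fun s t => by
    rw [h.map_mul (yE s) (yE t), hg, hg, mul_assoc, ← mul_assoc (x _), cm, ← xa]
    simp only [mul_assoc]
  have hx : ∀ t, f (x t) = x t := fun t => by
    obtain ⟨s, rfl⟩ := exists_N1 t
    have := k s s
    rwa [ya, CharTwo.add_self_eq_zero, CharTwo.add_self_eq_zero, y0, x0, one_mul, mul_one,
      mul_comm] at this
  have ga : ∀ s t, g (s + t) = g s + g t := fun s t => by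
    have := k s t
    rw [ya, h.map_mul (yE _) (xE _), hg, hx, mul_assoc, mul_assoc, mul_right_inj, xa, xa] at this
    linear_combination xi _ _ this
  have ge : ∀ l, l ≠ 0 → g l = l * σ l * g 1 := fun l hl => by
    obtain ⟨a, b, e1, e2⟩ := ht l hl
    have := h2 a b _ (yE 1)
    rw [e1, hg, hg, map_mul, e1, e2, mul_right_inj] at this
    exact xi _ _ this
  have g1 : g 1 = 0 := by
    obtain ⟨b, hb⟩ := exists_unit q
    have b0 := b.ne_zero
    have e1 := ga 1 b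
    rw [ge _ (fun e => hb (by grind)), ge _ b0, map_add, map_one] at e1
    by_contra hc
    have e2 : σ (b : K) = b := by
      have : g 1 * (σ (b : K) + b) = 0 := by linear_combination e1
      grind
    have e3 := σσ (b : K)
    rw [e2, e2] at e3
    grind
  refine ⟨fun t => ⟨yE t, ?_⟩, fun t => ⟨xE t, hx t⟩⟩
  rcases eq_or_ne t 0 with rfl | ht
  · rw [y0, h.map_one]
  · rw [hg, ge t ht, g1, mul_zero, x0, mul_one]

theorem tfix (h2 : ∀ a b : Kˣ, ∀ x ∈ E, f (tor (a : K) (b : K) x) = tor (a : K) (b : K) (f x))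
    (a b : Kˣ) {x : UU K} (hx : x ∈ E) (e : tor (a : K) (b : K) x = x) :
    tor (a : K) (b : K) (f x) = f x := by rw [← h2 a b x hx, e]

section
variable (q : 2 < Nat.card K)
  (h2 : ∀ a b : Kˣ, ∀ x ∈ E, f (tor (a : K) (b : K) x) = tor (a : K) (b : K) (f x))
include q h2

theorem m1 {t : K} (hx : x1 t ∈ E) : f (x1 t) ∈ U1 K := by
  obtain ⟨a, ha⟩ := exists_unit q
  exact fix1 ha (tfix h2 1 a hx (by simp [tor_x1]))

theorem m8 {t : K} (hx : y8 t ∈ E) : f (y8 t) ∈ U8 K := by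
  obtain ⟨a, ha⟩ := exists_unit q
  exact fix8 ha (tfix h2 a 1 hx (by simp [tor_y8]))

theorem m2 {t : K} (hx : y2 t ∈ E) : f (y2 t) ∈ U2 K := by
  obtain ⟨a, ha⟩ := exists_unit q
  exact fix2 (by simp) ha (tfix h2 a⁻¹ a hx (by simp [tor_y2]))

theorem m6 {t : K} (hx : y6 t ∈ E) : f (y6 t) ∈ U6 K := by
  obtain ⟨a, ha⟩ := exists_unit q
  have e : (((a * σu a)⁻¹ : Kˣ) : K) * a * σ (a : K) = 1 := by simp
  exact fix6 e ha (tfix h2 _ a hx (by rw [tor_y6, e, one_mul]))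

theorem m4 {t : K} (hx : y4 t ∈ E) : f (y4 t) ∈ U4 K := by
  obtain ⟨a, ha⟩ := exists_unit q
  have e : σ ((a * σu a : Kˣ) : K) * (((σu a)⁻¹ : Kˣ) : K) * σ (((σu a)⁻¹ : Kˣ) : K) = 1 := by
    simp; field_simp
  exact fix4 e (fun e => ha (eq_one_of_N1 (by simpa using e)))
    (tfix h2 _ _ hx (by rw [tor_y4, e, one_mul]))

theorem m7 {t : K} (hx : x7 t ∈ E) : f (x7 t) ∈ U7 K := by
  obtain ⟨a, ha⟩ := exists_unit q
  have e : (((a ^ 2 * σu a)⁻¹ : Kˣ) : K) * a ^ 2 * σ (a : K) = 1 := by simp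
  exact fix7 e ha (tfix h2 _ a hx (by rw [tor_x7, e, one_mul]))

theorem p2 (h : Au E f) (yE : ∀ t, y2 t ∈ E) (xE : ∀ t, x2 t ∈ E)
    (h1 : ∀ t, (f (y2 t)).b2 = t) : (∀ t, y2 t ∈ Fx h) ∧ ∀ t, x2 t ∈ Fx h :=
  pair q h h2 yE xE rfl rfl y2_add x2_add (fun _ _ => x2_inj.1) (fun _ _ => by uu)
    (fun l hl => ⟨Units.mk0 l hl, 1, by simp [tor_y2], by simp [tor_x2]⟩) fun t =>
      ⟨_, by rw [eq_of_mem_U2 (m2 q h2 (yE t)), h1]⟩

end

theorem c3 {X : Subgroup (UU K)} (h : ∀ t, y2 t ∈ X) (h' : ∀ t, y4 t ∈ X) (c : K) : x3 c ∈ X := by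
  rw [← show (y2 1 * y4 c)⁻¹ * (y4 c * y2 1) = x3 c by uu]
  exact mul_mem (inv_mem (mul_mem (h _) (h' _))) (mul_mem (h' _) (h _))

theorem c5 {X : Subgroup (UU K)} (h : ∀ t, y6 t ∈ X) (h' : ∀ t, y4 t ∈ X) (c : K) : x5 c ∈ X := by
  rw [← show (y6 1 * y4 c)⁻¹ * (y4 c * y6 1) = x5 c by uu]
  exact mul_mem (inv_mem (mul_mem (h _) (h' _))) (mul_mem (h' _) (h _))

theorem c7 {X : Subgroup (UU K)} (h : ∀ t, y8 t ∈ X) (h' : ∀ t, y6 t ∈ X) (c : K) : x7 c ∈ X := by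
  rw [← show (y8 1 * y6 c)⁻¹ * (y6 c * y8 1) = x7 c by uu]
  exact mul_mem (inv_mem (mul_mem (h _) (h' _))) (mul_mem (h' _) (h _))

theorem c6 {X : Subgroup (UU K)} (h : ∀ t, y6 t ∈ X) (c : K) : x6 c ∈ X := by
  obtain ⟨s, rfl⟩ := exists_N1 c
  rw [mul_comm, ← y6_sq]
  exact mul_mem (h s) (h s)

theorem c4 {X : Subgroup (UU K)} (h : ∀ t, y4 t ∈ X) (c : K) : x4 c ∈ X := by
  obtain ⟨s, rfl⟩ := exists_N1 c
  rw [mul_comm, ← y4_sq]
  exact mul_mem (h s) (h s)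

theorem all {X : Subgroup (UU K)} {u : UU K} (k1 : x1 u.a1 ∈ X) (k8 : y8 u.b8 ∈ X)
    (k8' : x8 u.a8 ∈ X) (k2 : ∀ t, y2 t ∈ X) (k6 : ∀ t, y6 t ∈ X) (k4 : ∀ t, y4 t ∈ X)
    (k7 : ∀ t, x7 t ∈ X) (k2' : ∀ t, x2 t ∈ X) : u ∈ X := by
  rw [nf u]
  exact mul_mem (mul_mem (mul_mem (mul_mem (mul_mem (mul_mem (mul_mem (mul_mem (mul_mem (mul_mem
    (mul_mem k1 k8) (k2 _)) k8') (k6 _)) (k4 _)) (k7 _)) (k2' _)) (c3 k2 k4 _)) (c5 k6 k4 _))
    (c6 k6 _)) (c4 k4 _)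

end Rig

open Rig

theorem rigQ (q : 2 < Nat.card K) (h : Au (Q K) f) (h1 : ∀ x ∈ Q K, x⁻¹ * f x ∈ CW K)
    (h2 : ∀ a b : Kˣ, ∀ x ∈ Q K, f (tor (a : K) (b : K) x) = tor (a : K) (b : K) (f x)) : ∀ x ∈ Q K, f x = x := by
  have k1 : ∀ t, x1 t ∈ Fx h := fun t => ⟨by simp, by
    have e := (h1 (x1 t) (by simp)).1
    uus at e
    rw [eq_of_mem_U1 (m1 q h2 (by simp)), x1_inj]
    grind⟩
  have k7 : ∀ t, x7 t ∈ Fx h := fun t => ⟨by simp, by
    have e := (h1 (x7 t) (by simp)).2.2.2.2.2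
    uus at e
    rw [eq_of_mem_U7 (m7 q h2 (by simp)), x7_inj]
    grind⟩
  obtain ⟨k2, k2'⟩ := p2 q h2 h (by simp) (by simp) fun t => by
    have e := (h1 (y2 t) (by simp)).2.2.1
    uus at e
    grind
  obtain ⟨k6, -⟩ := pair q h h2 (y := y6) (x := x6) (by simp) (by simp) rfl rfl y6_add x6_add
    (fun _ _ => x6_inj.1) (fun _ _ => by uu)
    (fun l hl => ⟨Units.mk0 l hl, 1, by simp [tor_y6], by simp [tor_x6]⟩) fun t =>
      ⟨(f (y6 t)).a6, by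
        have e := (h1 (y6 t) (by simp)).2.2.2.2.1
        uus at e
        conv_lhs => rw [eq_of_mem_U6 (m6 q h2 (by simp))]
        congr 2
        grind⟩
  obtain ⟨k4, -⟩ := pair q h h2 (y := y4) (x := x4) (by simp) (by simp) rfl rfl y4_add x4_add
    (fun _ _ => x4_inj.1) (fun _ _ => by uu)
    (fun l hl => by
      obtain ⟨a, rfl⟩ := exists_σ l
      exact ⟨Units.mk0 a fun e => hl (by rw [e, map_zero]), 1, by simp [tor_y4],
        by simp [tor_x4, mul_comm]⟩) fun t =>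
      ⟨(f (y4 t)).a4, by
        have e := congrArg f (show y4 t * x1 1 = x1 1 * y4 t * x2 t by uu)
        rw [h.map_mul (by simp) (by simp), h.map_mul (by simp) (by simp),
          h.map_mul (by simp) (by simp), (k1 1).2, (k2' t).2,
          eq_of_mem_U4 (m4 q h2 (t := t) (by simp))] at e
        have e2 := congrArg UU.a2 e
        uus at e2
        conv_lhs => rw [eq_of_mem_U4 (m4 q h2 (by simp)), e2]⟩
  intro x hx
  exact (all (k1 _) (by rw [hx.1]; exact one_mem _) (by rw [hx.2]; exact one_mem _) k2 k6 k4 k7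
    k2').2

theorem rigR (q : 2 < Nat.card K) (h : Au (R K) f) (h1 : ∀ x ∈ R K, x⁻¹ * f x ∈ CD K)
    (h2 : ∀ a b : Kˣ, ∀ x ∈ R K, f (tor (a : K) (b : K) x) = tor (a : K) (b : K) (f x)) : ∀ x ∈ R K, f x = x := by
  obtain ⟨k2, k2'⟩ := p2 q h2 h (by simp) (by simp) fun t => by
    have e := (h1 (y2 t) (by simp)).2.2
    uus at e
    grind
  obtain ⟨k8, k8'⟩ := pair q h h2 (y := y8) (x := x8) (by simp) (by simp) rfl rfl y8_add x8_add
    (fun _ _ => x8_inj.1) (fun _ _ => by uu)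
    (fun l hl => ⟨1, Units.mk0 l hl, by simp [tor_y8], by simp [tor_x8]⟩) fun t =>
      ⟨(f (y8 t)).a8, by
        have e := (h1 (y8 t) (by simp)).2.1
        uus at e
        conv_lhs => rw [eq_of_mem_U8 (m8 q h2 (by simp))]
        congr 2
        grind⟩
  have k : ∀ t, f (y6 t) = y6 t ∧ f (y4 (σ t)) = y4 (σ t) := fun t => by
    have e := congrArg f (show y2 t * y8 1 * y4 (σ t) = y8 1 * y2 t * y6 t by uu)
    rw [h.map_mul (by simp) (by simp), h.map_mul (by simp) (by simp),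
      h.map_mul (by simp) (by simp), h.map_mul (by simp) (by simp), (k8 1).2, (k2 t).2,
      eq_of_mem_U4 (m4 q h2 (t := σ t) (by simp)), eq_of_mem_U6 (m6 q h2 (t := t) (by simp))] at e
    have e1 := congrArg UU.b6 e
    have e2 := congrArg UU.b4 e
    have e3 := congrArg UU.a6 e
    have e4 := congrArg UU.a4 e
    uus at e1 e2 e3 e4
    rw [eq_of_mem_U4 (m4 q h2 (t := σ t) (by simp)), eq_of_mem_U6 (m6 q h2 (t := t) (by simp)),
      ← e1, ← e3, show (f (y4 (σ t))).b4 = σ t by grind, show (f (y4 (σ t))).a4 = 0 by grind]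
    simp
  have k6 : ∀ t, y6 t ∈ Fx h := fun t => ⟨by simp, (k t).1⟩
  have k4 : ∀ t, y4 t ∈ Fx h := fun t => by
    obtain ⟨s, rfl⟩ := exists_σ t
    exact ⟨by simp, (k s).2⟩
  intro x hx
  exact (all (by rw [mem_R.1 hx]; exact one_mem _) (k8 _) (k8' _) k2 k6 k4 (c7 k8 k6) k2').2

end Cfsg.Lib.TF4
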