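import Cfsg.Agent.TF4.Gen
import Cfsg.Agent.Solv.SchurZassenhaus

/-!
# Adjusting a normaliser of a group of odd order by an inner automorphism
-/

set_option autoImplicit false
set_option linter.unusedSectionVars false
set_option linter.unusedVariables false

namespace Cfsg.Lib.TF4

open Subgroup Function Cfsg.Lib.Fus Cfsg.Lib.Gold Cfsg.Lib.Oct Cfsg.Lib.Oct.UU
open scoped commutatorElement Pointwise

namespace Szn

theorem compl {G T : Type*} [Group G] [Group T] (π : G →* T) (s : T →* G) (h : ∀ t, π (s t) = t) :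
    IsComplement' π.ker s.range := by
  refine isComplement'_of_disjoint_and_mul_eq_univ (disjoint_def.2 ?_) (Set.eq_univ_of_forall fun g => ?_)
  · rintro _ h1 ⟨t, rfl⟩
    rw [MonoidHom.mem_ker, h] at h1
    rw [h1, map_one]
  · exact ⟨g * (s (π g))⁻¹, by simp [MonoidHom.mem_ker, h], s (π g), ⟨_, rfl⟩, by simp⟩

theorem conj_sec {G T : Type*} [Group G] [Finite G] [Group T] [Finite T] (π : G →* T)
    (hN : IsPGroup 2 π.ker) (hT : Odd (Nat.card T)) (s s' : T →* G) (h : ∀ t, π (s t) = t)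
    (h' : ∀ t, π (s' t) = t) : ∃ n ∈ π.ker, ∀ t, n * s t * n⁻¹ = s' t := by
  have hi : Injective s := LeftInverse.injective h
  obtain ⟨k, hk⟩ := hN.exists_card_eq
  have := hN.isNilpotent
  obtain ⟨n, hn, e⟩ := Cfsg.Lib.Solv.schur_zassenhaus_conj' π.ker s.range s'.range (compl π s h) (compl π s' h')
    (by
      rw [hk, ← Nat.card_congr (MonoidHom.ofInjective hi).toEquiv]
      exact (Nat.coprime_two_left.2 hT).pow_left k) (.inl inferInstance)
  refine ⟨n, hn, fun t => ?_⟩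
  have : n * s t * n⁻¹ ∈ s'.range := e ▸ smul_mem_pointwise_smul (s t) (MulAut.conj n) s.range ⟨t, rfl⟩
  obtain ⟨t', e'⟩ := this
  have k := congrArg π e'
  rw [h', map_mul, map_mul, map_inv, h, MonoidHom.mem_ker.1 hn, one_mul, inv_one, mul_one] at k
  rw [← e', k]

theorem conj_hom {Γ T : Type*} [Group Γ] [Finite Γ] [Group T] [Finite T] (N : Subgroup Γ) [hn : N.Normal]
    (hN : IsPGroup 2 N) (hT : Odd (Nat.card T)) (r r' : T →* Γ) (h : ∀ t, r t * (r' t)⁻¹ ∈ N) :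
    ∃ n ∈ N, ∀ t, n * r t * n⁻¹ = r' t := by
  let G : Subgroup (Γ × T) := MonoidHom.eqLocus ((QuotientGroup.mk' N).comp (MonoidHom.fst Γ T))
    (((QuotientGroup.mk' N).comp r').comp (MonoidHom.snd Γ T))
  have mG : ∀ g : Γ × T, g ∈ G ↔ (g.1 : Γ ⧸ N) = r' g.2 := fun g => Iff.rfl
  let π : G →* T := (MonoidHom.snd Γ T).comp G.subtype
  have k : ∀ g : G, g ∈ π.ker → g.1.1 ∈ N := fun g hg => by
    have h1 : g.1.2 = 1 := hg
    have h2 := (mG _).1 g.2
    rwa [h1, map_one, QuotientGroup.mk_one, QuotientGroup.eq_one_iff] at h2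
  have hP : IsPGroup 2 π.ker := fun g => by
    obtain ⟨m, hm⟩ := hN ⟨_, k g.1 g.2⟩
    refine ⟨m, Subtype.ext (Subtype.ext (Prod.ext (congrArg Subtype.val hm) ?_))⟩
    have h1 : g.1.1.2 = 1 := g.2
    simp [h1]
  obtain ⟨n, hn, e⟩ := conj_sec π hP hT
    ((r.prod (MonoidHom.id T)).codRestrict G fun t => (mG _).2 (by
      simpa [← QuotientGroup.eq_one_iff, mul_inv_eq_one] using h t))
    ((r'.prod (MonoidHom.id T)).codRestrict G fun t => (mG _).2 rfl) (fun _ => rfl) (fun _ => rfl)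
  exact ⟨n.1.1, k n hn, fun t => congrArg (fun g : G => g.1.1) (e t)⟩

variable {Ω : Type*} [Group Ω] {E : Subgroup Ω}

/-- The restriction to `E`. -/
theorem exists_res {n : Equiv.Perm Ω} (hn : Au E n) : ∃ ν : MulAut E, ∀ x : E, (ν x : Ω) = n x :=
  ⟨{ n.subtypePerm hn.mem with map_mul' := fun x y => Subtype.ext (hn.map_mul x.2 y.2) }, fun _ => rfl⟩

theorem exists_hom {T : Type*} [Group T] (τ : T →* MulAut Ω) (hτ : ∀ t x, τ t x ∈ E ↔ x ∈ E) :
    ∃ r : T →* MulAut E, ∀ t (x : E), (r t x : Ω) = τ t x := by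
  choose r hr using fun t => exists_res (Au.of_aut (τ t) (hτ t))
  refine ⟨MonoidHom.mk' r fun a b => ?_, hr⟩
  ext x
  simp [hr]

end Szn

section Gen
variable {Ω : Type*} [Group Ω] [Finite Ω] {𝓕 : FusionSystem (⊤ : Subgroup Ω)} {E : Subgroup Ω}

theorem szn (hΩ : IsPGroup 2 Ω) {T : Type*} [Group T] [Finite T] (hT : Odd (Nat.card T))
    (τ τ' : T →* MulAut Ω) (hτ : ∀ t x, τ t x ∈ E ↔ x ∈ E) (hτ' : ∀ t x, τ' t x ∈ E ↔ x ∈ E)
    {n : Equiv.Perm Ω} (hn : Au E n) (h : ∀ t, ∃ y ∈ E, ∀ x ∈ E, n (τ t x) = y * τ' t (n x) * y⁻¹) :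
    ∃ y ∈ E, ∀ t, ∀ x ∈ E, y * n (τ t x) * y⁻¹ = τ' t (y * n x * y⁻¹) := by
  obtain ⟨ν, hν⟩ := Szn.exists_res hn
  obtain ⟨r, hr⟩ := Szn.exists_hom τ hτ
  obtain ⟨r', hr'⟩ := Szn.exists_hom τ' hτ'
  have hN : (MulAut.conj : E →* MulAut E).range.Normal := ⟨by
    rintro _ ⟨y, rfl⟩ g
    exact ⟨g y, by ext; simp⟩⟩
  obtain ⟨_, ⟨y, rfl⟩, e⟩ := Szn.conj_hom (MulAut.conj : E →* MulAut E).range
    ((hΩ.to_subgroup E).of_surjective _ (MonoidHom.rangeRestrict_surjective _)) hT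
    ((MulAut.conj ν).toMonoidHom.comp r) r' fun t => by
      obtain ⟨y, hy, k⟩ := h t
      refine ⟨⟨y, hy⟩, ?_⟩
      rw [eq_mul_inv_iff_mul_eq]
      ext x
      obtain ⟨x, rfl⟩ := ν.surjective x
      simp [hν, hr, hr', k]
  refine ⟨y, y.2, fun t x hx => ?_⟩
  have := congrArg Subtype.val (DFunLike.congr_fun (e t) (y * ν ⟨x, hx⟩ * y⁻¹))
  simpa [hν, hr, hr', mul_assoc] using this

end Gen

end Cfsg.Lib.TF4
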