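import Cfsg.Agent.TF4.ChU
import Cfsg.Agent.TF4.Szn
import Cfsg.Agent.TF4.Rig

/-!
# Normalising the reflections for `q > 2`
-/

set_option autoImplicit false
set_option linter.unusedSectionVars false
set_option linter.unusedVariables false
set_option linter.unusedSimpArgs false
set_option maxRecDepth 100000

namespace Cfsg.Lib.TF4

open Subgroup Function Cfsg.Lib.Fus Cfsg.Lib.Gold Cfsg.Lib.Oct Cfsg.Lib.Oct.UU
open scoped commutatorElement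

namespace Rq

theorem abs {Ω : Type*} [Group Ω] [Finite Ω] {𝓕 : FusionSystem (⊤ : Subgroup Ω)} {E C : Subgroup Ω}
    (hΩ : IsPGroup 2 Ω) {T : Type*} [Group T] [Finite T] (hT : Odd (Nat.card T)) (τ : T →* MulAut Ω)
    (ω : T →* T) (hω : ∀ t, ω (ω t) = t) (hCE : C ≤ E) (hEE : ∀ x ∈ E, ∀ y ∈ E, ⁅x, y⁆ ∈ C)
    (hτ : ∀ t x, τ t x ∈ E ↔ x ∈ E) (hτC : ∀ t, ∀ x ∈ C, τ t x ∈ C) {m n : Equiv.Perm Ω} (hm : Au E m)
    (mm : m * m = 1) (mC : ∀ x ∈ C, m x ∈ C) (mτ : ∀ t, ∀ x ∈ E, m (τ t x) = τ (ω t) (m x))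
    (tr : ∀ t, Mor 𝓕 ⊤ (τ t)) (hn : PIso 𝓕 n E E) (nm : ∀ x ∈ E, (m x)⁻¹ * n x ∈ C)
    (inn : ∀ f, PIso 𝓕 f E E → (∀ x ∈ E, x⁻¹ * f x ∈ C) → ∃ y ∈ E, ∀ x ∈ E, f x = y * x * y⁻¹)
    (rig : ∀ f, Au E f → (∀ x ∈ E, x⁻¹ * f x ∈ C) → (∀ t, ∀ x ∈ E, f (τ t x) = τ t (f x)) →
      ∀ x ∈ E, f x = x) : Mor 𝓕 E m := by
  have pτ : ∀ t, PIso 𝓕 (τ t).toEquiv E E := fun t => ⟨(tr t).restrict le_top, hτ t⟩
  have mm' : ∀ x, m (m x) = x := fun x => by rw [← Equiv.Perm.mul_apply, mm]; rfl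
  obtain ⟨y, hy, e⟩ := szn hΩ hT τ (τ.comp ω) hτ (fun t => hτ (ω t)) (Au.of_piso hn) fun t => by
    have hg := ((pτ (ω t)).symm.trans hn.symm).trans (pτ t) |>.trans hn
    have ev : ∀ z, (n * ((τ t).toEquiv * (n⁻¹ * ((τ (ω t)).toEquiv : Equiv.Perm Ω)⁻¹))) (τ (ω t) (n z)) =
        n (τ t z) := fun z => by
      have : ((τ (ω t)).toEquiv : Equiv.Perm Ω)⁻¹ (τ (ω t) (n z)) = n z :=
        (τ (ω t)).toEquiv.symm_apply_apply _
      simp only [Equiv.Perm.mul_apply, this, Equiv.Perm.coe_inv, Equiv.symm_apply_apply]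
      rfl
    obtain ⟨y, hy, e⟩ := inn _ hg fun x hx => by
      obtain ⟨z, hz, rfl⟩ : ∃ z ∈ E, τ (ω t) (n z) = x :=
        ⟨n⁻¹ ((τ (ω t)).symm x), hn.inv_maps ((hτ (ω t) _).1 (by simpa using hx)), by simp⟩
      rw [ev]
      have h1 := hτC (ω t) _ (nm z hz)
      have h2 := nm _ ((hτ t z).2 hz)
      rw [mτ t z hz] at h2
      rw [map_mul, map_inv] at h1
      simpa [mul_assoc] using mul_mem (inv_mem h1) h2
    exact ⟨y, hy, fun x hx => by rw [← ev, e _ ((hτ _ _).2 (hn.maps hx))]; rfl⟩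
  have hf : Au E (m * (Fus.cj y * n)) := hm.comp ((Au.cj (le_normalizer hy)).comp (Au.of_piso hn))
  have key := rig _ hf (fun x hx => ?_) fun t x hx => ?_
  · refine (hn.mor.conj_comp (s := y) trivial).congr fun x hx => ?_
    have := congrArg m (key x hx)
    rwa [Equiv.Perm.mul_apply, mm'] at this
  · have hc : (m x)⁻¹ * (y * n x * y⁻¹) ∈ C := by
      have := mul_mem (nm x hx) (hEE _ (inv_mem (hn.maps hx)) _ hy)
      simpa [commutatorElement_def, mul_assoc] using this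
    have := mC _ hc
    rwa [hm.map_mul (inv_mem (hm.maps hx)) (mul_mem (mul_mem hy (hn.maps hx)) (inv_mem hy)),
      hm.map_inv (hm.maps hx), mm'] at this
  · change m (y * n (τ t x) * y⁻¹) = τ t (m (y * n x * y⁻¹))
    rw [e t x hx, MonoidHom.comp_apply, mτ _ _ (mul_mem (mul_mem hy (hn.maps hx)) (inv_mem hy)), hω]

variable {K : Type*} [Field K] [TwF K] [Finite K]

theorem odd_T : Odd (Nat.card (Kˣ × Kˣ)) := by
  rw [Nat.card_prod]; exact (odd_units K).mul (odd_units K)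

end Rq

variable {K : Type*} [Field K] [TwF K] [Finite K] {𝓕 𝓖 : FS K} {f : Equiv.Perm (UU K)}

theorem morQ (q : 2 < Nat.card K) (tr : Tr 𝓕) (nq : NQ 𝓕) (iq : IQ 𝓕) : Mor 𝓕 (Q K) ν8 := by
  obtain ⟨n, hn, h1⟩ := nq
  obtain ⟨m, hm, mm, e⟩ := exists_n8 K
  let ω : Kˣ × Kˣ →* Kˣ × Kˣ := MonoidHom.mk' (fun t => (t.1 * t.2 ^ 2 * σu t.2, t.2⁻¹)) fun s t => by
    ext <;> simp <;> ring
  refine (Rq.abs (C := CW K) (UU.isPGroup K) Rq.odd_T torA ω (fun t => ?_) CW_le_Q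
    (fun x hx y hy => W_le_CW (cQ_Q hx hy)) (fun t x => (charU _ x).2.1) (fun t x hx => by simp_all) hm mm
    (fun x hx => ?_) (fun t x hx => ?_) (fun t => tr t.1 t.2) hn (fun x hx => e x hx ▸ h1 x hx) iq
    fun f hf k1 k2 => rigQ q hf k1 fun a b => k2 (a, b)).congr e
  · ext <;> simp [ω]
    field_simp
  · rw [e x (CW_le_Q hx)]; simp_all
  · rw [e x hx, e _ ((charU _ x).2.1.2 hx), torA_apply, ν8_tor t.2.ne_zero]
    simp [ω]

theorem morR (q : 2 < Nat.card K) (tr : Tr 𝓕) (nr : NR 𝓕) (ir : IR 𝓕) : Mor 𝓕 (R K) ν1 := by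
  obtain ⟨n, hn, h1⟩ := nr
  obtain ⟨m, hm, mm, e⟩ := exists_n1 K
  let ω : Kˣ × Kˣ →* Kˣ × Kˣ := MonoidHom.mk' (fun t => (t.1⁻¹, t.1 * t.2)) fun s t => by
    ext <;> simp <;> ring
  refine (Rq.abs (C := CD K) (UU.isPGroup K) Rq.odd_T torA ω (fun t => ?_) CD_le_R
    (fun x hx y hy => cR_R hx hy) (fun t x => (charU _ x).1) (fun t x hx => (charU _ x).2.2.2.2 hx) hm mm
    (fun x hx => ?_) (fun t x hx => ?_) (fun t => tr t.1 t.2) hn (fun x hx => e x hx ▸ h1 x hx) ir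
    fun f hf k1 k2 => rigR q hf k1 fun a b => k2 (a, b)).congr e
  · ext <;> simp [ω]
  · rw [e x (CD_le_R hx)]; simp_all
  · rw [e x hx, e _ ((charU _ x).1.2 hx), torA_apply, ν1_tor t.1.ne_zero]
    simp [ω]

end Cfsg.Lib.TF4
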