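import Cfsg.Agent.TF4.Gen
import Cfsg.Agent.Fus.FImg
import Cfsg.Agent.Fus.Rk2Pull

/-!
# Transport of fusion systems along isomorphisms
-/

set_option autoImplicit false
set_option linter.unusedSectionVars false
set_option linter.unusedVariables false

namespace Cfsg.Lib.TF4

open Subgroup Function Cfsg.Lib.Fus Cfsg.Lib.Gold Cfsg.Lib.Oct Cfsg.Lib.Oct.UU
open scoped commutatorElement

universe u

theorem Tw.real {Ω Ω' : Type*} [Group Ω] [Group Ω'] {S : Subgroup Ω} {S' : Subgroup Ω'}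
    (hS : IsPGroup 2 S) {F : FusionSystem S} {D : FusionSystem S'} {t : Ω → Ω'} (h : FImg F D t)
    (hi : Set.InjOn t S) (hD : D.IsRealizable 2) : F.IsRealizable 2 := by
  obtain ⟨G, _, _, ι, h1, T, hT⟩ := hD
  obtain ⟨t', h', -, e1, -⟩ := h.exists_inv hi
  let θ : S →* S' := h.mulOn.toHom.codRestrict S' fun x => h.maps x.2
  have hκ : ∀ x ∈ S, extFun (ι.comp θ) x = extFun ι (t x) := fun x hx => by
    rw [extFun_of_mem _ hx, extFun_of_mem ι (h.maps hx)]; rfl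
  have inj : Injective (ι.comp θ) := h1.1.comp fun x y e =>
    Subtype.ext (hi x.2 y.2 (congrArg Subtype.val e))
  refine Rk2.realizable_of_emb hS (Rk2.embOf inj ⟨T, ?_⟩)
    (isRealizedBy_of_mor (ι := ι.comp θ) inj (fun P f hf => ?_) fun P f g hP hm hg => ?_)
  · rw [hT, MonoidHom.range_comp, (MonoidHom.range_eq_top (f := θ)).2, ← MonoidHom.range_eq_map]
    intro y
    obtain ⟨x, hx, e⟩ := h.exists_eq y.2
    exact ⟨⟨x, hx⟩, Subtype.ext e⟩
  · obtain ⟨f', h3, h4⟩ := h.mor P f hf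
    obtain ⟨g, hg⟩ := h3.exists_conj_of_realized h1
    exact ⟨g, fun x hx => by
      rw [hκ _ (hf.maps hx), hκ _ (hf.le hx), ← h4 x hx, hg _ (mem_img_of_mem _ hx)]⟩
  · have m := h.mulOn.mono hP
    have k : Mor D (img P t) fun y => t (f (t' y)) := by
      refine (mor_iff_of_realized h1).2 ⟨h.img_le hP, fun y hy => ?_, g, fun y hy => ?_⟩ <;>
        obtain ⟨x, hx, rfl⟩ := m.mem_img.1 hy <;> rw [e1 x (hP hx)]
      · exact h.maps (hm x hx)
      · rw [← hκ _ (hm x hx), hg x hx, hκ _ (hP hx)]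
    have := h'.mor_of k (f' := f) fun y hy => by
      obtain ⟨x, hx, rfl⟩ := m.mem_img.1 hy
      rw [e1 x (hP hx), e1 _ (hm x hx)]
    rwa [← img_comp m, img_eq_self_of_eqOn (f := t' ∘ t) fun x hx => e1 x (hP hx)] at this

section Gen
variable {Ω : Type*} [Group Ω] [Finite Ω] {𝓕 : FusionSystem (⊤ : Subgroup Ω)} {E : Subgroup Ω}

theorem exists_tr {Ω' : Type*} [Group Ω'] {S : Subgroup Ω'} (hΩ : IsPGroup 2 Ω) (e : Ω ≃* S)
    {𝓔 : FusionSystem S} (h : 𝓔.IsSaturated 2) :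
    ∃ 𝓖 : FusionSystem (⊤ : Subgroup Ω), 𝓖.IsSaturated 2 ∧ (𝓖.IsRealizable 2 → 𝓔.IsRealizable 2) := by
  have : Finite S := Finite.of_equiv _ e.toEquiv
  have hi := injOn_extFun (ι := e.symm.toMonoidHom) e.symm.injective
  obtain ⟨D, hD⟩ : ∃ D : FusionSystem (⊤ : Subgroup Ω), FImg 𝓔 D (extFun e.symm.toMonoidHom) := by
    rw [← MonoidHom.range_eq_top.2 (show Surjective e.symm.toMonoidHom from e.symm.surjective),
      ← img_extFun_top]
    exact exists_fImg_of_injOn 𝓔 (mulOn_extFun _) hi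
  exact ⟨D, hD.saturated (hΩ.of_equiv e) h, Tw.real (hΩ.of_equiv e) hD hi⟩

theorem exists_tw (hΩ : IsPGroup 2 Ω) (h𝓕 : 𝓕.IsSaturated 2) (β : MulAut Ω) :
    ∃ 𝓖 : FusionSystem (⊤ : Subgroup Ω), 𝓖.IsSaturated 2 ∧ (𝓖.IsRealizable 2 → 𝓕.IsRealizable 2) ∧
      Tw 𝓕 𝓖 β := by
  have hi : Set.InjOn β.symm.toMonoidHom (⊤ : Subgroup Ω) := β.symm.injective.injOn
  obtain ⟨D, hD⟩ : ∃ D : FusionSystem (⊤ : Subgroup Ω), FImg 𝓕 D β.symm.toMonoidHom := by
    have := exists_fImg_of_injOn 𝓕 (fun x _ y _ => map_mul _ x y) hi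
    rwa [img_hom, map_top_of_surjective _ β.symm.surjective] at this
  obtain ⟨t, h', -, -, e2⟩ := hD.exists_inv hi
  replace h' : FImg D 𝓕 β.toMonoidHom := h'.congr fun x _ => (β.symm_apply_eq.1 (e2 x trivial)).trans rfl
  refine ⟨D, hD.saturated (hΩ.to_subgroup ⊤) h𝓕, Tw.real (hΩ.to_subgroup ⊤) hD hi, fun P f =>
    ⟨fun k => img_hom P β.toMonoidHom ▸ h'.mor_of k fun x _ => by simp, fun k => ?_⟩⟩
  have := hD.mor_of k (f' := f) fun x _ => by simp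
  rwa [img_hom, map_map, show β.symm.toMonoidHom.comp β.toMonoidHom = MonoidHom.id Ω from
    MonoidHom.ext β.symm_apply_apply, Subgroup.map_id] at this

theorem Tw.mor {𝓖 : FusionSystem (⊤ : Subgroup Ω)} {β : MulAut Ω} (h : Tw 𝓕 𝓖 β) {P : Subgroup Ω}
    (hP : ∀ x, β x ∈ P ↔ x ∈ P) {f g : Ω → Ω} (hf : Mor 𝓕 P f) (e : ∀ x ∈ P, f (β x) = β (g x)) :
    Mor 𝓖 P g := by
  have k : ∀ x, β.symm x ∈ P ↔ x ∈ P := fun x => by rw [← hP, β.apply_symm_apply]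
  rw [h, show P.map β.toMonoidHom = P from Subgroup.ext fun x => mem_map_equiv.trans (k x)]
  exact hf.congr fun x hx => by rw [← e _ ((k x).2 hx), β.apply_symm_apply]

theorem Tw.piso_top {𝓖 : FusionSystem (⊤ : Subgroup Ω)} {β : MulAut Ω} (h : Tw 𝓕 𝓖 β) {g : Equiv.Perm Ω}
    (hg : PIso 𝓖 g ⊤ ⊤) : ∃ f, PIso 𝓕 f ⊤ ⊤ ∧ ∀ x, f (β x) = β (g x) := by
  have := (h _ _).1 hg.mor
  rw [map_top_of_surjective _ β.surjective] at this
  exact ⟨β.toEquiv * g * β.toEquiv⁻¹, Mor.piso_top this, fun x => by simp⟩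

end Gen

end Cfsg.Lib.TF4
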