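import Cfsg.Agent.TF4.Nu

/-!
# Characteristic subgroups of the unipotent group
-/

set_option autoImplicit false
set_option linter.unusedSectionVars false
set_option linter.unusedSimpArgs false
set_option maxRecDepth 100000

namespace Cfsg.Lib.TF4

open Subgroup Function Cfsg.Lib.Fus Cfsg.Lib.Gold Cfsg.Lib.Oct Cfsg.Lib.Oct.UU
open scoped commutatorElement

variable {K : Type*} [Field K] [TwF K] [Finite K]

namespace ChU

theorem mem_Z4_of {u : UU K} (h : ∀ v, ⁅u, v⁆ ∈ D K) : u ∈ Z4 K := by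
  have h1 := comm_D.1 (h (x1 1))
  have h8 := comm_D.1 (h (y8 1))
  have a1 : u.a1 = 0 := by have := h8.2.2.1; uus at this; grind
  have b8 : u.b8 = 0 := by have := h1.2.2.1; uus at this; grind
  uus [a1, b8] at h1 h8
  simp only [mem_Z4]
  grind

theorem mem_D_of {u : UU K} (h : ∀ v, ⁅u, v⁆ ∈ V K) : u ∈ D K := by
  obtain ⟨a1, b8, b2, a8, b6, b4, a7, a2⟩ := mem_Z4_of fun v => V_le_D (h v)
  have h8 := (comm_V.1 (h (y8 1))).2.2.2.2.2.2.2.2.2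
  uus [a1, b8, b2, a8, b6, b4, a7, a2] at h8
  simp only [mem_D]
  grind

theorem ivs (c : Cl (⊤ : Subgroup (UU K))) :
    c.Iv (· ∈ R K) ∧ c.Iv (· ∈ Q K) ∧ c.Iv (· ∈ Pb K) ∧ c.Iv (· ∈ CD K) := by
  have iZ : c.Iv (· ∈ Z K) := c.iv_center.congr fun x _ =>
    ⟨fun h => mem_Z_of_comm fun v _ => h v (mem_top v), fun h y _ => (mT_Z y h).symm⟩
  have iV : c.Iv (· ∈ V K) := iZ.allE.congr fun x _ =>
    ⟨fun h => mem_V_of_comm fun v => h v (mem_top v), fun h y _ => comm_mem_symm (cT_V y h)⟩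
  have iD : c.Iv (· ∈ D K) := iV.allE.congr fun x _ =>
    ⟨fun h => mem_D_of fun v => h v (mem_top v), fun h y _ => comm_mem_symm (cT_D y h)⟩
  have i4 : c.Iv (· ∈ Z4 K) := iD.allE.congr fun x _ =>
    ⟨fun h => mem_Z4_of fun v => h v (mem_top v), fun h y _ => comm_mem_symm (cT_Z4 y h)⟩
  have iP : c.Iv (· ∈ Pb K) := (iD.all iZ).congr fun x _ => ⟨fun h => by
    have := (comm_Z.1 (h (x5 1) (mem_top _) (by simp))).2.2.2.2.2.2.2.2.2.2
    uus at this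
    simp only [mem_Pb]
    grind, fun h y _ hy => cPb_D h hy⟩
  refine ⟨iV.cent.congr fun x _ => ⟨fun h => cen_V one_ne_zero (h (x6 1) (mem_top _) (by simp)),
    fun h y _ hy => mR_V h hy⟩, (iP.and (i4.all iZ)).congr fun x _ => ⟨fun ⟨h0, h⟩ => ?_,
    fun h => ⟨Q_le_Pb h, fun y _ hy => cQ_W h (Z4_le_W hy)⟩⟩, iP,
    iD.cent.congr fun x _ => ⟨fun h => cen_D fun d hd => h d (mem_top _) hd, fun h y _ hy => mCD_D h hy⟩⟩
  have := (comm_Z.1 (h (x3 1) (mem_top _) (by simp))).2.2.2.2.2.2.2.2.2.2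
  rw [mem_Pb] at h0
  uus [h0] at this
  simp only [mem_Q]
  grind

theorem comm_b2 (u v : UU K) : ⁅u, v⁆.b2 = u.a1 * v.b8 + v.a1 * u.b8 := by
  simp only [commutatorElement_def, mul_b2, mul_a1, mul_b8, inv_a1, inv_b8, inv_b2]
  grind

end ChU

theorem charU (β : MulAut (UU K)) (x : UU K) : (β x ∈ R K ↔ x ∈ R K) ∧ (β x ∈ Q K ↔ x ∈ Q K) ∧
    (β x ∈ Pb K ↔ x ∈ Pb K) ∧ (β x ∈ CD K ↔ x ∈ CD K) := by
  obtain ⟨h1, h2, h3, h4⟩ := ChU.ivs (clOne (Au.of_aut β (E := ⊤) fun _ => Iff.rfl))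
  exact ⟨h1 _ rfl x (mem_top x), h2 _ rfl x (mem_top x), h3 _ rfl x (mem_top x), h4 _ rfl x (mem_top x)⟩

theorem aut_sl (β : MulAut (UU K)) : ∃ (a b : Kˣ) (φ : K →+* K), ∀ u,
    (β u).a1 = a * φ u.a1 ∧ (β u).b8 = b * φ u.b8 := by
  have hR : ∀ u : UU K, (β u).a1 = 0 ↔ u.a1 = 0 := fun u => (charU β u).1
  have hP : ∀ u : UU K, (β u).b8 = 0 ↔ u.b8 = 0 := fun u => (charU β u).2.2.1
  have e1 : ∀ u : UU K, (β u).a1 = (β (x1 u.a1)).a1 := fun u =>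
    (inv_mul_R.1 (by rw [← map_inv, ← map_mul]; exact (charU β _).1.2 (inv_mul_R.2 rfl))).symm
  have e8 : ∀ u : UU K, (β u).b8 = (β (y8 u.b8)).b8 := fun u =>
    (inv_mul_Pb.1 (by rw [← map_inv, ← map_mul]; exact (charU β _).2.2.1.2 (inv_mul_Pb.2 rfl))).symm
  have e2 : ∀ u ∈ F K, (β u).b2 = (β (y2 u.b2)).b2 := fun u hu =>
    (inv_mul_CD.1 (by
      rw [← map_inv, ← map_mul]; exact (charU β _).2.2.2.2 (inv_mul_CD.2 ⟨hu.1.symm, hu.2.symm, rfl⟩))).2.2.symm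
  have k : ∀ s t, (β (y2 (s * t))).b2 = (β (x1 s)).a1 * (β (y8 t)).b8 := fun s t => by
    have := e2 _ (cT_T (x1 s) (y8 t))
    rw [map_commutatorElement, ChU.comm_b2, ChU.comm_b2, (hR (y8 t)).2 rfl] at this
    simpa using this.symm
  have ha : (β (x1 1)).a1 ≠ 0 := fun e => one_ne_zero ((hR (x1 1)).1 e)
  have hb : (β (y8 1)).b8 ≠ 0 := fun e => one_ne_zero ((hP (y8 1)).1 e)
  have k8 : ∀ t, (β (y8 t)).b8 = (β (y8 1)).b8 * ((β (x1 t)).a1 / (β (x1 1)).a1) := fun t => by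
    have := (k 1 t).symm.trans (mul_comm t 1 ▸ k t 1)
    field_simp
    grind
  refine ⟨Units.mk0 _ ha, Units.mk0 _ hb,
    { toFun t := (β (x1 t)).a1 / (β (x1 1)).a1
      map_one' := div_self ha
      map_mul' s t := ?_
      map_zero' := by rw [(hR (x1 0)).2 rfl, zero_div]
      map_add' s t := by rw [← add_div, ← mul_a1, ← map_mul, e1 (x1 s * x1 t)]; rfl }, fun u => ⟨?_, ?_⟩⟩
  · have := (k s t).symm.trans (mul_one (s * t) ▸ k (s * t) 1)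
    rw [k8 t] at this
    field_simp at this ⊢
    grind
  · simp [e1 u, mul_div_cancel₀ _ ha]
  · simp [e8 u, k8 u.b8]

end Cfsg.Lib.TF4
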