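import Cfsg.Agent.Oct.LcA
import Cfsg.Agent.Fus.EssBridge

/-!
# Fusion systems on a Sylow 2-subgroup of ²F₄(q): definitions
-/

set_option autoImplicit false
set_option linter.unusedSectionVars false
set_option maxRecDepth 100000

namespace Cfsg.Lib.TF4

open Subgroup Function Cfsg.Lib.Fus Cfsg.Lib.Gold Cfsg.Lib.Oct Cfsg.Lib.Oct.UU
open scoped commutatorElement

section Gen

variable {Ω : Type*} [Group Ω] {E : Subgroup Ω}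

/-- The permutation `f` restricts to an automorphism of `E`. -/
structure Au (E : Subgroup Ω) (f : Equiv.Perm Ω) : Prop where
  mul : MulOn E f
  mem : ∀ x, f x ∈ E ↔ x ∈ E

/-- A class of automorphisms of `E`. -/
structure Cl (E : Subgroup Ω) where
  /-- the members -/
  A : Equiv.Perm Ω → Prop
  au : ∀ f, A f → Au E f

/-- The class of a single automorphism. -/
def clOne {f : Equiv.Perm Ω} (h : Au E f) : Cl E := ⟨fun g => g = f, fun _ e => e ▸ h⟩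

/-- The class of the automorphisms in a fusion system. -/
def clF (𝓕 : FusionSystem (⊤ : Subgroup Ω)) (E : Subgroup Ω) : Cl E :=
  ⟨fun f => PIso 𝓕 f E E, fun _ h => ⟨h.mor.mulOn, h.mem⟩⟩

/-- The property `p` of elements of `E` is invariant under the class. -/
def Cl.Iv (c : Cl E) (p : Ω → Prop) : Prop := ∀ f, c.A f → ∀ x ∈ E, (p (f x) ↔ p x)

/-- The elements with `A` act trivially on the factors of an invariant chain from `E ⊓ X` down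
to `1`. -/
inductive Cl.Stab (c : Cl E) (A : Ω → Prop) : Subgroup Ω → Prop
  | bot : Cl.Stab c A ⊥
  | step {X Y : Subgroup Ω} : Cl.Stab c A Y → c.Iv (· ∈ X) →
      (∀ a, A a → ∀ y ∈ E, y ∈ X → ⁅a, y⁆ ∈ Y) → Cl.Stab c A X

/-- The central involutions of `H`, and `1`. -/
def om (H : Subgroup Ω) : Subgroup Ω where
  carrier := {x | x ∈ H ∧ x * x = 1 ∧ ∀ y ∈ H, x * y = y * x}
  one_mem' := ⟨one_mem _, mul_one _, fun _ _ => by simp⟩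
  mul_mem' := fun {a b} ⟨h1, h2, h3⟩ ⟨k1, k2, k3⟩ => ⟨mul_mem h1 k1, by
    rw [mul_assoc, ← mul_assoc b, ← h3 b k1, mul_assoc, k2, mul_one, h2], fun y hy => by
    rw [mul_assoc, k3 y hy, ← mul_assoc, h3 y hy, mul_assoc]⟩
  inv_mem' := fun {a} ⟨h1, h2, h3⟩ => by
    rw [inv_eq_of_mul_eq_one_right h2]; exact ⟨h1, h2, h3⟩

theorem mem_om {H : Subgroup Ω} {x : Ω} : x ∈ om H ↔ x ∈ H ∧ x * x = 1 ∧ ∀ y ∈ H, x * y = y * x := Iff.rfl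

/-- The subgroup generated by the involutions of `H`. -/
def inv2 (H : Subgroup Ω) : Subgroup Ω := closure {x | x ∈ H ∧ x * x = 1}

/-- The properties of an essential subgroup `E` with its class of automorphisms. -/
structure Es (c : Cl E) : Prop where
  ne : E ≠ ⊤
  ch : ∀ x ∈ Ns E, c.Stab (· = x) ⊤ → x ∈ E
  un : ∀ X Y : Subgroup Ω, (∀ s ∈ Ns E, ∀ x ∈ E, x ∈ X → s * x * s⁻¹ ∈ X) →
    c.Iv (fun x => x ∈ X ∨ x ∈ Y) → c.Iv (· ∈ X) ∨ (E ⊓ X ≤ Y ∧ c.Iv (· ∈ Y))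
  mb : ∀ (Y A : Subgroup Ω) (s : Ω), c.Iv (· ∈ Y) → Y ≤ E → s ∈ Ns E → s ∉ E → (∀ e ∈ E, ⁅s, e⁆ ∈ Y) →
    A ≤ Ns E → (∀ a ∈ A, a * a ∈ E) → E.relIndex A ≤ {z | ∃ y ∈ Y, z = ⁅s, y⁆}.ncard
  ci : ∀ a ∈ Ns E, ∀ b ∈ Ns E, a * a ∈ E → b * b ∈ E → ⁅a, b⁆ ∈ E → a ∉ E → b ∉ E → a * b ∉ E →
    ∀ x ∈ Ns E, ∀ y ∈ Ns E, x * x ∈ E → ⁅x, y⁆ ∈ E

/-- Transport of a class along an automorphism of the ambient group. -/
def Cl.map (c : Cl E) (β : MulAut Ω) : Cl (E.comap β.symm.toMonoidHom) where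
  A f := c.A (β.toEquiv.symm * f * β.toEquiv)
  au f h := by
    obtain ⟨h1, h2⟩ := c.au _ h
    refine ⟨fun x hx y hy => β.symm.injective ?_, fun x => ?_⟩
    · simpa using h1 _ hx _ hy
    · simpa using h2 (β.symm x)

theorem clOne_eq_1' : type_of% @clOne.eq_1 := @clOne.eq_1
theorem clF_eq_1' : type_of% @clF.eq_1 := @clF.eq_1
theorem Cl.Iv_eq_1' : type_of% @Cl.Iv.eq_1 := @Cl.Iv.eq_1
theorem om_eq_1' : type_of% @om.eq_1 := @om.eq_1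
theorem inv2_eq_1' : type_of% @inv2.eq_1 := @inv2.eq_1
theorem Cl.map_eq_1' : type_of% @Cl.map.eq_1 := @Cl.map.eq_1

end Gen

variable (K : Type*) [Field K] [TwF K]

/-- The subgroup `b₈ = 0`. -/
def Pb : Subgroup (UU K) where
  carrier := {u | u.b8 = 0}
  mul_mem' := by intros; simp_all
  one_mem' := by simp
  inv_mem' := by intros; simp_all

/-- The centraliser of `D`. -/
def CD : Subgroup (UU K) where
  carrier := {u | u.a1 = 0 ∧ u.b8 = 0 ∧ u.b2 = 0}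
  mul_mem' := by intros; simp_all
  one_mem' := by simp
  inv_mem' := by intros; simp_all

/-- The intersection of `Q` and `R`. -/
def QR : Subgroup (UU K) where
  carrier := {u | u.a1 = 0 ∧ u.b8 = 0 ∧ u.a8 = 0}
  mul_mem' := by intros; simp_all
  one_mem' := by simp
  inv_mem' := by intros; simp_all

/-- The sixth centre. -/
def Z6 : Subgroup (UU K) where
  carrier := {u | u.a1 = 0 ∧ u.b8 = 0 ∧ u.b2 = 0 ∧ u.a8 = 0}
  mul_mem' := by intros; simp_all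
  one_mem' := by simp
  inv_mem' := by intros; simp_all

/-- The fifth centre. -/
def Z5 : Subgroup (UU K) where
  carrier := {u | u.a1 = 0 ∧ u.b8 = 0 ∧ u.b2 = 0 ∧ u.a8 = 0 ∧ u.b6 = 0 ∧ u.b4 = 0}
  mul_mem' := by intros; simp_all
  one_mem' := by simp
  inv_mem' := by intros; simp_all

/-- The fourth centre. -/
def Z4 : Subgroup (UU K) where
  carrier := {u | u.a1 = 0 ∧ u.b8 = 0 ∧ u.b2 = 0 ∧ u.a8 = 0 ∧ u.b6 = 0 ∧ u.b4 = 0 ∧ u.a7 = 0 ∧ u.a2 = 0}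
  mul_mem' := by intros; simp_all
  one_mem' := by simp
  inv_mem' := by intros; simp_all

/-- The subgroup on the letters x7 x3 x5 x6 x4. -/
def Yy : Subgroup (UU K) where
  carrier := {u | u.a1 = 0 ∧ u.b8 = 0 ∧ u.b2 = 0 ∧ u.a8 = 0 ∧ u.b6 = 0 ∧ u.b4 = 0 ∧ u.a2 = 0}
  mul_mem' := by intros; simp_all
  one_mem' := by simp
  inv_mem' := by intros; simp_all

/-- The centraliser of `W`. -/
def CW : Subgroup (UU K) where
  carrier := {u | u.a1 = 0 ∧ u.b8 = 0 ∧ u.b2 = 0 ∧ u.a8 = 0 ∧ u.b6 = 0 ∧ u.a7 = 0}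
  mul_mem' := by intros; simp_all
  one_mem' := by simp
  inv_mem' := by intros; simp_all

/-- The subgroup on the letters x1 x2 x3 x5 x6 x4. -/
def X0 : Subgroup (UU K) where
  carrier := {u | u.b8 = 0 ∧ u.b2 = 0 ∧ u.a8 = 0 ∧ u.b6 = 0 ∧ u.b4 = 0 ∧ u.a7 = 0}
  mul_mem' := by intros; simp_all
  one_mem' := by simp
  inv_mem' := by intros; simp_all

/-- The subgroup on the letters x1 x2 x3 x5 x4. -/
def X1 : Subgroup (UU K) where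
  carrier := {u | u.b8 = 0 ∧ u.b2 = 0 ∧ u.a8 = 0 ∧ u.b6 = 0 ∧ u.b4 = 0 ∧ u.a7 = 0 ∧ u.a6 = 0}
  mul_mem' := by intros; simp_all
  one_mem' := by simp
  inv_mem' := by intros; simp_all

/-- The centraliser of `W7` in `R`. -/
def CW7 : Subgroup (UU K) where
  carrier := {u | u.a1 = 0 ∧ u.b8 = 0 ∧ u.b2 = 0 ∧ u.b4 = 0 ∧ u.a2 = 0 ∧ u.a3 = 0}
  mul_mem' := by intros; simp_all
  one_mem' := by simp
  inv_mem' := by intros; simp_all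

/-- The mirror image of `QR`. -/
def Q7 : Subgroup (UU K) where
  carrier := {u | u.a1 = 0 ∧ u.b2 = 0 ∧ u.a2 = 0}
  mul_mem' := by intros; simp_all
  one_mem' := by simp
  inv_mem' := by intros; simp_all

/-- The subgroup on the letters x7 x5 x6 x4. -/
def Y7 : Subgroup (UU K) where
  carrier := {u | u.a1 = 0 ∧ u.b8 = 0 ∧ u.b2 = 0 ∧ u.a8 = 0 ∧ u.b6 = 0 ∧ u.b4 = 0 ∧ u.a2 = 0 ∧ u.a3 = 0}
  mul_mem' := by intros; simp_all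
  one_mem' := by simp
  inv_mem' := by intros; simp_all

variable {K}

@[simp] theorem mem_Pb {u : UU K} : u ∈ Pb K ↔
    u.b8 = 0 := Iff.rfl
@[simp] theorem mem_CD {u : UU K} : u ∈ CD K ↔
    u.a1 = 0 ∧ u.b8 = 0 ∧ u.b2 = 0 := Iff.rfl
@[simp] theorem mem_QR {u : UU K} : u ∈ QR K ↔
    u.a1 = 0 ∧ u.b8 = 0 ∧ u.a8 = 0 := Iff.rfl
@[simp] theorem mem_Z6 {u : UU K} : u ∈ Z6 K ↔
    u.a1 = 0 ∧ u.b8 = 0 ∧ u.b2 = 0 ∧ u.a8 = 0 := Iff.rfl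
@[simp] theorem mem_Z5 {u : UU K} : u ∈ Z5 K ↔
    u.a1 = 0 ∧ u.b8 = 0 ∧ u.b2 = 0 ∧ u.a8 = 0 ∧ u.b6 = 0 ∧ u.b4 = 0 := Iff.rfl
@[simp] theorem mem_Z4 {u : UU K} : u ∈ Z4 K ↔
    u.a1 = 0 ∧ u.b8 = 0 ∧ u.b2 = 0 ∧ u.a8 = 0 ∧ u.b6 = 0 ∧ u.b4 = 0 ∧ u.a7 = 0 ∧ u.a2 = 0 := Iff.rfl
@[simp] theorem mem_Yy {u : UU K} : u ∈ Yy K ↔
    u.a1 = 0 ∧ u.b8 = 0 ∧ u.b2 = 0 ∧ u.a8 = 0 ∧ u.b6 = 0 ∧ u.b4 = 0 ∧ u.a2 = 0 := Iff.rfl
@[simp] theorem mem_CW {u : UU K} : u ∈ CW K ↔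
    u.a1 = 0 ∧ u.b8 = 0 ∧ u.b2 = 0 ∧ u.a8 = 0 ∧ u.b6 = 0 ∧ u.a7 = 0 := Iff.rfl
@[simp] theorem mem_X0 {u : UU K} : u ∈ X0 K ↔
    u.b8 = 0 ∧ u.b2 = 0 ∧ u.a8 = 0 ∧ u.b6 = 0 ∧ u.b4 = 0 ∧ u.a7 = 0 := Iff.rfl
@[simp] theorem mem_X1 {u : UU K} : u ∈ X1 K ↔
    u.b8 = 0 ∧ u.b2 = 0 ∧ u.a8 = 0 ∧ u.b6 = 0 ∧ u.b4 = 0 ∧ u.a7 = 0 ∧ u.a6 = 0 := Iff.rfl
@[simp] theorem mem_CW7 {u : UU K} : u ∈ CW7 K ↔
    u.a1 = 0 ∧ u.b8 = 0 ∧ u.b2 = 0 ∧ u.b4 = 0 ∧ u.a2 = 0 ∧ u.a3 = 0 := Iff.rfl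
@[simp] theorem mem_Q7 {u : UU K} : u ∈ Q7 K ↔
    u.a1 = 0 ∧ u.b2 = 0 ∧ u.a2 = 0 := Iff.rfl
@[simp] theorem mem_Y7 {u : UU K} : u ∈ Y7 K ↔
    u.a1 = 0 ∧ u.b8 = 0 ∧ u.b2 = 0 ∧ u.a8 = 0 ∧ u.b6 = 0 ∧ u.b4 = 0 ∧ u.a2 = 0 ∧ u.a3 = 0 := Iff.rfl

theorem Pb_eq_1' : type_of% @Pb.eq_1 := @Pb.eq_1
theorem CD_eq_1' : type_of% @CD.eq_1 := @CD.eq_1
theorem QR_eq_1' : type_of% @QR.eq_1 := @QR.eq_1
theorem Z6_eq_1' : type_of% @Z6.eq_1 := @Z6.eq_1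
theorem Z5_eq_1' : type_of% @Z5.eq_1 := @Z5.eq_1
theorem Z4_eq_1' : type_of% @Z4.eq_1 := @Z4.eq_1
theorem Yy_eq_1' : type_of% @Yy.eq_1 := @Yy.eq_1
theorem CW_eq_1' : type_of% @CW.eq_1 := @CW.eq_1
theorem X0_eq_1' : type_of% @X0.eq_1 := @X0.eq_1
theorem X1_eq_1' : type_of% @X1.eq_1 := @X1.eq_1
theorem CW7_eq_1' : type_of% @CW7.eq_1 := @CW7.eq_1
theorem Q7_eq_1' : type_of% @Q7.eq_1 := @Q7.eq_1
theorem Y7_eq_1' : type_of% @Y7.eq_1 := @Y7.eq_1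

theorem σ_comm [Finite K] (φ : K →+* K) (t : K) : φ (σ t) = σ (φ t) := by
  rcases eq_or_ne t 0 with rfl | ht
  · simp
  obtain ⟨g, hg⟩ := IsCyclic.exists_monoid_generator (α := Kˣ)
  have k : ∀ ψ : K →+* K, ∃ n : ℕ, ψ g = g ^ n := fun ψ => by
    obtain ⟨n, hn⟩ := hg (Units.map (ψ : K →* K) g)
    exact ⟨n, by simpa using (congrArg Units.val hn).symm⟩
  obtain ⟨a, ha⟩ := k φ
  obtain ⟨b, hb⟩ := k σ
  obtain ⟨n, hn⟩ := hg (Units.mk0 t ht)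
  have e : t = (g : K) ^ n := by simpa using (congrArg Units.val hn).symm
  simp only [e, map_pow, ha, hb, ← pow_mul]
  ring

/-- The field automorphisms. -/
def fr [Finite K] (φ : K →+* K) : UU K →* UU K where
  toFun u := ⟨φ u.a1, φ u.b8, φ u.b2, φ u.a8, φ u.b6, φ u.b4, φ u.a7, φ u.a2, φ u.a3, φ u.a5, φ u.a6, φ u.a4⟩
  map_one' := by ext <;> simp
  map_mul' u v := by ext <;> simp [σ_comm]

section
variable [Finite K] (φ : K →+* K) (u : UU K)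
@[simp] theorem fr_a1 : (fr φ u).a1 = φ u.a1 := rfl
@[simp] theorem fr_b8 : (fr φ u).b8 = φ u.b8 := rfl
@[simp] theorem fr_b2 : (fr φ u).b2 = φ u.b2 := rfl
@[simp] theorem fr_a8 : (fr φ u).a8 = φ u.a8 := rfl
@[simp] theorem fr_b6 : (fr φ u).b6 = φ u.b6 := rfl
@[simp] theorem fr_b4 : (fr φ u).b4 = φ u.b4 := rfl
@[simp] theorem fr_a7 : (fr φ u).a7 = φ u.a7 := rfl
@[simp] theorem fr_a2 : (fr φ u).a2 = φ u.a2 := rfl
@[simp] theorem fr_a3 : (fr φ u).a3 = φ u.a3 := rfl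
@[simp] theorem fr_a5 : (fr φ u).a5 = φ u.a5 := rfl
@[simp] theorem fr_a6 : (fr φ u).a6 = φ u.a6 := rfl
@[simp] theorem fr_a4 : (fr φ u).a4 = φ u.a4 := rfl
end

theorem fr_eq_1' : type_of% @fr.eq_1 := @fr.eq_1

variable (K) in
/-- Fusion systems on the whole unipotent group. -/
abbrev FS := FusionSystem (⊤ : Subgroup (UU K))

/-- The automorphisms of the whole group are standard. -/
def Nm [Finite K] (𝓕 : FS K) : Prop := ∀ f, PIso 𝓕 f ⊤ ⊤ →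
  ∃ (u : UU K) (a b : Kˣ) (φ : K →+* K), ∀ x, f x = u * tor (a : K) (b : K) (fr φ x) * u⁻¹

/-- The torus acts in the system. -/
def Tr (𝓕 : FS K) : Prop := ∀ a b : Kˣ, Mor 𝓕 ⊤ (tor (a : K) (b : K))

/-- An automorphism of `Q` in the system moves the point at infinity. -/
def MQ (𝓕 : FS K) : Prop := ∃ f, PIso 𝓕 f (Q K) (Q K) ∧ f (x7 1) ∉ Yy K

/-- An automorphism of `R` in the system moves the line `Z`. -/
def MR (𝓕 : FS K) : Prop := ∃ f, PIso 𝓕 f (R K) (R K) ∧ (f (y2 1)).b8 ≠ 0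

/-- An automorphism of `Q` in the system is congruent to `ν₈`. -/
def NQ (𝓕 : FS K) : Prop := ∃ n, PIso 𝓕 n (Q K) (Q K) ∧ ∀ x ∈ Q K, (ν8 x)⁻¹ * n x ∈ CW K

/-- An automorphism of `R` in the system is congruent to `ν₁`. -/
def NR (𝓕 : FS K) : Prop := ∃ m, PIso 𝓕 m (R K) (R K) ∧ ∀ x ∈ R K, (ν1 x)⁻¹ * m x ∈ CD K

/-- The automorphisms of `Q` in the system that are trivial modulo `CW` are inner. -/
def IQ (𝓕 : FS K) : Prop := ∀ f, PIso 𝓕 f (Q K) (Q K) → (∀ x ∈ Q K, x⁻¹ * f x ∈ CW K) →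
  ∃ y ∈ Q K, ∀ x ∈ Q K, f x = y * x * y⁻¹

/-- The automorphisms of `R` in the system that are trivial modulo `CD` are inner. -/
def IR (𝓕 : FS K) : Prop := ∀ f, PIso 𝓕 f (R K) (R K) → (∀ x ∈ R K, x⁻¹ * f x ∈ CD K) →
  ∃ y ∈ R K, ∀ x ∈ R K, f x = y * x * y⁻¹

/-- `𝓖` is the system `𝓕` in the coordinates `β`. -/
def Tw {Ω : Type*} [Group Ω] (𝓕 𝓖 : FusionSystem (⊤ : Subgroup Ω)) (β : MulAut Ω) : Prop :=
  ∀ (P : Subgroup Ω) (f : Ω → Ω), Mor 𝓖 P f ↔ Mor 𝓕 (P.map β.toMonoidHom) fun x => β (f (β.symm x))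

theorem Nm_eq_1' : type_of% @Nm.eq_1 := @Nm.eq_1
theorem Tr_eq_1' : type_of% @Tr.eq_1 := @Tr.eq_1
theorem MQ_eq_1' : type_of% @MQ.eq_1 := @MQ.eq_1
theorem MR_eq_1' : type_of% @MR.eq_1 := @MR.eq_1
theorem NQ_eq_1' : type_of% @NQ.eq_1 := @NQ.eq_1
theorem NR_eq_1' : type_of% @NR.eq_1 := @NR.eq_1
theorem IQ_eq_1' : type_of% @IQ.eq_1 := @IQ.eq_1
theorem IR_eq_1' : type_of% @IR.eq_1 := @IR.eq_1
theorem Tw_eq_1' : type_of% @Tw.eq_1 := @Tw.eq_1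

end Cfsg.Lib.TF4
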