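import Cfsg.Agent.TF4.Defs

/-!
# Invariant properties and chains
-/

set_option autoImplicit false
set_option linter.unusedSectionVars false

namespace Cfsg.Lib.TF4

open Subgroup Function Cfsg.Lib.Fus Cfsg.Lib.Gold
open scoped commutatorElement

variable {Ω : Type*} [Group Ω] {E : Subgroup Ω} {f g : Equiv.Perm Ω}

namespace Au

theorem maps (h : Au E f) {x : Ω} (hx : x ∈ E) : f x ∈ E := (h.mem x).2 hx

theorem inv_maps (h : Au E f) {x : Ω} (hx : x ∈ E) : f⁻¹ x ∈ E := (h.mem _).1 (by simpa using hx)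

theorem map_mul (h : Au E f) {x y : Ω} (hx : x ∈ E) (hy : y ∈ E) : f (x * y) = f x * f y := h.mul x hx y hy

theorem map_one (h : Au E f) : f 1 = 1 := h.mul.map_one

theorem map_inv (h : Au E f) {x : Ω} (hx : x ∈ E) : f x⁻¹ = (f x)⁻¹ := h.mul.map_inv hx

theorem map_pow (h : Au E f) {x : Ω} (hx : x ∈ E) (n : ℕ) : f (x ^ n) = f x ^ n := h.mul.map_pow hx n

theorem map_comm (h : Au E f) {x y : Ω} (hx : x ∈ E) (hy : y ∈ E) : f ⁅x, y⁆ = ⁅f x, f y⁆ :=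
  h.mul.map_commutatorElement hx hy

theorem map_conj (h : Au E f) {x y : Ω} (hx : x ∈ E) (hy : y ∈ E) : f (x * y * x⁻¹) = f x * f y * (f x)⁻¹ :=
  h.mul.map_conj hx hy

theorem eq_one_iff (h : Au E f) {x : Ω} : f x = 1 ↔ x = 1 := by
  rw [← h.map_one, f.apply_eq_iff_eq, h.map_one]

theorem inv (h : Au E f) : Au E f⁻¹ := ⟨fun x hx y hy => f.injective (by
  rw [h.map_mul (h.inv_maps hx) (h.inv_maps hy)]; simp), fun x => by rw [← h.mem]; simp⟩

theorem comp (h : Au E f) (h' : Au E g) : Au E (f * g) := ⟨fun x hx y hy => by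
  simp only [Equiv.Perm.mul_apply, h'.map_mul hx hy, h.map_mul (h'.maps hx) (h'.maps hy)], fun x => by
  rw [Equiv.Perm.mul_apply, h.mem, h'.mem]⟩

theorem one : Au E 1 := ⟨fun _ _ _ _ => rfl, fun _ => Iff.rfl⟩

theorem pow (h : Au E f) (n : ℕ) : Au E (f ^ n) := by
  induction n with
  | zero => exact one
  | succ n ih => rw [pow_succ]; exact ih.comp h

theorem cj {s : Ω} (hs : s ∈ Ns E) : Au E (Fus.cj s) :=
  ⟨mulOn_conj E s, fun x => (mem_normalizer_iff.1 hs x).symm⟩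

theorem surj (h : Au E f) {y : Ω} (hy : y ∈ E) : ∃ x ∈ E, f x = y := ⟨_, h.inv_maps hy, by simp⟩

theorem of_piso {S : Subgroup Ω} {𝓕 : FusionSystem S} (h : PIso 𝓕 f E E) : Au E f := ⟨h.mor.mulOn, h.mem⟩

theorem of_aut (β : MulAut Ω) (h : ∀ x, β x ∈ E ↔ x ∈ E) : Au E β.toEquiv := ⟨fun x _ y _ => β.map_mul x y, h⟩

end Au

theorem comm_mem {H : Subgroup Ω} {x y : Ω} (hx : x ∈ H) (hy : y ∈ H) : ⁅x, y⁆ ∈ H :=
  mul_mem (mul_mem (mul_mem hx hy) (inv_mem hx)) (inv_mem hy)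

theorem comm_mem_right {H : Subgroup Ω} {x y : Ω} (hx : x ∈ Ns H) (hy : y ∈ H) : ⁅x, y⁆ ∈ H :=
  mul_mem ((mem_normalizer_iff.1 hx y).1 hy) (inv_mem hy)

theorem comm_mem_left {H : Subgroup Ω} {x y : Ω} (hx : x ∈ H) (hy : y ∈ Ns H) : ⁅x, y⁆ ∈ H := by
  rw [← commutatorElement_inv]; exact inv_mem (comm_mem_right hy hx)

theorem comm_mem_symm {H : Subgroup Ω} {x y : Ω} (h : ⁅x, y⁆ ∈ H) : ⁅y, x⁆ ∈ H := by
  rw [← commutatorElement_inv]; exact inv_mem h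

theorem mem_Ns_of_normal (H : Subgroup Ω) [H.Normal] (x : Ω) : x ∈ Ns H := by
  rw [Ns, normalizer_eq_top]; trivial

theorem mem_Ns_of_comm [Finite Ω] {H : Subgroup Ω} {x : Ω} (h : ∀ y ∈ H, ⁅x, y⁆ ∈ H) : x ∈ Ns H :=
  mem_normalizer_fintype fun y hy => by simpa [commutatorElement_def] using mul_mem (h y hy) hy

theorem comm_bot {x y : Ω} : ⁅x, y⁆ ∈ (⊥ : Subgroup Ω) ↔ x * y = y * x := by
  rw [mem_bot, commutatorElement_eq_one_iff_mul_comm]

theorem om_le (H : Subgroup Ω) : om H ≤ H := fun _ h => h.1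

theorem conj_mem_om {H : Subgroup Ω} {s x : Ω} (hs : s ∈ Ns H) (hx : x ∈ om H) : s * x * s⁻¹ ∈ om H :=
  ⟨(mem_normalizer_iff.1 hs x).1 hx.1, by rw [conj_mul, hx.2.1]; simp, fun y hy => by
    have := hx.2.2 _ ((mem_normalizer_iff''.1 hs y).1 hy)
    calc _ = s * (x * (s⁻¹ * y * s)) * s⁻¹ := by group
      _ = _ := by rw [this]; group⟩

theorem mem_inv2 {H : Subgroup Ω} {x : Ω} (hx : x ∈ H) (h : x * x = 1) : x ∈ inv2 H := subset_closure ⟨hx, h⟩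

theorem inv2_le {H X : Subgroup Ω} : inv2 H ≤ X ↔ ∀ x ∈ H, x * x = 1 → x ∈ X :=
  (closure_le _).trans ⟨fun h _ hx h1 => h ⟨hx, h1⟩, fun h _ hx => h _ hx.1 hx.2⟩

theorem mem_om_inv2 {H : Subgroup Ω} {x : Ω} :
    x ∈ om (inv2 H) ↔ x ∈ H ∧ x * x = 1 ∧ ∀ y ∈ H, y * y = 1 → x * y = y * x :=
  ⟨fun h => ⟨inv2_le.2 (fun _ h _ => h) h.1, h.2.1, fun y hy h1 => h.2.2 y (mem_inv2 hy h1)⟩,
    fun h => ⟨mem_inv2 h.1 h.2.1, h.2.1, fun _ hy => (mem_centralizer_singleton_iff.1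
      (inv2_le.2 (fun z hz h1 => mem_centralizer_singleton_iff.2 (h.2.2 z hz h1).symm) hy)).symm⟩⟩

theorem iv_clOne {h : Au E f} {p : Ω → Prop} : (clOne h).Iv p ↔ ∀ x ∈ E, (p (f x) ↔ p x) :=
  ⟨fun k => k f rfl, fun k _ e => e ▸ k⟩

theorem iv_clF {𝓕 : FusionSystem (⊤ : Subgroup Ω)} {p : Ω → Prop} :
    (clF 𝓕 E).Iv p ↔ ∀ f, PIso 𝓕 f E E → ∀ x ∈ E, p x → p (f x) :=
  ⟨fun h f hf x hx => (h f hf x hx).2, fun h f hf x hx =>
    ⟨fun k => by simpa using h _ (PIso.symm hf) _ (PIso.maps hf hx) k, h f hf x hx⟩⟩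

namespace Cl

variable {c : Cl E} {p q : Ω → Prop}

theorem iv_of_subgroup [Finite Ω] {X : Subgroup Ω} (h : ∀ f, c.A f → ∀ x ∈ E, x ∈ X → f x ∈ X) :
    c.Iv (· ∈ X) := fun f hf x hx => by
  refine ⟨fun k => ?_, h f hf x hx⟩
  obtain ⟨y, hy⟩ := Finite.surjective_of_injective (f := fun y : ↥(E ⊓ X) =>
    (⟨f y, (c.au f hf).maps y.2.1, h f hf y y.2.1 y.2.2⟩ : ↥(E ⊓ X)))
    (fun _ _ e => Subtype.ext (f.injective (congrArg Subtype.val e))) ⟨f x, (c.au f hf).maps hx, k⟩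
  exact f.injective (congrArg Subtype.val hy) ▸ y.2.2

theorem iv_const (c : Cl E) (r : Prop) : c.Iv fun _ => r := fun _ _ _ _ => Iff.rfl

theorem iv_top (c : Cl E) : c.Iv (· ∈ (⊤ : Subgroup Ω)) := fun _ _ _ _ => Iff.rfl

theorem iv_of_le (c : Cl E) {X : Subgroup Ω} (h : E ≤ X) : c.Iv (· ∈ X) := fun f hf _ hx =>
  iff_of_true (h ((c.au f hf).maps hx)) (h hx)

theorem iv_mem (c : Cl E) : c.Iv (· ∈ E) := c.iv_of_le le_rfl

theorem iv_one (c : Cl E) : c.Iv (· = 1) := fun f hf _ _ => (c.au f hf).eq_one_iff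

theorem iv_bot (c : Cl E) : c.Iv (· ∈ (⊥ : Subgroup Ω)) := c.iv_one

theorem Iv.congr (h : c.Iv p) (e : ∀ x ∈ E, p x ↔ q x) : c.Iv q := fun f hf x hx => by
  rw [← e x hx, ← e _ ((c.au f hf).maps hx), h f hf x hx]

theorem Iv.and (h : c.Iv p) (k : c.Iv q) : c.Iv fun x => p x ∧ q x := fun f hf x hx =>
  and_congr (h f hf x hx) (k f hf x hx)

theorem Iv.or (h : c.Iv p) (k : c.Iv q) : c.Iv fun x => p x ∨ q x := fun f hf x hx =>
  or_congr (h f hf x hx) (k f hf x hx)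

theorem Iv.not (h : c.Iv p) : c.Iv fun x => ¬ p x := fun f hf x hx => not_congr (h f hf x hx)

theorem Iv.inf {X Y : Subgroup Ω} (h : c.Iv (· ∈ X)) (k : c.Iv (· ∈ Y)) : c.Iv (· ∈ X ⊓ Y) := h.and k

theorem Iv.inf_left {X : Subgroup Ω} (h : c.Iv (· ∈ X)) : c.Iv (· ∈ E ⊓ X) := c.iv_mem.and h

theorem Iv.pow (h : c.Iv p) (n : ℕ) : c.Iv fun x => p (x ^ n) := fun f hf x hx => by
  dsimp only; rw [← (c.au f hf).map_pow hx]; exact h f hf _ (pow_mem hx n)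

theorem Iv.sq (h : c.Iv p) : c.Iv fun x => p (x * x) := fun f hf x hx => by
  dsimp only; rw [← (c.au f hf).map_mul hx hx]; exact h f hf _ (mul_mem hx hx)

theorem iv_sq (c : Cl E) : c.Iv fun x => x * x = 1 := c.iv_one.sq

/-- Invariance of a universally quantified property. -/
theorem iv_forall {r : Ω → Ω → Prop} (h : ∀ f, c.A f → ∀ x ∈ E, ∀ y ∈ E, (r (f x) (f y) ↔ r x y)) :
    c.Iv fun x => ∀ y ∈ E, r x y := fun f hf x hx =>
  ⟨fun k y hy => (h f hf x hx y hy).1 (k _ ((c.au f hf).maps hy)), fun k y hy => by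
    obtain ⟨z, hz, rfl⟩ := (c.au f hf).surj hy
    exact (h f hf x hx z hz).2 (k z hz)⟩

/-- Invariance of an existentially quantified property. -/
theorem iv_exists {r : Ω → Ω → Prop} (h : ∀ f, c.A f → ∀ x ∈ E, ∀ y ∈ E, (r (f x) (f y) ↔ r x y)) :
    c.Iv fun x => ∃ y ∈ E, r x y :=
  (iv_forall (r := fun x y => ¬ r x y) fun f hf x hx y hy => not_congr (h f hf x hx y hy)).not.congr
    fun _ _ => by simp

theorem iv_exists₂ {r : Ω → Ω → Ω → Prop}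
    (h : ∀ f, c.A f → ∀ x ∈ E, ∀ y ∈ E, ∀ z ∈ E, (r (f x) (f y) (f z) ↔ r x y z)) :
    c.Iv fun x => ∃ y ∈ E, ∃ z ∈ E, r x y z := iv_exists fun f hf x hx y hy =>
  ⟨fun ⟨z, hz, k⟩ => by
    obtain ⟨w, hw, rfl⟩ := (c.au f hf).surj hz
    exact ⟨w, hw, (h f hf x hx y hy w hw).1 k⟩,
  fun ⟨z, hz, k⟩ => ⟨_, (c.au f hf).maps hz, (h f hf x hx y hy z hz).2 k⟩⟩

theorem Iv.all (h : c.Iv p) (k : c.Iv q) : c.Iv fun x => ∀ y ∈ E, p y → q ⁅x, y⁆ :=
  iv_forall fun f hf x hx y hy => by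
    rw [h f hf y hy, ← (c.au f hf).map_comm hx hy, k f hf _ (comm_mem hx hy)]

theorem Iv.allE (k : c.Iv q) : c.Iv fun x => ∀ y ∈ E, q ⁅x, y⁆ :=
  iv_forall fun f hf x hx y hy => by rw [← (c.au f hf).map_comm hx hy, k f hf _ (comm_mem hx hy)]

theorem Iv.cent (h : c.Iv p) : c.Iv fun x => ∀ y ∈ E, p y → x * y = y * x :=
  (h.all c.iv_bot).congr fun _ _ => by simp only [comm_bot]

theorem iv_center (c : Cl E) : c.Iv fun x => ∀ y ∈ E, x * y = y * x :=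
  c.iv_bot.allE.congr fun _ _ => by simp only [comm_bot]

theorem Iv.mul (h : c.Iv p) (k : c.Iv q) : c.Iv fun x => ∃ a ∈ E, ∃ b ∈ E, p a ∧ q b ∧ x = a * b :=
  iv_exists₂ fun f hf x _ y hy z hz => by
    rw [h f hf y hy, k f hf z hz, ← (c.au f hf).map_mul hy hz, f.apply_eq_iff_eq]

theorem Iv.comm (h : c.Iv p) (k : c.Iv q) : c.Iv fun x => ∃ a ∈ E, ∃ b ∈ E, p a ∧ q b ∧ x = ⁅a, b⁆ :=
  iv_exists₂ fun f hf x _ y hy z hz => by
    rw [h f hf y hy, k f hf z hz, ← (c.au f hf).map_comm hy hz, f.apply_eq_iff_eq]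

theorem Iv.sqs (h : c.Iv p) : c.Iv fun x => ∃ a ∈ E, p a ∧ x = a * a :=
  iv_exists fun f hf x _ y hy => by rw [h f hf y hy, ← (c.au f hf).map_mul hy hy, f.apply_eq_iff_eq]

theorem Iv.cnt (h : c.Iv p) (n : ℕ) : c.Iv fun x => {z | ∃ y ∈ E, p y ∧ z = ⁅x, y⁆}.ncard ≤ n :=
  fun f hf x hx => by
  have : {z | ∃ y ∈ E, p y ∧ z = ⁅f x, y⁆} = f '' {z | ∃ y ∈ E, p y ∧ z = ⁅x, y⁆} := by
    ext z
    constructor
    · rintro ⟨y, hy, k, rfl⟩
      obtain ⟨w, hw, rfl⟩ := (c.au f hf).surj hy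
      exact ⟨_, ⟨w, hw, (h f hf w hw).1 k, rfl⟩, (c.au f hf).map_comm hx hw⟩
    · rintro ⟨_, ⟨y, hy, k, rfl⟩, rfl⟩
      exact ⟨_, (c.au f hf).maps hy, (h f hf y hy).2 k, (c.au f hf).map_comm hx hy⟩
  simp only [this, Set.ncard_image_of_injective _ f.injective]

theorem Iv.closure (h : c.Iv p) : c.Iv (· ∈ closure {x | x ∈ E ∧ p x}) := fun f hf x hx => by
  have hE : Subgroup.closure {x | x ∈ E ∧ p x} ≤ E := (closure_le _).2 fun _ h => h.1
  have k : ∀ {g : Equiv.Perm Ω}, Au E g → (∀ y ∈ E, p y → p (g y)) →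
      ∀ y ∈ Subgroup.closure {x | x ∈ E ∧ p x}, g y ∈ Subgroup.closure {x | x ∈ E ∧ p x} := fun hg k y hy => by
    induction hy using closure_induction with
    | mem y hy => exact subset_closure ⟨hg.maps hy.1, k y hy.1 hy.2⟩
    | one => rw [hg.map_one]; exact one_mem _
    | mul a b ha hb iha ihb => rw [hg.map_mul (hE ha) (hE hb)]; exact mul_mem iha ihb
    | inv a ha iha => rw [hg.map_inv (hE ha)]; exact inv_mem iha
  refine ⟨fun e => ?_, k (c.au f hf) (fun y hy => (h f hf y hy).2) x⟩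
  simpa using k (c.au f hf).inv (fun y hy e => (h f hf _ ((c.au f hf).inv_maps hy)).1 (by simpa using e)) _ e

theorem Iv.om {X : Subgroup Ω} (h : c.Iv (· ∈ X)) : c.Iv (· ∈ om (E ⊓ X)) :=
  (h.and (c.iv_sq.and h.cent)).congr fun _ hx =>
    ⟨fun k => ⟨⟨hx, k.1⟩, k.2.1, fun y hy => k.2.2 y hy.1 hy.2⟩,
      fun k => ⟨k.1.2, k.2.1, fun y hy hy' => k.2.2 y ⟨hy, hy'⟩⟩⟩

theorem iv_om (c : Cl E) : c.Iv (· ∈ om E) := by simpa using c.iv_mem.om

theorem iv_inv2 (c : Cl E) : c.Iv (· ∈ inv2 E) := c.iv_sq.closure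

theorem iv_om_inv2 (c : Cl E) : c.Iv (· ∈ om (inv2 E)) :=
  (c.iv_sq.and c.iv_sq.cent).congr fun _ hx => by rw [mem_om_inv2]; tauto

theorem Stab.iv {A : Ω → Prop} {X : Subgroup Ω} (h : c.Stab A X) : c.Iv (· ∈ X) := by
  cases h with
  | bot => exact c.iv_bot
  | step _ h _ => exact h

theorem Stab.mono {A B : Ω → Prop} {X : Subgroup Ω} (h : c.Stab A X) (k : ∀ a, B a → A a) : c.Stab B X := by
  induction h with
  | bot => exact .bot
  | step _ h1 h2 ih => exact ih.step h1 fun a ha => h2 a (k a ha)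

theorem Stab.cl {c' : Cl E} {A : Ω → Prop} {X : Subgroup Ω} (h : c.Stab A X) (k : ∀ f, c'.A f → c.A f) :
    c'.Stab A X := by
  induction h with
  | bot => exact .bot
  | step _ h1 h2 ih => exact ih.step (fun f hf => h1 f (k f hf)) h2

/-- One step of a chain for a single element. -/
theorem Stab.st {x : Ω} {X Y : Subgroup Ω} (h : c.Stab (· = x) Y) (hX : c.Iv (· ∈ X))
    (k : ∀ y ∈ E, y ∈ X → ⁅x, y⁆ ∈ Y) : c.Stab (· = x) X := h.step hX fun _ e => e ▸ k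

/-- The first step of a chain for a single element. -/
theorem stab_of_comm {x : Ω} {X : Subgroup Ω} (hX : c.Iv (· ∈ X)) (k : ∀ y ∈ E, y ∈ X → x * y = y * x) :
    c.Stab (· = x) X := Stab.bot.st hX fun y hy h => comm_bot.2 (k y hy h)

/-- The last step of a chain for a single element. -/
theorem Stab.top {x : Ω} {Y : Subgroup Ω} (h : c.Stab (· = x) Y) (k : ∀ y ∈ E, ⁅x, y⁆ ∈ Y) :
    c.Stab (· = x) ⊤ := h.st c.iv_top fun y hy _ => k y hy

theorem iv_map {β : MulAut Ω} : (c.map β).Iv p ↔ c.Iv fun x => p (β x) := by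
  refine ⟨fun h f hf x hx => ?_, fun h f hf x hx => ?_⟩
  · simpa using h (β.toEquiv * f * β.toEquiv.symm) (by
      change c.A _
      convert hf using 1
      ext; simp) (β x) (by simpa using hx)
  · simpa using h _ hf _ hx

theorem Stab.of_map {β : MulAut Ω} {A : Ω → Prop} {X : Subgroup Ω} (h : (c.map β).Stab A X) :
    c.Stab (fun x => A (β x)) (X.comap β.toMonoidHom) := by
  induction h with
  | bot => rw [show (⊥ : Subgroup Ω).comap β.toMonoidHom = ⊥ from (MonoidHom.ker_eq_bot_iff _).2 β.injective]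
           exact .bot
  | step _ h1 h2 ih =>
    refine ih.step (iv_map.1 h1) fun a ha y hy hX => ?_
    simpa [map_commutatorElement] using h2 _ ha (β y) (by simpa using hy) hX

end Cl

theorem mem_map_conj {s x : Ω} : x ∈ E.comap (MulAut.conj s).symm.toMonoidHom ↔ s⁻¹ * x * s ∈ E := by simp

theorem mem_Ns_comap {β : MulAut Ω} {x : Ω} : x ∈ Ns (E.comap β.symm.toMonoidHom) ↔ β.symm x ∈ Ns E := by
  simp only [mem_normalizer_iff]
  exact ⟨fun h y => by simpa using h (β y), fun h y => by simpa using h (β.symm y)⟩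

namespace Es

variable {c : Cl E} (h : Es c)
include h

theorem map (β : MulAut Ω) : Es (c.map β) where
  ne e := h.ne (eq_top_iff.2 fun x _ => by simpa using e.ge (mem_top (β x)))
  ch x hx k := h.ch _ (mem_Ns_comap.1 hx) (k.of_map.mono fun a e => by simp [e])
  un X Y h1 h2 := by
    rcases h.un (X.comap β.toMonoidHom) (Y.comap β.toMonoidHom) (fun s hs x hx k => by
      simpa using h1 (β s) (mem_Ns_comap.2 (by simpa using hs)) (β x) (by simpa using hx) k)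
      (Cl.iv_map.1 h2) with k | ⟨k, k'⟩
    · exact .inl (Cl.iv_map.2 k)
    · exact .inr ⟨fun x hx => by simpa using @k (β.symm x) ⟨hx.1, by simpa using hx.2⟩, Cl.iv_map.2 k'⟩
  mb Y A s h1 h2 h3 h4 h5 h6 h7 := by
    have := h.mb (Y.comap β.toMonoidHom) (A.comap β.toMonoidHom) (β.symm s) (Cl.iv_map.1 h1)
      (fun x hx => by simpa using h2 hx) (mem_Ns_comap.1 h3) h4
      (fun e he => by simpa [map_commutatorElement] using h5 (β e) (by simpa using he))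
      (fun x hx => by simpa using mem_Ns_comap.1 (h6 hx)) (fun a ha => by simpa using h7 _ ha)
    convert this using 1
    · rw [relIndex_comap, map_equiv_eq_comap_symm']; rfl
    · rw [← Set.ncard_image_of_injective _ β.symm.injective]
      congr 1
      ext z
      constructor
      · rintro ⟨_, ⟨y, hy, rfl⟩, rfl⟩
        exact ⟨β.symm y, by simpa using hy, map_commutatorElement ..⟩
      · rintro ⟨y, hy, rfl⟩
        exact ⟨_, ⟨β y, hy, rfl⟩, by simp [map_commutatorElement]⟩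
  ci a ha b hb h1 h2 h3 h4 h5 h6 x hx y hy h7 := by
    simpa [map_commutatorElement] using h.ci _ (mem_Ns_comap.1 ha) _ (mem_Ns_comap.1 hb) (by simpa using h1)
      (by simpa using h2) (by simpa [map_commutatorElement] using h3) h4 h5 (by simpa using h6) _
      (mem_Ns_comap.1 hx) _ (mem_Ns_comap.1 hy) (by simpa using h7)

theorem un' (X Y : Subgroup Ω) [hX : X.Normal] (k : c.Iv fun x => x ∈ X ∨ x ∈ Y) :
    c.Iv (· ∈ X) ∨ (E ⊓ X ≤ Y ∧ c.Iv (· ∈ Y)) := h.un X Y (fun s _ _ _ hx => hX.conj_mem _ hx s) k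

variable [Finite Ω]

theorem cent {x : Ω} (k : ∀ e ∈ E, x * e = e * x) : x ∈ E :=
  h.ch x (mem_Ns_of_comm fun y hy => by rw [commutatorElement_eq_one_iff_mul_comm.2 (k y hy)]; exact one_mem _)
    (Cl.stab_of_comm c.iv_top fun y hy _ => k y hy)

theorem mem_of {x : Ω} (k : ∀ e ∈ E, ⁅x, e⁆ ∈ E) (hs : c.Stab (· = x) ⊤) : x ∈ E := h.ch x (mem_Ns_of_comm k) hs

/-- The chain `E > Y > 1`. -/
theorem mem_of_two {x : Ω} {Y : Subgroup Ω} (hY : c.Iv (· ∈ Y)) (hE : Y ≤ E) (k : ∀ e ∈ E, ⁅x, e⁆ ∈ Y)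
    (k' : ∀ y ∈ Y, x * y = y * x) : x ∈ E :=
  h.mem_of (fun e he => hE (k e he)) ((Cl.stab_of_comm hY fun y _ => k' y).top k)

theorem le_of (hΩ : IsPGroup 2 Ω) {A : Subgroup Ω} (hA : E ≤ Ns A)
    (k : ∀ x ∈ A, x ∈ Ns E → c.Stab (· = x) ⊤) : A ≤ E := by_contra fun hn => by
  obtain ⟨x, h1, h2, h3⟩ := Ess.exists_step_of_not_le (S := ⊤) (hΩ.to_subgroup ⊤) le_top le_top hA hn
  exact h3 (h.ch x h2 (k x h1 h2))

theorem le_of_normal (hΩ : IsPGroup 2 Ω) (A : Subgroup Ω) [A.Normal]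
    (k : ∀ x ∈ A, x ∈ Ns E → c.Stab (· = x) ⊤) : A ≤ E := h.le_of hΩ (fun x _ => mem_Ns_of_normal A x) k

theorem not_stab (hΩ : IsPGroup 2 Ω) : ¬ c.Stab (fun _ => True) ⊤ := fun k =>
  h.ne (eq_top_iff.2 (h.le_of_normal hΩ ⊤ fun _ _ _ => k.mono fun _ _ => trivial))

/-- The module bound with families of representatives. -/
theorem mb' {Y A : Subgroup Ω} {s : Ω} (h1 : c.Iv (· ∈ Y)) (h2 : Y ≤ E) (h4 : s ∉ E) (h5 : ∀ e ∈ E, ⁅s, e⁆ ∈ Y)
    (h6 : ∀ a ∈ A, ∀ e ∈ E, ⁅a, e⁆ ∈ E) (h7 : ∀ a ∈ A, a * a ∈ E) {ι κ : Type*} [Finite κ] (g : ι → Ω)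
    (hg : ∀ i, g i ∈ A) (hi : ∀ i j, (g i)⁻¹ * g j ∈ E → i = j) (k : κ → Ω) (hk : ∀ y ∈ Y, ∃ j, ⁅s, y⁆ = k j) :
    Nat.card ι ≤ Nat.card κ := by
  refine le_trans ?_ ((h.mb Y A s h1 h2 (mem_Ns_of_comm fun e he => h2 (h5 e he)) h4 h5
    (fun a ha => mem_Ns_of_comm (h6 a ha)) h7).trans ?_)
  · exact Nat.card_le_card_of_injective (fun i => (QuotientGroup.mk ⟨g i, hg i⟩ : A ⧸ E.subgroupOf A))
      fun i j e => hi i j (QuotientGroup.eq (s := E.subgroupOf A) (a := ⟨_, hg i⟩) (b := ⟨_, hg j⟩) |>.1 e)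
  · refine (Set.ncard_le_ncard (t := Set.range k) ?_).trans ?_
    · rintro _ ⟨y, hy, rfl⟩
      exact (hk y hy).imp fun _ => Eq.symm
    · rw [← Nat.card_coe_set_eq]; exact Finite.card_range_le k

end Es

end Cfsg.Lib.TF4
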