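import Cfsg.Agent.TF4.Nu

/-!
# The second centre lies in an essential subgroup
-/

set_option autoImplicit false
set_option linter.unusedSectionVars false
set_option linter.unusedSimpArgs false
set_option linter.unusedTactic false
set_option linter.unreachableTactic false
set_option linter.unnecessarySeqFocus false
set_option maxRecDepth 100000

namespace Cfsg.Lib.TF4

open Subgroup Function Cfsg.Lib.Fus Cfsg.Lib.Gold Cfsg.Lib.Oct Cfsg.Lib.Oct.UU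
open scoped commutatorElement

variable {K : Type*} [Field K] [TwF K] [Finite K] {E : Subgroup (UU K)} {c : Cl E}

namespace I1

variable (K) in
/-- The subgroup on the letters y4 x6 x4. -/
def A46 : Subgroup (UU K) where
  carrier := {u | u.a1 = 0 ∧ u.b8 = 0 ∧ u.b2 = 0 ∧ u.a8 = 0 ∧ u.b6 = 0 ∧ u.a7 = 0 ∧ u.a2 = 0 ∧ u.a3 = 0 ∧
    u.a5 = 0}
  mul_mem' := by intros; simp_all
  one_mem' := by simp
  inv_mem' := by intros; simp_all

theorem A46_eq_1' : type_of% @A46.eq_1 := @A46.eq_1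

theorem mem_A46 {u : UU K} : u ∈ A46 K ↔ u.a1 = 0 ∧ u.b8 = 0 ∧ u.b2 = 0 ∧ u.a8 = 0 ∧ u.b6 = 0 ∧ u.a7 = 0 ∧
    u.a2 = 0 ∧ u.a3 = 0 ∧ u.a5 = 0 := Iff.rfl

theorem Z_le (h : Es c) : Z K ≤ E := fun _ hz => h.cent fun e _ => (mT_Z e hz).symm

theorem Z_le_om (h : Es c) : Z K ≤ om E := fun _ hz =>
  ⟨Z_le h hz, sq_W (Z_le_W hz), fun e _ => (mT_Z e hz).symm⟩

/-- The centraliser of `x1 a`. -/
theorem cen_x1 {a : K} (ha : a ≠ 0) {e : UU K} (h : x1 a * e = e * x1 a) :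
    e.b8 = 0 ∧ e.a8 = 0 ∧ e.b6 = 0 ∧ e.b4 = 0 ∧ e.a7 = 0 ∧ e.a6 = 0 := by
  have hσ := σ_eq_zero.not.2 ha
  have k2 := congrArg b2 h
  uus at k2
  have h1 : e.b8 = 0 := by grind
  have k6 := congrArg b6 h
  uus [h1] at k6
  have h2 : e.a8 = 0 := by grind
  have k5 := congrArg a5 h
  uus [h1, h2] at k5
  have h3 : e.a7 = 0 := σ_eq_zero.1 (by grind)
  have k3 := congrArg a3 h
  uus [h1, h2, h3] at k3
  have h4 : e.b6 = 0 := σ_eq_zero.1 (by grind)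
  have l2 := congrArg a2 h
  uus [h1, h2, h3, h4] at l2
  have h5 : e.b4 = 0 := by grind
  have k4 := congrArg a4 h
  uus [h1, h2, h3, h4, h5] at k4
  exact ⟨h1, h2, h4, h5, h3, by grind⟩

theorem comm_N {n e : UU K} (n1 : n.b8 = 0) (n2 : n.b2 = 0) (n3 : n.a8 = 0) (n4 : n.b6 = 0) (n5 : n.b4 = 0)
    (n6 : n.a7 = 0) (n7 : n.a5 = 0) (n8 : n.a6 = 0) (e1 : e.b8 = 0) (e2 : e.a8 = 0) (e3 : e.b6 = 0)
    (e4 : e.b4 = 0) (e5 : e.a7 = 0) (e6 : e.a6 = 0) : n * e = e * n := by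
  uu [n1, n2, n3, n4, n5, n6, n7, n8, e1, e2, e3, e4, e5, e6]

theorem comm_A {a e : UU K} (ha : a ∈ A46 K) (e1 : e.b8 = 0) (e2 : e.a8 = 0) (e3 : e.b6 = 0)
    (e4 : e.b4 = 0) (e5 : e.a7 = 0) (e6 : e.a6 = 0) :
    ⁅a, e⁆ = x2 (a.b4 * e.a1) * x3 (a.b4 * e.b2) * x4 (a.a6 * e.a1) := by
  obtain ⟨a0, a1, a2, a3, a4, a5, a6, a7, a8⟩ := ha
  rw [commutatorElement_def, mul_inv_eq_iff_eq_mul, mul_inv_eq_iff_eq_mul]
  uu [a0, a1, a2, a3, a4, a5, a6, a7, a8, e1, e2, e3, e4, e5, e6]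

theorem V_le_of (h : Es c) (k : ∀ t, x6 t ∈ E) : V K ≤ E := fun u hu => by
  rw [eq_of_mem_V hu]; exact mul_mem (k _) (Z_le h (by simp))

theorem aux (h : Es c) {a : K} (ha : a ≠ 0) (hx : x1 a ∈ om E) : V K ≤ E := by
  refine V_le_of h fun t => by_contra fun hs => ?_
  have hC := fun e he => cen_x1 ha (hx.2.2 e he)
  have hN : ∀ r s t : K, x2 r * x3 s * x4 t ∈ E := fun r s t => h.cent fun e he => by
    obtain ⟨e1, e2, e3, e4, e5, e6⟩ := hC e he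
    exact comm_N (by simp) (by simp) (by simp) (by simp) (by simp) (by simp) (by simp) (by simp) e1 e2 e3 e4 e5 e6
  have hZ : ∀ e, ⁅x6 t, e⁆ ∈ Z K := fun e => comm_mem_symm (cT_V e (by simp))
  have := h.mb' (A := A46 K) (ι := K × K) (κ := K) c.iv_om (om_le E) hs (fun e _ => Z_le_om h (hZ e))
    (fun a ha e he => by
      obtain ⟨e1, e2, e3, e4, e5, e6⟩ := hC e he
      rw [comm_A ha e1 e2 e3 e4 e5 e6]; exact hN ..)
    (fun a ha => Z_le h (by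
      obtain ⟨a0, a1, a2, a3, a4, a5, a6, a7, a8⟩ := ha
      rw [mem_Z]; uus [a0, a1, a2, a3, a4, a5, a6, a7, a8]; and_intros <;> grind))
    (fun p => y4 p.1 * x6 p.2) (fun p => by simp [mem_A46])
    (fun i j e => by
      obtain ⟨-, -, -, e4, -, e6⟩ := hC _ e
      uus at e4 e6
      exact Prod.ext (by grind) (by grind))
    x4 (fun y _ => ⟨_, eq_of_mem_Z (hZ y)⟩)
  rw [Nat.card_prod] at this
  have h2 : 1 < Nat.card K := Finite.one_lt_card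
  nlinarith

theorem conj_x1 {u : UU K} (hu : u ∈ X1 K) (ha : u.a1 ≠ 0) : ∃ g, g * u * g⁻¹ = x1 u.a1 := by
  obtain ⟨u1, u2, u3, u4, u5, u6, u7⟩ := hu
  obtain ⟨r, hr⟩ := exists_σ (u.a5 / u.a1)
  obtain ⟨s, hs⟩ := exists_σ ((u.a3 + r * σ u.a1) / u.a1)
  obtain ⟨t, ht⟩ : ∃ t, t * u.a1 = u.a2 + s * σ u.a1 := ⟨_, div_mul_cancel₀ _ ha⟩
  obtain ⟨w, hw⟩ : ∃ w, w * u.a1 = u.a4 + r * u.a2 + s * u.a3 + r * s * σ u.a1 + r * t * u.a1 +
    s * σ s * u.a1 := ⟨_, div_mul_cancel₀ _ ha⟩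
  rw [eq_div_iff ha] at hr hs
  refine ⟨x7 r * y6 s * y4 t * x6 w, ?_⟩
  rw [mul_inv_eq_iff_eq_mul]
  uu [u1, u2, u3, u4, u5, u6, u7]

end I1

theorem Es.V_le (h : Es c) : V K ≤ E := by
  by_cases hR : om E ≤ R K
  · exact I1.V_le_of h fun t => h.mem_of_two c.iv_om (om_le E)
      (fun e _ => I1.Z_le_om h (comm_mem_symm (cT_V e (by simp)))) fun y hy => (mR_V (hR hy) (by simp)).symm
  obtain ⟨w, hw, h1⟩ := SetLike.not_le_iff_exists.1 hR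
  rw [mem_R] at h1
  obtain ⟨v, -, hv, e⟩ := conj_X1 h1 hw.2.1
  obtain ⟨g, hg⟩ := I1.conj_x1 hv (e ▸ h1)
  rw [e] at hg
  have hg' : (g * v)⁻¹ * x1 w.a1 * (g * v) = w := by rw [← hg]; group
  have := I1.aux (h.map (MulAut.conj (g * v))) h1 ⟨mem_map_conj.2 (hg'.symm ▸ hw.1), by simp, fun y hy => by
    have k := hw.2.2 _ (mem_map_conj.1 hy)
    rw [← hg'] at k
    apply_fun fun z => g * v * z * (g * v)⁻¹ at k
    convert k using 1 <;> group⟩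
  intro u hu
  have k := mem_map_conj.1 (this ((normal_V).conj_mem u hu (g * v)))
  convert k using 1
  group

end Cfsg.Lib.TF4
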