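import Cfsg.Agent.TF4.I2

/-!
# Essential subgroups of the unipotent group: the case `E = R`, the characteristic flag of `R`
-/

set_option autoImplicit false
set_option linter.unusedSectionVars false
set_option linter.unusedVariables false
set_option linter.unusedSimpArgs false
set_option maxRecDepth 100000

namespace Cfsg.Lib.TF4

open Subgroup Function Cfsg.Lib.Fus Cfsg.Lib.Gold Cfsg.Lib.Oct Cfsg.Lib.Oct.UU
open scoped commutatorElement

variable {K : Type*} [Field K] [TwF K] [Finite K]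

namespace I10

theorem yy_of {u : UU K} (hu : u ∈ CD K) (h : ∀ y ∈ CD K, ⁅u, y⁆ ∈ V K) : u ∈ Yy K := by
  obtain ⟨a1, b8, b2⟩ := hu
  have e2 := (comm_V.1 (h (x2 1) (by simp))).2.2.2.2.2.2.2.2.2
  have e8 := (comm_V.1 (h (x8 1) (by simp))).2.2.2.2.2.2.2.2.2
  have e4 := (comm_V.1 (h (y4 1) (by simp))).2.2.2.2.2.2.2.2.2
  have e6 := (comm_V.1 (h (y6 1) (by simp))).2.2.2.2.2.2.2.2.2
  uus [a1, b8, b2] at e2 e8 e4 e6
  exact ⟨a1, b8, b2, by grind, by grind, by grind, by grind⟩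

theorem d_of {u : UU K} (h : ∀ y ∈ CD K, u * y = y * u) : u ∈ D K := by
  obtain ⟨a1, b8, b2, a8, b6, b4, a2⟩ := yy_of (cen_D fun d hd => h d (D_le_CD hd)) fun y hy => by
    rw [commutatorElement_eq_one_iff_mul_comm.2 (h y hy)]; exact one_mem _
  have e4 := congrArg a6 (h (y4 1) (by simp))
  have e8 := congrArg a6 (h (x8 1) (by simp))
  uus [a1, b8, b2, a8, b6, b4, a2] at e4 e8
  exact mem_D.2 ⟨a1, b8, b2, a8, b6, b4, by grind, a2, by grind⟩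

theorem v_of {u r : UU K} (hu : u ∈ D K) (hr : r ∈ R K) (hc : r ∉ CD K) (h : u * r = r * u) : u ∈ V K := by
  obtain ⟨a1, b8, b2, a8, b6, b4, a7, a2, a3⟩ := mem_D.1 hu
  have e6 := congrArg a6 h
  have e4 := congrArg a4 h
  rw [mem_R] at hr
  rw [mem_CD] at hc
  uus [a1, b8, b2, a8, b6, b4, a7, a2, a3, hr] at e6 e4
  exact mem_V.2 ⟨a1, b8, b2, a8, b6, b4, a7, a2, a3, by grind⟩

theorem cZ5_F {u v : UU K} (hu : u ∈ Z5 K) (hv : v ∈ F K) : ⁅u, v⁆ ∈ D K :=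
  by
  obtain ⟨a1, b8, b2, a8, b6, b4⟩ := hu
  obtain ⟨c1, c8⟩ := hv
  rw [comm_D]
  uus [a1, b8, b2, a8, b6, b4, c1, c8]
  grind

end I10

variable {E : Subgroup (UU K)} {c : Cl E}

theorem Es.eq_R (h : Es c) (hR : E ≤ R K) (hC : CD K ≤ E) (iD : c.Iv (· ∈ D K)) : E = R K := by
  have iC : c.Iv (· ∈ CD K) := iD.cent.congr fun x _ =>
    ⟨fun k => cen_D fun d hd => k d (hC (D_le_CD hd)) hd, fun k y _ hy => mCD_D k hy⟩
  by_cases hE : E ≤ CD K
  · obtain rfl : E = CD K := le_antisymm hE hC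
    have := h.ci (y8 1) (mem_Ns_of_normal _ _) (y2 1) (mem_Ns_of_normal _ _)
      (by simp [CharTwo.add_self_eq_zero]) (by simp [CharTwo.add_self_eq_zero])
      (cR_R (by simp) (by simp)) (by simp) (by simp) (by simp) (x1 1) (mem_Ns_of_normal _ _) (y8 1)
      (mem_Ns_of_normal _ _) (by simp [CharTwo.add_self_eq_zero])
    have e := this.2.2
    rw [ChU.comm_b2] at e
    simp at e
  obtain ⟨r, rE, rC⟩ := SetLike.not_le_iff_exists.1 hE
  have iV : c.Iv (· ∈ V K) := c.iv_center.congr fun x _ =>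
    ⟨fun k => I10.v_of (I10.d_of fun y hy => k y (hC hy)) (hR rE) rC (k r rE),
      fun k y hy => (mR_V (hR hy) k).symm⟩
  have iY : c.Iv (· ∈ Yy K) := (iC.and (iC.all iV)).congr fun x _ =>
    ⟨fun ⟨k0, k⟩ => I10.yy_of k0 fun y hy => k y (hC hy) hy,
      fun k => ⟨Yy_le_CD k, fun y _ hy => comm_mem_symm (cCD_Yy hy k)⟩⟩
  exact le_antisymm hR (h.le_of_normal (UU.isPGroup K) _ fun x hx _ =>
    ((((Cl.stab_of_comm iV fun y _ hy => mR_V hx hy).st iD fun y _ hy => cT_D x hy).st iY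
      fun y _ hy => cR_Yy hx hy).st iC fun y _ hy => cR_CD hx hy).top fun y hy => cR_R hx (hR hy))

theorem charR (c : Cl (R K)) : c.Iv (· ∈ V K) ∧ c.Iv (· ∈ D K) ∧ c.Iv (· ∈ Yy K) ∧ c.Iv (· ∈ CD K) := by
  have r : y8 (1 : K) ∈ R K := by simp
  have p : y2 (1 : K) ∈ F K := by simp
  have iV : c.Iv (· ∈ V K) := c.iv_center.congr fun x hx =>
    ⟨fun k => I2.uV r one_ne_zero p one_ne_zero hx (k _ (F_le_R p)) (k _ r), fun k y hy => (mR_V hy k).symm⟩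
  have iD : c.Iv (· ∈ D K) := iV.allE.congr fun x hx =>
    ⟨fun k => I2.uD r one_ne_zero p one_ne_zero hx (k _ (F_le_R p)) (k _ r),
      fun k y hy => comm_mem_symm (cT_D y k)⟩
  have iY : c.Iv (· ∈ Yy K) := iD.allE.congr fun x hx =>
    ⟨fun k => I2.uYy r one_ne_zero p one_ne_zero hx (k _ (F_le_R p)) (k _ r),
      fun k y hy => comm_mem_symm (cR_Yy hy k)⟩
  exact ⟨iV, iD, iY, iY.allE.congr fun x hx =>
    ⟨fun k => I2.uCD r one_ne_zero p one_ne_zero hx (k _ (F_le_R p)) (k _ r),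
      fun k y hy => comm_mem_symm (cR_CD hy k)⟩⟩

theorem stabR (c : Cl (R K)) (iZ : c.Iv (· ∈ Z K)) : c.Stab (fun _ => True) ⊤ := by
  obtain ⟨iV, iD, iY, iC⟩ := charR c
  have p : y2 (1 : K) ∈ F K := by simp
  have iF : c.Iv (· ∈ F K) := (iD.all iZ).congr fun x hx => ⟨fun k => by
    have := (comm_Z.1 (k (x5 1) (by simp) (by simp))).2.2.2.2.2.2.2.2.2.2
    uus at this
    exact ⟨hx, by grind⟩, fun k y _ hy => cPb_D (F_le_Pb k) hy⟩
  have i4 : c.Iv (· ∈ Z4 K) := (iY.and (iF.all iV)).congr fun x hx =>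
    ⟨fun ⟨⟨a1, b8, b2, a8, b6, b4, a2⟩, k⟩ => by
      have := (comm_V.1 (k _ (F_le_R p) p)).2.2.2.2.2.2.2.2.2
      uus [a1, b8, b2, a8, b6, b4, a2] at this
      exact ⟨a1, b8, b2, a8, b6, b4, by grind, a2⟩,
    fun k => ⟨Z4_le_Yy k, fun y _ hy => comm_mem_symm (cF_Z4 hy k)⟩⟩
  have i6 : c.Iv (· ∈ Z6 K) := (iC.and (iF.all i4)).congr fun x hx =>
    ⟨fun ⟨⟨a1, b8, b2⟩, k⟩ => by
      have := (comm_Z4.1 (k _ (F_le_R p) p)).2.2.2.2.2.2.1
      uus [a1, b8, b2] at this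
      exact ⟨a1, b8, b2, by grind⟩,
    fun k => ⟨Z6_le_CD k, fun y _ hy => comm_mem_symm (cF_Z6 hy k)⟩⟩
  have i5 : c.Iv (· ∈ Z5 K) := (i6.and ((iF.all iD).and i4.allE)).congr fun x hx =>
    ⟨fun ⟨⟨a1, b8, b2, a8⟩, k, k'⟩ => by
      have e3 := (comm_D.1 (k _ (F_le_R p) p)).2.2.2.2.2.2.2.2
      have e7 := (comm_Z4.1 (k' (y8 1) (by simp))).2.2.2.2.2.2.1
      uus [a1, b8, b2, a8] at e3 e7
      exact ⟨a1, b8, b2, a8, by grind, by grind⟩,
    fun k => ⟨Z5_le_Z6 k, fun y _ hy => I10.cZ5_F k hy, fun y _ => comm_mem_symm (cT_Z5 y k)⟩⟩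
  exact (((((((Cl.Stab.bot.step iZ fun a _ y _ hy => comm_bot.2 (mT_Z a hy)).step iV
    fun a _ y _ hy => cT_V a hy).step iD fun a _ y _ hy => cT_D a hy).step i4
    fun a _ y _ hy => cT_Z4 a hy).step i5 fun a _ y _ hy => cT_Z5 a hy).step i6
    fun a _ y _ hy => cT_Z6 a hy).step iF fun a _ y _ hy => cT_F a hy).step c.iv_top
    fun a _ y _ _ => cT_T a y

end Cfsg.Lib.TF4
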