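import Cfsg.Agent.TF4.ChU

/-!
# Essential subgroups of the unipotent group: `D ≤ E`, `CD ≤ E`, invariance of `Pb`
-/

set_option autoImplicit false
set_option linter.unusedSectionVars false
set_option linter.unusedVariables false
set_option linter.unusedSimpArgs false
set_option maxRecDepth 100000

namespace Cfsg.Lib.TF4

open Subgroup Function Cfsg.Lib.Fus Cfsg.Lib.Gold Cfsg.Lib.Oct Cfsg.Lib.Oct.UU
open scoped commutatorElement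

variable {K : Type*} [Field K] [TwF K] [Finite K]

namespace I2

theorem four_F {v : UU K} (hv : v ∈ F K) : v * v * (v * v) = x4 (v.a8 * v.b2 ^ 2 * σ v.b2) := by
  obtain ⟨h1, h2⟩ := hv
  have e : ∀ w : UU K, w.a1 = 0 → w.b8 = 0 → w.b2 = 0 → w.a8 = 0 → w.b6 = 0 → w.b4 = 0 →
      w * w = x4 (w.a2 * w.a7) := fun w k1 k2 k3 k4 k5 k6 => by
    uu [k1, k2, k3, k4, k5, k6]
  rw [e (v * v)]
  · congr 1
    uus [h1, h2]
    grind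
  all_goals
    uus [h1, h2]
    try grind

theorem eight (u : UU K) : u ^ 8 = 1 ↔ u ∈ Pb K ∨ u ∈ R K := by
  have e : u ^ 8 = u * u * (u * u) * (u * u * (u * u)) := by
    simp only [pow_succ, pow_zero, one_mul, mul_assoc]
  have hF : u * u ∈ F K := ⟨by uus; grind, by uus; grind⟩
  have h2 : (u * u).b2 = u.a1 * u.b8 := by uus; grind
  have h8 : (u * u).a8 = σ u.b8 * u.b8 := by uus; grind
  rw [e, four_F hF, h2, h8, mem_Pb, mem_R]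
  constructor
  · intro h
    have := congrArg a4 h
    simp only [x4_a4, one_a4, mul_eq_zero, σ_eq_zero, pow_eq_zero_iff two_ne_zero] at this
    tauto
  · rintro (h | h) <;> ext <;> simp [h]

variable {x p r : UU K}

theorem uCD (hr : r ∈ R K) (r8 : r.b8 ≠ 0) (hp : p ∈ F K) (p2 : p.b2 ≠ 0) (hx : x ∈ R K)
    (k1 : ⁅x, p⁆ ∈ Yy K) (k2 : ⁅x, r⁆ ∈ Yy K) : x ∈ CD K := by
  have e1 := (comm_Yy.1 k1).2.2.2.2.1
  have e2 := (comm_Yy.1 k2).2.2.2.2.1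
  rw [mem_R] at hr hx
  obtain ⟨p1, p8⟩ := hp
  have b8 : x.b8 = 0 := by
    uus [hx, p1, p8] at e1
    exact σ_eq_zero.1 (by grind)
  uus [hx, hr, b8] at e2
  have := σ_eq_zero.not.2 r8
  exact ⟨hx, b8, by grind⟩

theorem uYy (hr : r ∈ R K) (r8 : r.b8 ≠ 0) (hp : p ∈ F K) (p2 : p.b2 ≠ 0) (hx : x ∈ R K)
    (k1 : ⁅x, p⁆ ∈ D K) (k2 : ⁅x, r⁆ ∈ D K) : x ∈ Yy K := by
  obtain ⟨a1, b8, b2⟩ := uCD hr r8 hp p2 hx (D_le_Yy k1) (D_le_Yy k2)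
  obtain ⟨-, -, -, -, -, -, e1, -, e1'⟩ := comm_D.1 k1
  obtain ⟨-, -, -, -, -, -, e2, -, e2'⟩ := comm_D.1 k2
  rw [mem_R] at hr
  obtain ⟨p1, p8⟩ := hp
  uus [a1, b8, b2, p1, p8] at e1 e1'
  have a8 : x.a8 = 0 := by grind
  have b4 : x.b4 = 0 := by grind
  uus [a1, b8, b2, hr, a8, b4] at e2 e2'
  exact ⟨a1, b8, b2, a8, by grind, b4, by grind⟩

theorem uD (hr : r ∈ R K) (r8 : r.b8 ≠ 0) (hp : p ∈ F K) (p2 : p.b2 ≠ 0) (hx : x ∈ R K)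
    (k1 : ⁅x, p⁆ ∈ V K) (k2 : ⁅x, r⁆ ∈ V K) : x ∈ D K := by
  obtain ⟨a1, b8, b2, a8, b6, b4, a2⟩ := uYy hr r8 hp p2 hx (V_le_D k1) (V_le_D k2)
  obtain ⟨-, -, -, -, -, -, -, -, -, e1⟩ := comm_V.1 k1
  obtain ⟨-, -, -, -, -, -, -, -, -, e2⟩ := comm_V.1 k2
  rw [mem_R] at hr
  obtain ⟨p1, p8⟩ := hp
  have s1 := σ_eq_zero.not.2 r8
  have s2 := σ_eq_zero.not.2 p2
  uus [a1, b8, b2, a8, b6, b4, a2, p1, p8] at e1
  have a7 : x.a7 = 0 := by grind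
  uus [a1, b8, b2, a8, b6, b4, a2, a7, hr] at e2
  exact mem_D.2 ⟨a1, b8, b2, a8, b6, b4, a7, a2, by grind⟩

theorem uV (hr : r ∈ R K) (r8 : r.b8 ≠ 0) (hp : p ∈ F K) (p2 : p.b2 ≠ 0) (hx : x ∈ R K)
    (k1 : x * p = p * x) (k2 : x * r = r * x) : x ∈ V K := by
  obtain ⟨a1, b8, b2, a8, b6, b4, a7, a2, a3⟩ := mem_D.1 (uD hr r8 hp p2 hx
    (by rw [commutatorElement_eq_one_iff_mul_comm.2 k1]; exact one_mem _)
    (by rw [commutatorElement_eq_one_iff_mul_comm.2 k2]; exact one_mem _))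
  have e := congrArg a6 k2
  rw [mem_R] at hr
  uus [a1, b8, b2, a8, b6, b4, a2, a7, a3, hr] at e
  exact mem_V.2 ⟨a1, b8, b2, a8, b6, b4, a7, a2, a3, by grind⟩

end I2

variable {E : Subgroup (UU K)} {c : Cl E}

theorem Es.PR (h : Es c) : c.Iv (· ∈ Pb K) ∨ (E ⊓ Pb K ≤ R K ∧ c.Iv (· ∈ R K)) :=
  h.un' _ _ ((c.iv_one.pow 8).congr fun x _ => I2.eight x)

theorem Es.D_le (h : Es c) (hV : V K ≤ E) : D K ≤ E := by
  intro x hx
  have hc : ∀ e, ⁅x, e⁆ ∈ V K := fun e => comm_mem_symm (cT_D e hx)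
  rcases h.PR with iP | ⟨-, iR⟩
  · refine h.mem_of (fun e _ => hV (hc e))
      (((Cl.stab_of_comm c.iv_om fun y _ hy => ?_).st iP fun y _ hy => ?_).top fun y _ => V_le_Pb (hc y))
    · exact (mCD_D (inv_R (cen_V one_ne_zero (hy.2.2 _ (hV (by simp)))) hy.2.1) hx).symm
    · have hz := comm_mem_symm (cPb_D hy hx)
      exact ⟨hV (Z_le_V hz), sq_W (Z_le_W hz), fun w _ => (mT_Z w hz).symm⟩
  · refine h.mem_of_two iR.om ((om_le _).trans inf_le_left) (fun e _ => ?_) fun y hy => ?_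
    · exact ⟨⟨hV (hc e), V_le_R (hc e)⟩, sq_W (V_le_W (hc e)), fun w hw => (mR_V hw.2 (hc e)).symm⟩
    · exact (mCD_D (inv_R hy.1.2 hy.2.1) hx).symm

theorem Es.CD_le (h : Es c) (hD : D K ≤ E) (iD : c.Iv (· ∈ D K)) : CD K ≤ E := by
  have iC : c.Iv (· ∈ CD K) := iD.cent.congr fun x _ =>
    ⟨fun k => cen_D fun d hd => k d (hD hd) hd, fun k y _ hy => mCD_D k hy⟩
  refine h.le_of_normal (UU.isPGroup K) _ fun x hx _ =>
    ((Cl.stab_of_comm iD fun y _ hy => mCD_D hx hy).st iC fun y _ hy => cCD_CD hx hy).top fun y _ => ?_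
  exact comm_mem_left hx (mem_Ns_of_normal _ _)

theorem Es.ivP (h : Es c) (hD : D K ≤ E) (hR : ¬ E ≤ R K) : c.Iv (· ∈ Pb K) := by
  rcases h.PR with iP | ⟨hP, iR⟩
  · exact iP
  by_cases hr : E ⊓ R K ≤ Pb K
  · exact iR.congr fun x hx => ⟨fun k => hr ⟨hx, k⟩, fun k => hP ⟨hx, k⟩⟩
  exfalso
  obtain ⟨r, ⟨rE, rR⟩, r8⟩ := SetLike.not_le_iff_exists.1 hr
  obtain ⟨e, eE, e1⟩ := SetLike.not_le_iff_exists.1 hR
  have pE : ⁅e, r⁆ ∈ E := comm_mem eE rE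
  have pF : ⁅e, r⁆ ∈ F K := cT_T e r
  have p2 : ⁅e, r⁆.b2 ≠ 0 := by
    rw [ChU.comm_b2, mem_R.1 rR, zero_mul, add_zero]
    exact mul_ne_zero e1 r8
  have iV : c.Iv (· ∈ V K) := (iR.and iR.cent).congr fun x _ =>
    ⟨fun ⟨k0, k⟩ => I2.uV rR r8 pF p2 k0 (k _ pE (F_le_R pF)) (k _ rE rR),
      fun k => ⟨V_le_R k, fun y _ hy => (mR_V hy k).symm⟩⟩
  have iD : c.Iv (· ∈ D K) := (iR.and (iR.all iV)).congr fun x _ =>
    ⟨fun ⟨k0, k⟩ => I2.uD rR r8 pF p2 k0 (k _ pE (F_le_R pF)) (k _ rE rR),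
      fun k => ⟨D_le_R k, fun y _ hy => comm_mem_symm (cT_D y k)⟩⟩
  have iY : c.Iv (· ∈ Yy K) := (iR.and (iR.all iD)).congr fun x _ =>
    ⟨fun ⟨k0, k⟩ => I2.uYy rR r8 pF p2 k0 (k _ pE (F_le_R pF)) (k _ rE rR),
      fun k => ⟨CD_le_R (Yy_le_CD k), fun y _ hy => comm_mem_symm (cR_Yy hy k)⟩⟩
  have iC : c.Iv (· ∈ CD K) := (iR.and (iR.all iY)).congr fun x _ =>
    ⟨fun ⟨k0, k⟩ => I2.uCD rR r8 pF p2 k0 (k _ pE (F_le_R pF)) (k _ rE rR),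
      fun k => ⟨CD_le_R k, fun y _ hy => comm_mem_symm (cR_CD hy k)⟩⟩
  have hRE : R K ≤ E := h.le_of_normal (UU.isPGroup K) _ fun x hx _ =>
    (((((Cl.stab_of_comm iV fun y _ hy => mR_V hx hy).st iD fun y _ hy => cT_D x hy).st iY
      fun y _ hy => cR_Yy hx hy).st iC fun y _ hy => cR_CD hx hy).st iR
      fun y _ hy => cR_R hx hy).top fun y _ => F_le_R (cT_T x y)
  have := hP (x := e * y8 e.b8) ⟨mul_mem eE (hRE (by simp)), by simp [CharTwo.add_self_eq_zero]⟩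
  exact e1 (by simpa using this)

end Cfsg.Lib.TF4
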