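import Cfsg.Agent.TF4.ChU

/-!
# Essential subgroups of the unipotent group: the flag of `Q`, the case `E = Q`
-/

set_option autoImplicit false
set_option linter.unusedSectionVars false
set_option linter.unusedVariables false
set_option linter.unusedSimpArgs false
set_option maxRecDepth 100000

namespace Cfsg.Lib.TF4

open Subgroup Function Cfsg.Lib.Fus Cfsg.Lib.Gold Cfsg.Lib.Oct Cfsg.Lib.Oct.UU
open scoped commutatorElement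

variable {K : Type*} [Field K] [TwF K] [Finite K]

namespace I8

theorem comm_47 (s r : K) : ⁅y4 s * x2 r, x7 (1 : K)⁆ = x6 s * x4 r := by
  rw [commutatorElement_def, mul_inv_eq_iff_eq_mul, mul_inv_eq_iff_eq_mul]
  uu [mul_zero]

theorem eq_64 {v : UU K} (hv : v ∈ V K) : v = x6 v.a6 * x4 v.a4 := by
  obtain ⟨a1, b8, b2, a8, b6, b4, a7, a2, a3, a5⟩ := mem_V.1 hv
  uu [a1, b8, b2, a8, b6, b4, a7, a2, a3, a5]

end I8

variable {E : Subgroup (UU K)} {c : Cl E}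

theorem flagQ (hQ : Q K ≤ E) (iQ : c.Iv (· ∈ Q K)) (iW : c.Iv (· ∈ W K)) (iY : c.Iv (· ∈ Yy K)) :
    c.Iv (· ∈ CW K) ∧ c.Iv (· ∈ QR K) ∧ c.Iv (· ∈ Z6 K) ∧ c.Iv (· ∈ Z5 K) ∧ c.Iv (· ∈ Z4 K) ∧
      c.Iv (· ∈ D K) ∧ c.Iv (· ∈ V K) ∧ c.Iv (· ∈ Z K) := by
  have iC : c.Iv (· ∈ CW K) := iW.cent.congr fun x _ =>
    ⟨fun k => cen_W fun w hw => k w (hQ (W_le_Q hw)) hw, fun k y _ hy => mCW_W k hy⟩
  have iZ : c.Iv (· ∈ Z K) := iQ.cent.congr fun x _ =>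
    ⟨fun k => mem_Z_of_comm fun v hv => k v (hQ hv) hv, fun k y _ _ => (mT_Z y k).symm⟩
  have i5 : c.Iv (· ∈ Z5 K) := (iW.mul iY).congr fun x _ =>
    ⟨fun ⟨a, _, b, _, ha, hb, e⟩ => e ▸ mul_mem (W_le_Z5 ha) (Yy_le_Z5 hb), fun k => by
      have h1 : x2 x.a2 ∈ W K := by simp
      have h2 : (x2 x.a2)⁻¹ * x ∈ Yy K := by
        obtain ⟨a1, b8, b2, a8, b6, b4⟩ := k
        exact inv_mul_Yy.2 ⟨a1.symm, b8.symm, b2.symm, a8.symm, b6.symm, b4.symm, rfl⟩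
      exact ⟨_, hQ (W_le_Q h1), _, hQ (Yy_le_Q h2), h1, h2, by simp⟩⟩
  have i4 : c.Iv (· ∈ Z4 K) := (iW.and iY).congr fun x _ =>
    ⟨fun ⟨k, k'⟩ => by
      simp only [mem_W, mem_Yy, mem_Z4] at *
      tauto, fun k => ⟨Z4_le_W k, Z4_le_Yy k⟩⟩
  have iV : c.Iv (· ∈ V K) := (iC.comm iY).congr fun x _ =>
    ⟨fun ⟨a, _, b, _, ha, hb, e⟩ => e ▸ cCD_Yy (Z6_le_CD (CW_le_Z6 ha)) hb, fun k => by
      have h1 : y4 x.a6 * x2 x.a4 ∈ CW K := mul_mem (by simp) (by simp)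
      have h2 : x7 (1 : K) ∈ Yy K := by simp
      exact ⟨_, hQ (CW_le_Q h1), _, hQ (Yy_le_Q h2), h1, h2, by rw [I8.comm_47, ← I8.eq_64 k]⟩⟩
  have iQR : c.Iv (· ∈ QR K) := (iQ.and iV.cent).congr fun x _ =>
    ⟨fun ⟨k0, k⟩ => ⟨cen_V one_ne_zero (k (x6 1) (hQ (by simp)) (by simp)), k0.1, k0.2⟩,
      fun k => ⟨QR_le_Q k, fun y _ hy => mR_V (QR_le_R k) hy⟩⟩
  have i6 : c.Iv (· ∈ Z6 K) := (iQR.and (iY.all iV)).congr fun x _ =>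
    ⟨fun ⟨⟨a1, b8, a8⟩, k⟩ => by
      have := (comm_V.1 (k (x7 1) (hQ (by simp)) (by simp))).2.2.2.2.2.2.2.2.2
      uus [a1, b8, a8] at this
      exact ⟨a1, b8, σ_eq_zero.1 (by grind), a8⟩,
    fun k => ⟨Z6_le_QR k, fun y _ hy => cCD_Yy (Z6_le_CD k) hy⟩⟩
  have iD : c.Iv (· ∈ D K) := (iY.and i6.cent).congr fun x _ =>
    ⟨fun ⟨⟨a1, b8, b2, a8, b6, b4, a2⟩, k⟩ => by
      have e4 := congrArg a6 (k (y4 1) (hQ (by simp)) (by simp))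
      have e6 := congrArg a4 (k (y6 1) (hQ (by simp)) (by simp))
      uus [a1, b8, b2, a8, b6, b4, a2] at e4 e6
      exact mem_D.2 ⟨a1, b8, b2, a8, b6, b4, by grind, a2, by grind⟩,
    fun k => ⟨D_le_Yy k, fun y _ hy => (mCD_D (Z6_le_CD hy) k).symm⟩⟩
  exact ⟨iC, iQR, i6, i5, i4, iD, iV, iZ⟩

theorem stabQ (hQ : Q K ≤ E) (iQ : c.Iv (· ∈ Q K)) (iW : c.Iv (· ∈ W K)) (iY : c.Iv (· ∈ Yy K)) :
    c.Stab (fun _ => True) (Q K) := by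
  obtain ⟨-, iQR, i6, i5, i4, iD, iV, iZ⟩ := flagQ hQ iQ iW iY
  exact (((((((Cl.Stab.bot.step iZ fun a _ y _ hy => comm_bot.2 (mT_Z a hy)).step iV
    fun a _ y _ hy => cT_V a hy).step iD fun a _ y _ hy => cT_D a hy).step i4
    fun a _ y _ hy => cT_Z4 a hy).step i5 fun a _ y _ hy => cT_Z5 a hy).step i6
    fun a _ y _ hy => cT_Z6 a hy).step iQR fun a _ y _ hy => cT_QR a hy).step iQ
    fun a _ y _ hy => cT_Q a hy

theorem charQ (c : Cl (Q K)) : c.Iv (· ∈ Z K) ∧ c.Iv (· ∈ W K) ∧ c.Iv (· ∈ CW K) := by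
  have iZ : c.Iv (· ∈ Z K) := c.iv_center.congr fun x _ =>
    ⟨fun k => mem_Z_of_comm k, fun k y _ => (mT_Z y k).symm⟩
  have iW : c.Iv (· ∈ W K) := iZ.allE.congr fun x hx => ⟨fun k => by
    obtain ⟨b8, a8⟩ := mem_Q.1 hx
    obtain ⟨-, -, -, -, -, -, -, -, e3, e5, e6⟩ := comm_Z.1 (k (x7 1) (by simp))
    obtain ⟨-, -, -, -, -, -, -, f2, -, f5, -⟩ := comm_Z.1 (k (x1 1) (by simp))
    uus [b8, a8] at e3 e5 e6 f2 f5
    have a1 : x.a1 = 0 := σ_eq_zero.1 (by grind)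
    have b2 : x.b2 = 0 := σ_eq_zero.1 (by grind)
    have b4 : x.b4 = 0 := by grind
    exact mem_W.2 ⟨a1, b8, b2, a8, by grind, b4, σ_eq_zero.1 (by grind)⟩,
    fun k y hy => comm_mem_symm (cQ_W hy k)⟩
  exact ⟨iZ, iW, iW.cent.congr fun x _ =>
    ⟨fun k => cen_W fun w hw => k w (W_le_Q hw) hw, fun k y _ hy => mCW_W k hy⟩⟩

theorem Es.eq_Q (h : Es c) (hQ : Q K ≤ E) (iP : c.Iv (· ∈ Pb K)) (iQ : c.Iv (· ∈ Q K)) (iW : c.Iv (· ∈ W K)) :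
    E = Q K := by
  by_contra hne
  obtain ⟨e, eE, eQ⟩ := SetLike.not_le_iff_exists.1 fun k : E ≤ Q K => hne (le_antisymm k hQ)
  have iJ : c.Iv fun x => x ∈ Yy K ∨ x ∈ W K := (iQ.and (c.iv_sq.and iW.allE)).congr fun x _ =>
    ⟨fun ⟨k0, k2, k⟩ => by
      obtain ⟨b8, a8⟩ := mem_Q.1 k0
      have a1 : x.a1 = 0 := by
        by_contra a1
        obtain ⟨-, -, f2, -, f6, -⟩ := comm_W.1 (k e eE)
        uus [b8, a8] at f2
        have e8 : e.b8 = 0 := by grind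
        uus [b8, a8, e8] at f6
        exact eQ (mem_Q.2 ⟨e8, by grind⟩)
      obtain ⟨-, -, b2⟩ := inv_R a1 k2
      exact (inv_Z6 ⟨a1, b8, b2, a8⟩ k2).symm,
    fun k => k.elim
      (fun k => ⟨Yy_le_Q k, sq_Yy k, fun y _ => comm_mem_symm (Z4_le_W (cT_Z5 y (Yy_le_Z5 k)))⟩)
      fun k => ⟨W_le_Q k, sq_W k, fun y _ => comm_mem_symm (Z4_le_W (cT_Z5 y (W_le_Z5 k)))⟩⟩
  rcases h.un' _ _ iJ with iY | ⟨k, -⟩
  · exact h.not_stab (UU.isPGroup K) (((stabQ hQ iQ iW iY).step iP fun a _ y _ hy => cT_Pb a hy).step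
      c.iv_top fun a _ y _ _ => F_le_Pb (cT_T a y))
  · have := k (x := x7 1) ⟨hQ (by simp), by simp⟩
    simp at this

end Cfsg.Lib.TF4
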