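import Cfsg.Agent.TF4.Tab

/-!
# The reflections as automorphisms of `Q` and `R`
-/

set_option autoImplicit false
set_option linter.unusedSectionVars false
set_option linter.unusedSimpArgs false
set_option linter.unusedTactic false
set_option linter.unreachableTactic false
set_option linter.unnecessarySeqFocus false
set_option maxRecDepth 100000

namespace Cfsg.Lib.TF4

open Subgroup Function Cfsg.Lib.Fus Cfsg.Lib.Gold Cfsg.Lib.Oct Cfsg.Lib.Oct.UU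
open scoped commutatorElement

variable {K : Type*} [Field K] [TwF K]

section
variable (u : UU K)
@[simp] theorem ν8_a1 : (ν8 u).a1 =
    u.a7 := by
  unfold ν8; uus <;> grind
@[simp] theorem ν8_b8 : (ν8 u).b8 =
    0 := by
  unfold ν8; uus <;> grind
@[simp] theorem ν8_b2 : (ν8 u).b2 =
    u.b6 := by
  unfold ν8; uus <;> grind
@[simp] theorem ν8_a8 : (ν8 u).a8 =
    0 := by
  unfold ν8; uus <;> grind
@[simp] theorem ν8_b6 : (ν8 u).b6 =
    u.b2 := by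
  unfold ν8; uus <;> grind
@[simp] theorem ν8_b4 : (ν8 u).b4 =
    u.b4 := by
  unfold ν8; uus <;> grind
@[simp] theorem ν8_a7 : (ν8 u).a7 =
    u.a1 := by
  unfold ν8; uus <;> grind
@[simp] theorem ν8_a2 : (ν8 u).a2 =
    u.a6 + σ u.a7 * u.b2 + u.a7 * u.b4 := by
  unfold ν8; uus <;> grind
@[simp] theorem ν8_a3 : (ν8 u).a3 =
    u.a5 + u.a1 * σ u.a7 + u.a7 * σ u.b2 := by
  unfold ν8; uus <;> grind
@[simp] theorem ν8_a5 : (ν8 u).a5 =
    u.a3 + σ u.a1 * u.a7 + u.a1 * σ u.b6 := by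
  unfold ν8; uus <;> grind
@[simp] theorem ν8_a6 : (ν8 u).a6 =
    u.a2 + σ u.a1 * u.b6 + u.a1 * u.b4 := by
  unfold ν8; uus <;> grind
@[simp] theorem ν8_a4 : (ν8 u).a4 =
    u.a4 + σ u.a1 * u.a7 * u.b6 + u.a1 * σ u.a7 * u.b2 := by
  unfold ν8; uus <;> grind
@[simp] theorem ν1_a1 : (ν1 u).a1 =
    0 := by
  unfold ν1; uus <;> grind
@[simp] theorem ν1_b8 : (ν1 u).b8 =
    u.b2 := by
  unfold ν1; uus <;> grind
@[simp] theorem ν1_b2 : (ν1 u).b2 =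
    u.b8 := by
  unfold ν1; uus <;> grind
@[simp] theorem ν1_a8 : (ν1 u).a8 =
    u.a2 := by
  unfold ν1; uus <;> grind
@[simp] theorem ν1_b6 : (ν1 u).b6 =
    u.b4 + σ u.b2 * u.b8 := by
  unfold ν1; uus <;> grind
@[simp] theorem ν1_b4 : (ν1 u).b4 =
    u.b6 + u.b2 * σ u.b8 := by
  unfold ν1; uus <;> grind
@[simp] theorem ν1_a7 : (ν1 u).a7 =
    u.a3 := by
  unfold ν1; uus <;> grind
@[simp] theorem ν1_a2 : (ν1 u).a2 =
    u.a8 := by
  unfold ν1; uus <;> grind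
@[simp] theorem ν1_a3 : (ν1 u).a3 =
    u.a7 := by
  unfold ν1; uus <;> grind
@[simp] theorem ν1_a5 : (ν1 u).a5 =
    u.a5 + u.a2 * u.a8 + u.b4 * u.b6 + u.b2 * u.b4 * σ u.b8 := by
  unfold ν1; uus <;> grind
@[simp] theorem ν1_a6 : (ν1 u).a6 =
    u.a4 + σ u.a2 * u.a8 + u.a2 * u.a7 + u.b2 ^ 2 * u.b4 * σ u.b8 := by
  unfold ν1; uus <;> grind
@[simp] theorem ν1_a4 : (ν1 u).a4 =
    u.a6 + u.a2 * σ u.a8 + u.a3 * u.a8 + σ u.b2 * u.b6 * u.b8 ^ 2 + u.b2 * σ u.b2 * u.b8 ^ 2 * σ u.b8 := by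
  unfold ν1; uus <;> grind
end

theorem ν1_mem (u : UU K) : ν1 u ∈ R K := ν1_a1 u

theorem ν8_mul : MulOn (Q K) ν8 := fun u ⟨h1, h2⟩ v ⟨h3, h4⟩ => by
  ext <;> simp only [ν8_a1, ν8_b8, ν8_b2, ν8_a8, ν8_b6, ν8_b4, ν8_a7, ν8_a2, ν8_a3, ν8_a5, ν8_a6, ν8_a4] <;> uus [ν8_a1, ν8_b8, ν8_b2, ν8_a8, ν8_b6, ν8_b4, ν8_a7, ν8_a2, ν8_a3, ν8_a5, ν8_a6, ν8_a4, h1, h2, h3, h4] <;> grind (ringSteps := 10000000)

theorem ν1_mul : MulOn (R K) ν1 := fun u (h1 : u.a1 = 0) v (h2 : v.a1 = 0) => by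
  ext <;> simp only [ν1_a1, ν1_b8, ν1_b2, ν1_a8, ν1_b6, ν1_b4, ν1_a7, ν1_a2, ν1_a3, ν1_a5, ν1_a6, ν1_a4] <;> uus [ν1_a1, ν1_b8, ν1_b2, ν1_a8, ν1_b6, ν1_b4, ν1_a7, ν1_a2, ν1_a3, ν1_a5, ν1_a6, ν1_a4, h1, h2] <;> grind (ringSteps := 10000000)

theorem ν8_ν8 {u : UU K} (h : u ∈ Q K) : ν8 (ν8 u) = u := by
  obtain ⟨h1, h2⟩ := h
  ext <;> simp only [ν8_a1, ν8_b8, ν8_b2, ν8_a8, ν8_b6, ν8_b4, ν8_a7, ν8_a2, ν8_a3, ν8_a5, ν8_a6, ν8_a4, h1, h2, map_add, map_mul, σσ] <;> grind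

theorem ν1_ν1 {u : UU K} (h : u ∈ R K) : ν1 (ν1 u) = u := by
  rw [mem_R] at h
  ext <;> simp only [ν1_a1, ν1_b8, ν1_b2, ν1_a8, ν1_b6, ν1_b4, ν1_a7, ν1_a2, ν1_a3, ν1_a5, ν1_a6, ν1_a4, h, map_add, map_mul, map_pow, σσ] <;> grind

theorem ν8_tor {a b : K} (hb : b ≠ 0) (u : UU K) : ν8 (tor a b u) = tor (a * b ^ 2 * σ b) b⁻¹ (ν8 u) := by
  have := σ_eq_zero.not.2 hb
  ext <;> simp only [ν8_a1, ν8_b8, ν8_b2, ν8_a8, ν8_b6, ν8_b4, ν8_a7, ν8_a2, ν8_a3, ν8_a5, ν8_a6, ν8_a4, tor_a1, tor_b8, tor_b2, tor_a8, tor_b6, tor_b4, tor_a7, tor_a2, tor_a3, tor_a5, tor_a6, tor_a4, map_add, map_mul, map_pow, map_inv₀, σσ] <;> field_simp <;> grind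

theorem ν1_tor {a : K} (ha : a ≠ 0) (b : K) (u : UU K) : ν1 (tor a b u) = tor a⁻¹ (a * b) (ν1 u) := by
  have := σ_eq_zero.not.2 ha
  ext <;> simp only [ν1_a1, ν1_b8, ν1_b2, ν1_a8, ν1_b6, ν1_b4, ν1_a7, ν1_a2, ν1_a3, ν1_a5, ν1_a6, ν1_a4, tor_a1, tor_b8, tor_b2, tor_a8, tor_b6, tor_b4, tor_a7, tor_a2, tor_a3, tor_a5, tor_a6, tor_a4, map_add, map_mul, map_pow, map_inv₀, σσ] <;> field_simp <;> grind

theorem ν8_fr [Finite K] (φ : K →+* K) (u : UU K) : ν8 (fr φ u) = fr φ (ν8 u) := by ext <;> simp [σ_comm]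

theorem ν1_fr [Finite K] (φ : K →+* K) (u : UU K) : ν1 (fr φ u) = fr φ (ν1 u) := by ext <;> simp [σ_comm]

theorem fr_tor [Finite K] (φ : K →+* K) (a b : K) (u : UU K) : fr φ (tor a b u) = tor (φ a) (φ b) (fr φ u) := by
  ext <;> simp [σ_comm]

theorem fr_fr [Finite K] (φ ψ : K →+* K) (u : UU K) : fr φ (fr ψ u) = fr (φ.comp ψ) u := rfl

@[simp] theorem fr_id [Finite K] (u : UU K) : fr (RingHom.id K) u = u := rfl

theorem exists_perm_of_invol {Ω : Type*} [Group Ω] {E : Subgroup Ω} {k : Ω → Ω} (h1 : MulOn E k)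
    (h2 : ∀ x ∈ E, k x ∈ E) (h3 : ∀ x ∈ E, k (k x) = x) :
    ∃ n : Equiv.Perm Ω, Au E n ∧ n * n = 1 ∧ ∀ x ∈ E, n x = k x := by
  classical
  have hi : Involutive fun x => if x ∈ E then k x else x := fun x => by
    by_cases hx : x ∈ E <;> simp [hx, h2, h3]
  refine ⟨hi.toPerm, ⟨h1.congr fun x hx => by simp [hx], fun x => ?_⟩, Equiv.ext hi, fun x hx => by simp [hx]⟩
  by_cases hx : x ∈ E <;> simp [hx, h2]

variable (K) in
theorem exists_n8 : ∃ n : Equiv.Perm (UU K), Au (Q K) n ∧ n * n = 1 ∧ ∀ x ∈ Q K, n x = ν8 x :=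
  exists_perm_of_invol ν8_mul (fun x _ => ν8_mem x) fun _ => ν8_ν8

variable (K) in
theorem exists_n1 : ∃ n : Equiv.Perm (UU K), Au (R K) n ∧ n * n = 1 ∧ ∀ x ∈ R K, n x = ν1 x :=
  exists_perm_of_invol ν1_mul (fun x _ => ν1_mem x) fun _ => ν1_ν1

/-- The torus as a group of automorphisms. -/
def torA : Kˣ × Kˣ →* MulAut (UU K) where
  toFun t := { tor (t.1 : K) (t.2 : K) with
    invFun := tor (t.1 : K)⁻¹ (t.2 : K)⁻¹
    left_inv := fun u => by simp [tor_tor]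
    right_inv := fun u => by simp [tor_tor] }
  map_one' := by ext1 u; exact tor_one u
  map_mul' s t := by ext1 u; exact (tor_tor ..).symm

@[simp] theorem torA_apply (t : Kˣ × Kˣ) (u : UU K) : torA t u = tor (t.1 : K) (t.2 : K) u := rfl

theorem torA_eq_1' : type_of% @torA.eq_1 := @torA.eq_1

/-- The field automorphisms as automorphisms. -/
noncomputable def frA [Finite K] (φ : K →+* K) : MulAut (UU K) :=
  .ofBijective (fr φ) (Finite.injective_iff_bijective.1 fun u v e => by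
    have := φ.injective
    ext <;> apply this
    exacts [congrArg a1 e, congrArg b8 e, congrArg b2 e, congrArg a8 e, congrArg b6 e, congrArg b4 e, congrArg a7 e,
      congrArg a2 e, congrArg a3 e, congrArg a5 e, congrArg a6 e, congrArg a4 e])

@[simp] theorem frA_apply [Finite K] (φ : K →+* K) (u : UU K) : frA φ u = fr φ u := rfl

theorem frA_eq_1' : type_of% @frA.eq_1 := @frA.eq_1

/-- Every ring endomorphism has odd order. -/
theorem exists_odd_pow [Finite K] : ∃ n, Odd n ∧ ∀ φ : K →+* K, φ ^ n = 1 := by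
  let := ZMod.algebra K 2
  have := Fintype.ofFinite K
  have k : ∀ φ : K →+* K, ∃ i : ℕ, φ = frobenius K 2 ^ i := fun φ => by
    obtain ⟨i, hi⟩ := (FiniteField.bijective_frobeniusAlgHom_pow (ZMod 2) K).2
      { φ with commutes' := fun r => RingHom.congr_fun (RingHom.ext_zmod (φ.comp (algebraMap _ K)) _) r }
    refine ⟨i, RingHom.ext fun x => ?_⟩
    have := AlgHom.congr_fun hi x
    simp only [AlgHom.coe_pow, FiniteField.coe_frobeniusAlgHom, ZMod.card] at this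
    rw [RingHom.coe_pow]
    exact this.symm
  have : Finite (K →+* K) := .of_injective _ DFunLike.coe_injective
  obtain ⟨i, hi⟩ := k σ
  have h2 : frobenius K 2 ^ (2 * i) = frobenius K 2 ^ 1 := by
    rw [mul_comm, pow_mul, ← hi, pow_one]
    exact RingHom.ext fun x => σσ x
  have hu : IsUnit (frobenius K 2) := ⟨⟨frobenius K 2, (frobeniusEquiv K 2).symm,
    RingHom.ext (frobeniusEquiv K 2).apply_symm_apply, RingHom.ext (frobeniusEquiv K 2).symm_apply_apply⟩, rfl⟩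
  rcases i with _ | i
  · refine ⟨1, odd_one, fun φ => ?_⟩
    obtain ⟨j, rfl⟩ := k φ
    rw [← pow_one (frobenius K 2), ← h2]; simp
  refine ⟨2 * i + 1, odd_two_mul_add_one i, fun φ => ?_⟩
  obtain ⟨j, rfl⟩ := k φ
  rw [← pow_mul, mul_comm, pow_mul, hu.mul_left_cancel (b := frobenius K 2 ^ (2 * i + 1)) (c := 1) (by
    rw [← pow_succ', mul_one]; exact h2.trans (pow_one _)), one_pow]

end Cfsg.Lib.TF4
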