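import Cfsg.Agent.TF4.I8
import Cfsg.Agent.TF4.I10

/-!
# Automorphisms of `Q` and `R` fixing a point
-/

set_option autoImplicit false
set_option linter.unusedSectionVars false
set_option maxRecDepth 100000

namespace Cfsg.Lib.TF4

open Subgroup Function Cfsg.Lib.Fus Cfsg.Lib.Gold Cfsg.Lib.Oct Cfsg.Lib.Oct.UU
open scoped commutatorElement

variable {K : Type*} [Field K] [TwF K] [Finite K] {f : Equiv.Perm (UU K)}

namespace Pt

theorem mem_of_comm {u v : UU K} (hu : u ∈ Yy K) (h7 : u ∉ W K) (hv : v ∈ Q K) (h : ⁅u, v⁆ ∈ Z K) : v ∈ Z6 K := by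
  obtain ⟨h1, h2, h3, h4, h5, h6, h8⟩ := hu
  have a7 : u.a7 ≠ 0 := fun e => h7 ⟨h1, h2, h3, h4, h5, h6, e⟩
  obtain ⟨-, -, -, -, -, -, -, -, k3, k5, -⟩ := comm_Z.1 h
  simp only [mul_a3, mul_a5, h1, h2, h3, h4, h5, h6, h8, hv.1, hv.2] at k3 k5
  have e1 : v.a1 = 0 := σ_eq_zero.1 (by grind)
  exact ⟨e1, hv.1, σ_eq_zero.1 (by grind), hv.2⟩

theorem comm_mem_Z {u v : UU K} (hu : u ∈ Yy K) (hv : v ∈ W K ∨ v ∈ Yy K) : ⁅u, v⁆ ∈ Z K :=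
  hv.elim (cQ_W (Yy_le_Q hu)) fun h => comm_bot.2 (mYy_Yy hu h) ▸ one_mem _

end Pt

open Pt

theorem ivY_of (h : Au (Q K) f) (h7 : f (x7 1) ∈ Yy K) : (clOne h).Iv (· ∈ Yy K) := by
  obtain ⟨iZ, iW, -⟩ := charQ (clOne h)
  rw [iv_clOne] at iZ iW
  have q7 : x7 1 ∈ Q K := by simp
  have k : ∀ y ∈ Yy K, y ∉ W K → f y ∈ Yy K := fun y hy hw => by
    have hq := Yy_le_Q hy
    refine (inv_Z6 (mem_of_comm h7 (by simp [iW _ q7]) (h.maps hq) ?_) ?_).resolve_left (mt (iW _ hq).1 hw)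
    · rw [← h.map_comm q7 hq, iZ _ (comm_mem q7 hq)]
      exact comm_mem_Z (by simp) (.inr hy)
    · rw [← h.map_mul hq hq, sq_Yy hy, h.map_one]
  refine Cl.iv_of_subgroup fun g e y hq hy => (show f = g from e.symm) ▸ ?_
  by_cases hw : y ∈ W K
  · rw [← one_mul y, ← x7_sq 1, mul_assoc, h.map_mul q7 (mul_mem q7 hq)]
    exact mul_mem h7 (k _ (mul_mem (by simp) hy) fun e => by simpa using mul_mem e (inv_mem hw))
  · exact k y hy hw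

theorem ptQ (h : Au (Q K) f) : f (x7 1) ∈ Yy K ∨ ∃ v ∈ U8 K, v * f (x7 1) * v⁻¹ ∈ X1 K := by
  have q7 : x7 1 ∈ Q K := by simp
  have h2 : f (x7 1) * f (x7 1) = 1 := by rw [← h.map_mul q7 q7, x7_sq, h.map_one]
  by_cases h1 : (f (x7 1)).a1 = 0
  · have hq := h.maps q7
    exact .inl ((inv_Z6 ⟨h1, hq.1, (inv_R h1 h2).2.2, hq.2⟩ h2).resolve_left (by
      simp [iv_clOne.1 (charQ (clOne h)).2.1 _ q7]))
  · exact .inr ((conj_X1 h1 h2).imp fun v hv => ⟨hv.1, hv.2.1⟩)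

theorem ivZ_of (h : Au (R K) f) (h2 : (f (y2 1)).b8 = 0) : (clOne h).Iv (· ∈ Z K) := by
  refine Cl.iv_of_subgroup fun g e z _ hz => (show f = g from e.symm) ▸ ?_
  have e : z = ⁅y2 (1 : K), x5 z.a4⁆ := (eq_of_mem_Z hz).trans (by uu)
  rw [e, h.map_comm (by simp) (by simp)]
  exact cPb_D h2 ((iv_clOne.1 (charR (clOne h)).2.1 _ (by simp)).2 (by simp))

end Cfsg.Lib.TF4
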