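import Cfsg.Agent.Bender.ModBound

/-!
# Strongly embedded subgroups: central involutions and a module bound
-/

set_option autoImplicit false

namespace Cfsg.Lib.TF4

open Subgroup Function

namespace Se

open Cfsg.Lib.Chev.RankOne

variable {G Ω : Type*} [Group G] [Finite G] [MulAction G Ω] [FaithfulSMul G Ω] {a : Ω} {t : G}
  {Q : Subgroup G}

theorem cen (hS : IsRankOneSetup G Ω a t Q) (hQ : IsPGroup 2 Q) {x y : G} (hx : x ∈ Q) (hy : y ∈ Q)
    (x2 : x * x = 1) : x * y = y * x := by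
  by_cases h : x = 1
  · rw [h, one_mul, mul_one]
  · exact II_central hS hQ.isNilpotent (mem_II.2 ⟨Q_fix hS hx, h, x2⟩) hy

theorem exists_om (hS : IsRankOneSetup G Ω a t Q) (hQ : IsPGroup 2 Q) : ∃ (W : Subgroup G) (n : ℕ),
    (∀ x ∈ Q, x * x = 1 → x ∈ W) ∧ Nat.card W = 2 ^ n ∧ Nat.card (II G a) = 2 ^ n - 1 := by
  let W : Subgroup G :=
    { carrier := {x | x ∈ Q ∧ x * x = 1}
      one_mem' := ⟨Q.one_mem, mul_one 1⟩
      mul_mem' := fun {x y} hx hy => ⟨Q.mul_mem hx.1 hy.1, by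
        rw [mul_assoc, ← mul_assoc y, ← cen hS hQ hx.1 hy.1 hx.2, mul_assoc, hy.2, mul_one, hx.2]⟩
      inv_mem' := fun {x} hx => ⟨Q.inv_mem hx.1, by rw [← mul_inv_rev, hx.2, inv_one]⟩ }
  obtain ⟨n, hn⟩ := IsPGroup.iff_card.1 (hQ.to_le (show W ≤ Q from fun x hx => hx.1))
  refine ⟨W, n, fun x hx h => ⟨hx, h⟩, hn, ?_⟩
  have e : II G a = (W : Set G) \ {1} := by
    ext s
    exact ⟨fun hs => ⟨⟨II_Q hS hs, (mem_II.1 hs).2.2⟩, (mem_II.1 hs).2.1⟩,
      fun hs => mem_II.2 ⟨Q_fix hS hs.1.1, hs.2, hs.1.2⟩⟩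
  rw [e, Nat.card_coe_set_eq, Set.ncard_diff_singleton_of_mem (Subgroup.one_mem _), ← hn]
  rfl

end Se

section Se
open Cfsg.Lib.Local Cfsg.Lib.Bender
variable {G : Type*} [Group G] [Finite G] {H : Subgroup G}

theorem se_ci (hH : SE 2 H) (S : Sylow 2 G) {a b x y : G} (ha : a ∈ (S : Subgroup G)) (hb : b ∈ (S : Subgroup G))
    (a2 : a * a = 1) (b2 : b * b = 1) (hab : a * b = b * a) (a1 : a ≠ 1) (b1 : b ≠ 1) (ab1 : a * b ≠ 1)
    (hx : x ∈ (S : Subgroup G)) (hy : y ∈ (S : Subgroup G)) (x2 : x * x = 1) : x * y = y * x := by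
  have h2 : Chev.RankOne.TwoRank G := ⟨a, b, a1, b1, fun e => ab1 (e ▸ a2), a2, b2, hab⟩
  obtain ⟨t, Q, hS, hQ, ⟨e⟩⟩ := exists_setup_sylow hH h2 S
  haveI := faithful_quotient (normalCore_quotient hH h2)
  have := Se.cen hS hQ (e ⟨x, hx⟩).2 (e ⟨y, hy⟩).2 (by
    rw [← coe_mul, ← map_mul, show (⟨x, hx⟩ * ⟨x, hx⟩ : (S : Subgroup G)) = 1 from Subtype.ext x2,
      map_one, coe_one])
  rw [← coe_mul, ← coe_mul, ← map_mul, ← map_mul] at this
  exact congrArg Subtype.val (e.injective (Subtype.ext this))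

theorem se_cod (hH : SE 2 H) (S : Sylow 2 G) {V : Type*} [AddCommGroup V] [Module (ZMod 2) V]
    [Module.Finite (ZMod 2) V] (ρ : Representation (ZMod 2) G V) (hρ : Injective ρ) {A : Subgroup G}
    (hA : A ≤ S) (hA2 : ∀ a ∈ A, a * a = 1) {s : G} (hs : s ∈ (S : Subgroup G)) (s1 : s ≠ 1) :
    Nat.card A ≤ 2 ^ F2.cod ρ s := by
  have h0 := F2.cod_pos ρ hρ s1
  by_cases h2 : Chev.RankOne.TwoRank G
  swap
  · refine le_trans ?_ (Nat.pow_le_pow_right two_pos h0)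
    by_contra h
    haveI := Fintype.ofFinite A
    rw [Nat.card_eq_fintype_card, not_le, pow_one] at h
    obtain ⟨a, b, c, ab, ac, bc⟩ := Fintype.two_lt_card_iff.1 h
    have sq : ∀ x : A, (x : G) * x = 1 := fun x => hA2 x x.2
    have cm : ∀ x y : A, (x : G) * y = y * x := fun x y => by
      have := sq (x * y)
      rw [coe_mul, mul_eq_one_iff_eq_inv, mul_inv_rev, inv_eq_of_mul_eq_one_left (sq x),
        inv_eq_of_mul_eq_one_left (sq y)] at this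
      exact this
    exact h2 ⟨(a⁻¹ * b : A), (a⁻¹ * c : A), fun e => ab (inv_mul_eq_one.1 (Subtype.ext e)),
      fun e => ac (inv_mul_eq_one.1 (Subtype.ext e)),
      fun e => bc (mul_left_cancel (Subtype.ext e : a⁻¹ * b = a⁻¹ * c)), sq _, sq _, cm _ _⟩
  obtain ⟨t, Q, hS, hQ, ⟨e⟩⟩ := exists_setup_sylow hH h2 S
  haveI := faithful_quotient (normalCore_quotient hH h2)
  obtain ⟨W, n, hW, hn, hI⟩ := Se.exists_om hS hQ
  have h1 : Nat.card A ≤ 2 ^ n := hn ▸ Nat.card_le_card_of_injective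
    (fun a : A => (⟨e ⟨a, hA a.2⟩, hW _ (e _).2 (by
      rw [← coe_mul, ← map_mul, show (⟨a, hA a.2⟩ * ⟨a, hA a.2⟩ : (S : Subgroup G)) = 1 from
        Subtype.ext (hA2 a a.2), map_one, coe_one])⟩ : W))
    fun a b h => Subtype.ext (Subtype.mk.inj (e.injective (Subtype.ext (Subtype.mk.inj h))))
  refine h1.trans (Nat.pow_le_pow_right two_pos ?_)
  by_cases hn2 : n ≤ 1
  · exact hn2.trans h0
  obtain ⟨p, hp, hp2, hsr, hc⟩ := wit_cod hS (twoRank_quotient_oddCore h2) (n := n) (by omega) hI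
  obtain ⟨u, c, hu, h0, hev, h5, h6⟩ := (hsr.lift hp).cod hp hp2 ρ hρ
  have h7 := hc c h0 hev h5
  obtain ⟨w, hw, hw2⟩ := exists_orderOf_eq_of_isPGroup
    (S.isPGroup'.to_le (Subgroup.zpowers_le.2 hs)) (by simpa using s1)
  obtain ⟨i, rfl⟩ := (mem_powers_iff_mem_zpowers.2 hw)
  obtain ⟨g, hg⟩ := isConj_iff.1 (hH.isConj_involutions hw2 hu)
  have h8 := F2.cod_pow_le ρ s i
  rw [← hg, F2.cod_conj] at h6
  change c ≤ 2 * F2.cod ρ (s ^ i) at h6
  omega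
end Se

end Cfsg.Lib.TF4
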