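import Cfsg.Agent.TF4.TabA

/-!
# The commutator table of the standard subgroups
-/

set_option autoImplicit false
set_option linter.unusedSectionVars false
set_option linter.unusedSimpArgs false
set_option linter.unusedTactic false
set_option linter.unreachableTactic false
set_option linter.unnecessarySeqFocus false
set_option maxRecDepth 100000

namespace Cfsg.Lib.TF4

open Subgroup Function Cfsg.Lib.Fus Cfsg.Lib.Gold Cfsg.Lib.Oct Cfsg.Lib.Oct.UU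
open scoped commutatorElement

variable {K : Type*} [Field K] [TwF K]

theorem cT_T (u v : UU K) : ⁅u, v⁆ ∈ F K := by
  rw [comm_F]
  uus [mul_zero]
  and_intros <;> grind

theorem cT_F (u : UU K) {v : UU K} (hv : v ∈ F K) : ⁅u, v⁆ ∈ Z6 K := by
  rw [comm_Z6]
  rw [mem_F] at hv
  obtain ⟨b0, b1⟩ := hv
  uus [b0, b1]
  and_intros <;> grind

theorem cT_Z6 (u : UU K) {v : UU K} (hv : v ∈ Z6 K) : ⁅u, v⁆ ∈ Z5 K := by
  rw [comm_Z5]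
  rw [mem_Z6] at hv
  obtain ⟨b0, b1, b2, b3⟩ := hv
  uus [b0, b1, b2, b3]
  and_intros <;> grind

theorem cT_Z5 (u : UU K) {v : UU K} (hv : v ∈ Z5 K) : ⁅u, v⁆ ∈ Z4 K := by
  rw [comm_Z4]
  rw [mem_Z5] at hv
  obtain ⟨b0, b1, b2, b3, b4, b5⟩ := hv
  uus [b0, b1, b2, b3, b4, b5]
  and_intros <;> grind

theorem cT_Z4 (u : UU K) {v : UU K} (hv : v ∈ Z4 K) : ⁅u, v⁆ ∈ D K := by
  rw [comm_D]
  rw [mem_Z4] at hv
  obtain ⟨b0, b1, b2, b3, b4, b5, b6, b7⟩ := hv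
  uus [b0, b1, b2, b3, b4, b5, b6, b7]
  and_intros <;> grind

theorem cT_D (u : UU K) {v : UU K} (hv : v ∈ D K) : ⁅u, v⁆ ∈ V K := by
  rw [comm_V]
  rw [mem_D] at hv
  obtain ⟨b0, b1, b2, b3, b4, b5, b6, b7, b8⟩ := hv
  uus [b0, b1, b2, b3, b4, b5, b6, b7, b8]
  and_intros <;> grind

theorem cT_V (u : UU K) {v : UU K} (hv : v ∈ V K) : ⁅u, v⁆ ∈ Z K := by
  rw [comm_Z]
  rw [mem_V] at hv
  obtain ⟨b0, b1, b2, b3, b4, b5, b6, b7, b8, b9⟩ := hv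
  uus [b0, b1, b2, b3, b4, b5, b6, b7, b8, b9]
  and_intros <;> grind

theorem cT_Pb (u : UU K) {v : UU K} (hv : v ∈ Pb K) : ⁅u, v⁆ ∈ Q K := by
  rw [comm_Q]
  rw [mem_Pb] at hv
  have b0 := hv
  uus [b0]
  and_intros <;> grind

theorem cT_Q (u : UU K) {v : UU K} (hv : v ∈ Q K) : ⁅u, v⁆ ∈ QR K := by
  rw [comm_QR]
  rw [mem_Q] at hv
  obtain ⟨b0, b1⟩ := hv
  uus [b0, b1]
  and_intros <;> grind

theorem cT_QR (u : UU K) {v : UU K} (hv : v ∈ QR K) : ⁅u, v⁆ ∈ Z6 K := by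
  rw [comm_Z6]
  rw [mem_QR] at hv
  obtain ⟨b0, b1, b2⟩ := hv
  uus [b0, b1, b2]
  and_intros <;> grind

theorem cT_CW (u : UU K) {v : UU K} (hv : v ∈ CW K) : ⁅u, v⁆ ∈ W K := by
  rw [comm_W]
  rw [mem_CW] at hv
  obtain ⟨b0, b1, b2, b3, b4, b5⟩ := hv
  uus [b0, b1, b2, b3, b4, b5]
  and_intros <;> grind

theorem cQ_Q {u v : UU K} (hu : u ∈ Q K) (hv : v ∈ Q K) : ⁅u, v⁆ ∈ W K := by
  rw [comm_W]
  rw [mem_Q] at hu
  obtain ⟨a0, a1⟩ := hu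
  rw [mem_Q] at hv
  obtain ⟨b0, b1⟩ := hv
  uus [a0, a1, b0, b1]
  and_intros <;> grind

theorem cQ_W {u v : UU K} (hu : u ∈ Q K) (hv : v ∈ W K) : ⁅u, v⁆ ∈ Z K := by
  rw [comm_Z]
  rw [mem_Q] at hu
  obtain ⟨a0, a1⟩ := hu
  rw [mem_W] at hv
  obtain ⟨b0, b1, b2, b3, b4, b5, b6⟩ := hv
  uus [a0, a1, b0, b1, b2, b3, b4, b5, b6]
  and_intros <;> grind

theorem cR_R {u v : UU K} (hu : u ∈ R K) (hv : v ∈ R K) : ⁅u, v⁆ ∈ CD K := by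
  rw [comm_CD]
  rw [mem_R] at hu
  have a0 := hu
  rw [mem_R] at hv
  have b0 := hv
  uus [a0, b0]
  and_intros <;> grind

theorem cR_CD {u v : UU K} (hu : u ∈ R K) (hv : v ∈ CD K) : ⁅u, v⁆ ∈ Yy K := by
  rw [comm_Yy]
  rw [mem_R] at hu
  have a0 := hu
  rw [mem_CD] at hv
  obtain ⟨b0, b1, b2⟩ := hv
  uus [a0, b0, b1, b2]
  and_intros <;> grind

theorem cR_Yy {u v : UU K} (hu : u ∈ R K) (hv : v ∈ Yy K) : ⁅u, v⁆ ∈ D K := by
  rw [comm_D]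
  rw [mem_R] at hu
  have a0 := hu
  rw [mem_Yy] at hv
  obtain ⟨b0, b1, b2, b3, b4, b5, b6⟩ := hv
  uus [a0, b0, b1, b2, b3, b4, b5, b6]
  and_intros <;> grind

theorem cCD_CD {u v : UU K} (hu : u ∈ CD K) (hv : v ∈ CD K) : ⁅u, v⁆ ∈ D K := by
  rw [comm_D]
  rw [mem_CD] at hu
  obtain ⟨a0, a1, a2⟩ := hu
  rw [mem_CD] at hv
  obtain ⟨b0, b1, b2⟩ := hv
  uus [a0, a1, a2, b0, b1, b2]
  and_intros <;> grind

theorem cCD_Yy {u v : UU K} (hu : u ∈ CD K) (hv : v ∈ Yy K) : ⁅u, v⁆ ∈ V K := by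
  rw [comm_V]
  rw [mem_CD] at hu
  obtain ⟨a0, a1, a2⟩ := hu
  rw [mem_Yy] at hv
  obtain ⟨b0, b1, b2, b3, b4, b5, b6⟩ := hv
  uus [a0, a1, a2, b0, b1, b2, b3, b4, b5, b6]
  and_intros <;> grind

theorem cPb_D {u v : UU K} (hu : u ∈ Pb K) (hv : v ∈ D K) : ⁅u, v⁆ ∈ Z K := by
  rw [comm_Z]
  rw [mem_Pb] at hu
  have a0 := hu
  rw [mem_D] at hv
  obtain ⟨b0, b1, b2, b3, b4, b5, b6, b7, b8⟩ := hv
  uus [a0, b0, b1, b2, b3, b4, b5, b6, b7, b8]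
  and_intros <;> grind

theorem cF_Z6 {u v : UU K} (hu : u ∈ F K) (hv : v ∈ Z6 K) : ⁅u, v⁆ ∈ Z4 K := by
  rw [comm_Z4]
  rw [mem_F] at hu
  obtain ⟨a0, a1⟩ := hu
  rw [mem_Z6] at hv
  obtain ⟨b0, b1, b2, b3⟩ := hv
  uus [a0, a1, b0, b1, b2, b3]
  and_intros <;> grind

theorem cF_Z4 {u v : UU K} (hu : u ∈ F K) (hv : v ∈ Z4 K) : ⁅u, v⁆ ∈ V K := by
  rw [comm_V]
  rw [mem_F] at hu
  obtain ⟨a0, a1⟩ := hu
  rw [mem_Z4] at hv
  obtain ⟨b0, b1, b2, b3, b4, b5, b6, b7⟩ := hv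
  uus [a0, a1, b0, b1, b2, b3, b4, b5, b6, b7]
  and_intros <;> grind

theorem mT_Z (u : UU K) {v : UU K} (hv : v ∈ Z K) : u * v = v * u := by
  rw [mem_Z] at hv
  obtain ⟨b0, b1, b2, b3, b4, b5, b6, b7, b8, b9, b10⟩ := hv
  uu [b0, b1, b2, b3, b4, b5, b6, b7, b8, b9, b10]

theorem mR_V {u v : UU K} (hu : u ∈ R K) (hv : v ∈ V K) : u * v = v * u := by
  rw [mem_R] at hu
  have a0 := hu
  rw [mem_V] at hv
  obtain ⟨b0, b1, b2, b3, b4, b5, b6, b7, b8, b9⟩ := hv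
  uu [a0, b0, b1, b2, b3, b4, b5, b6, b7, b8, b9]

theorem mCD_D {u v : UU K} (hu : u ∈ CD K) (hv : v ∈ D K) : u * v = v * u := by
  rw [mem_CD] at hu
  obtain ⟨a0, a1, a2⟩ := hu
  rw [mem_D] at hv
  obtain ⟨b0, b1, b2, b3, b4, b5, b6, b7, b8⟩ := hv
  uu [a0, a1, a2, b0, b1, b2, b3, b4, b5, b6, b7, b8]

theorem mCW_W {u v : UU K} (hu : u ∈ CW K) (hv : v ∈ W K) : u * v = v * u := by
  rw [mem_CW] at hu
  obtain ⟨a0, a1, a2, a3, a4, a5⟩ := hu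
  rw [mem_W] at hv
  obtain ⟨b0, b1, b2, b3, b4, b5, b6⟩ := hv
  uu [a0, a1, a2, a3, a4, a5, b0, b1, b2, b3, b4, b5, b6]

theorem mYy_Yy {u v : UU K} (hu : u ∈ Yy K) (hv : v ∈ Yy K) : u * v = v * u := by
  rw [mem_Yy] at hu
  obtain ⟨a0, a1, a2, a3, a4, a5, a6⟩ := hu
  rw [mem_Yy] at hv
  obtain ⟨b0, b1, b2, b3, b4, b5, b6⟩ := hv
  uu [a0, a1, a2, a3, a4, a5, a6, b0, b1, b2, b3, b4, b5, b6]

theorem mW7_W7 {u v : UU K} (hu : u ∈ W7 K) (hv : v ∈ W7 K) : u * v = v * u := by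
  rw [mem_W7] at hu
  obtain ⟨a0, a1, a2, a3, a4, a5, a6⟩ := hu
  rw [mem_W7] at hv
  obtain ⟨b0, b1, b2, b3, b4, b5, b6⟩ := hv
  uu [a0, a1, a2, a3, a4, a5, a6, b0, b1, b2, b3, b4, b5, b6]

theorem mCW7_W7 {u v : UU K} (hu : u ∈ CW7 K) (hv : v ∈ W7 K) : u * v = v * u := by
  rw [mem_CW7] at hu
  obtain ⟨a0, a1, a2, a3, a4, a5⟩ := hu
  rw [mem_W7] at hv
  obtain ⟨b0, b1, b2, b3, b4, b5, b6⟩ := hv
  uu [a0, a1, a2, a3, a4, a5, b0, b1, b2, b3, b4, b5, b6]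

theorem mZ5_Z4 {u v : UU K} (hu : u ∈ Z5 K) (hv : v ∈ Z4 K) : u * v = v * u := by
  rw [mem_Z5] at hu
  obtain ⟨a0, a1, a2, a3, a4, a5⟩ := hu
  rw [mem_Z4] at hv
  obtain ⟨b0, b1, b2, b3, b4, b5, b6, b7⟩ := hv
  uu [a0, a1, a2, a3, a4, a5, b0, b1, b2, b3, b4, b5, b6, b7]

theorem mX1_X1 {u v : UU K} (hu : u ∈ X1 K) (hv : v ∈ X1 K) : u * v = v * u := by
  rw [mem_X1] at hu
  obtain ⟨a0, a1, a2, a3, a4, a5, a6⟩ := hu
  rw [mem_X1] at hv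
  obtain ⟨b0, b1, b2, b3, b4, b5, b6⟩ := hv
  uu [a0, a1, a2, a3, a4, a5, a6, b0, b1, b2, b3, b4, b5, b6]

theorem sq_W {u : UU K} (hu : u ∈ W K) : u * u = 1 := by
  obtain ⟨a0, a1, a2, a3, a4, a5, a6⟩ := hu
  uu [a0, a1, a2, a3, a4, a5, a6]

theorem sq_Yy {u : UU K} (hu : u ∈ Yy K) : u * u = 1 := by
  obtain ⟨a0, a1, a2, a3, a4, a5, a6⟩ := hu
  uu [a0, a1, a2, a3, a4, a5, a6]

theorem sq_W7 {u : UU K} (hu : u ∈ W7 K) : u * u = 1 := by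
  obtain ⟨a0, a1, a2, a3, a4, a5, a6⟩ := hu
  uu [a0, a1, a2, a3, a4, a5, a6]

theorem sq_X1 {u : UU K} (hu : u ∈ X1 K) : u * u = 1 := by
  obtain ⟨a0, a1, a2, a3, a4, a5, a6⟩ := hu
  uu [a0, a1, a2, a3, a4, a5, a6]

theorem Z_le_V : Z K ≤ V K := fun _ _ => by simp_all
theorem V_le_D : V K ≤ D K := fun _ _ => by simp_all
theorem D_le_Z4 : D K ≤ Z4 K := fun _ _ => by simp_all
theorem Z4_le_W : Z4 K ≤ W K := fun _ _ => by simp_all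
theorem Z4_le_Yy : Z4 K ≤ Yy K := fun _ _ => by simp_all
theorem W_le_Z5 : W K ≤ Z5 K := fun _ _ => by simp_all
theorem Yy_le_Z5 : Yy K ≤ Z5 K := fun _ _ => by simp_all
theorem Z5_le_Z6 : Z5 K ≤ Z6 K := fun _ _ => by simp_all
theorem Z6_le_CD : Z6 K ≤ CD K := fun _ _ => by simp_all
theorem Z6_le_QR : Z6 K ≤ QR K := fun _ _ => by simp_all
theorem CD_le_F : CD K ≤ F K := fun _ _ => by simp_all
theorem QR_le_F : QR K ≤ F K := fun _ _ => by simp_all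
theorem QR_le_Q : QR K ≤ Q K := fun _ _ => by simp_all
theorem QR_le_R : QR K ≤ R K := fun _ _ => by simp_all
theorem F_le_R : F K ≤ R K := fun _ _ => by simp_all
theorem F_le_Pb : F K ≤ Pb K := fun _ _ => by simp_all
theorem Q_le_Pb : Q K ≤ Pb K := fun _ _ => by simp_all
theorem W_le_CW : W K ≤ CW K := fun _ _ => by simp_all
theorem CW_le_Z6 : CW K ≤ Z6 K := fun _ _ => by simp_all
theorem D_le_Yy : D K ≤ Yy K := fun _ _ => by simp_all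
theorem D_le_W : D K ≤ W K := fun _ _ => by simp_all
theorem D_le_CD : D K ≤ CD K := fun _ _ => by simp_all
theorem V_le_R : V K ≤ R K := fun _ _ => by simp_all
theorem V_le_Pb : V K ≤ Pb K := fun _ _ => by simp_all
theorem W_le_Q : W K ≤ Q K := fun _ _ => by simp_all
theorem Yy_le_Q : Yy K ≤ Q K := fun _ _ => by simp_all
theorem Yy_le_CD : Yy K ≤ CD K := fun _ _ => by simp_all
theorem CD_le_R : CD K ≤ R K := fun _ _ => by simp_all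
theorem CD_le_Pb : CD K ≤ Pb K := fun _ _ => by simp_all
theorem Z6_le_Q : Z6 K ≤ Q K := fun _ _ => by simp_all
theorem CW_le_Q : CW K ≤ Q K := fun _ _ => by simp_all
theorem D_le_Y7 : D K ≤ Y7 K := fun _ _ => by simp_all
theorem Y7_le_W7 : Y7 K ≤ W7 K := fun _ _ => by simp_all
theorem Y7_le_Yy : Y7 K ≤ Yy K := fun _ _ => by simp_all
theorem W7_le_CW7 : W7 K ≤ CW7 K := fun _ _ => by simp_all
theorem CW7_le_Q7 : CW7 K ≤ Q7 K := fun _ _ => by simp_all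
theorem Q7_le_R : Q7 K ≤ R K := fun _ _ => by simp_all
theorem V6_le_V : V6 K ≤ V K := fun _ _ => by simp_all
theorem W7_le_CD : W7 K ≤ CD K := fun _ _ => by simp_all
theorem X1_le_X0 : X1 K ≤ X0 K := fun _ _ => by simp_all
theorem X0_le_Q : X0 K ≤ Q K := fun _ _ => by simp_all
theorem W_le_X0 : W K ≤ X0 K := fun _ _ => by simp_all
theorem D_le_Q : D K ≤ Q K := fun _ _ => by simp_all
theorem D_le_R : D K ≤ R K := fun _ _ => by simp_all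
theorem V_le_Q : V K ≤ Q K := fun _ _ => by simp_all
theorem Z_le_Q : Z K ≤ Q K := fun _ _ => by simp_all
theorem Z_le_W : Z K ≤ W K := fun _ _ => by simp_all
theorem Z_le_D : Z K ≤ D K := fun _ _ => by simp_all
theorem V_le_W : V K ≤ W K := fun _ _ => by simp_all
theorem V_le_Yy : V K ≤ Yy K := fun _ _ => by simp_all

theorem σ_eq_zero {t : K} : σ t = 0 ↔ t = 0 := map_eq_zero σ

theorem N1_eq_zero {t : K} (h : σ t * t = 0) : t = 0 := by simpa using h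

theorem cen_V {u : UU K} {t : K} (ht : t ≠ 0) (h : u * x6 t = x6 t * u) : u ∈ R K := by
  have := congrArg a4 h
  uus at this
  rw [mem_R]; grind

theorem cen_D {u : UU K} (h : ∀ d ∈ D K, u * d = d * u) : u ∈ CD K := by
  have h1 := cen_V one_ne_zero (h (x6 1) (by simp))
  have h2 := h (x5 1) (by simp)
  rw [mem_R] at h1
  have h3 := congrArg a6 h2
  have h4 := congrArg a4 h2
  uus [h1] at h3 h4
  rw [mem_CD]; grind

theorem cen_W {u : UU K} (h : ∀ w ∈ W K, u * w = w * u) : u ∈ CW K := by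
  obtain ⟨h1, h2, h3⟩ := cen_D fun d hd => h d (D_le_W hd)
  have h4 := h (x3 1) (by simp)
  have h5 := h (x2 1) (by simp)
  have h6 := congrArg a6 h4
  have h7 := congrArg a4 h4
  have h8 := congrArg a4 h5
  uus [h1, h2, h3] at h6 h7 h8
  have h9 : u.a8 = 0 := by grind
  simp only [h9, map_zero] at h8
  rw [mem_CW]; grind

theorem cen_Yy {u : UU K} (h : ∀ y ∈ Yy K, u * y = y * u) : u ∈ Yy K := by
  obtain ⟨h1, h2, h3⟩ := cen_D fun d hd => h d (D_le_Yy hd)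
  have h4 := h (x3 1) (by simp)
  have h5 := h (x7 1) (by simp)
  have h6 := congrArg a6 h4
  have h7 := congrArg a4 h4
  have h8 := congrArg a4 h5
  have h9 := congrArg a6 h5
  uus [h1, h2, h3] at h6 h7 h8 h9
  rw [mem_Yy]; grind

theorem inv_b8' {u : UU K} (h : u * u = 1) : u.b8 = 0 := by
  have h1 := congrArg a8 h
  uus at h1
  exact N1_eq_zero (by grind)

theorem inv_R {u : UU K} (hu : u ∈ R K) (h : u * u = 1) : u ∈ CD K := by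
  have h1 := inv_b8' h
  have h2 := congrArg a2 h
  rw [mem_R] at hu
  uus [hu, h1] at h2
  exact ⟨hu, h1, N1_eq_zero (by grind)⟩

theorem inv_Q_of {u : UU K} (hu : u.a1 ≠ 0) (h : u * u = 1) : u ∈ Q K := by
  have h1 := inv_b8' h
  have h2 := congrArg b6 h
  uus [h1] at h2
  exact ⟨h1, by grind⟩

theorem inv_Z6 {u : UU K} (hu : u ∈ Z6 K) (h : u * u = 1) : u ∈ W K ∨ u ∈ Yy K := by
  obtain ⟨h1, h2, h3, h4⟩ := hu
  have k5 := congrArg a5 h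
  have k6 := congrArg a6 h
  have k4 := congrArg a4 h
  uus [h1, h2, h3, h4] at k5 k6 k4
  have h6 : u.b6 = 0 := by
    rcases eq_or_ne u.b4 0 with e | e
    · exact N1_eq_zero (by grind)
    · grind
  have h5 : u.b4 = 0 := by
    by_contra e
    have : u.a7 = 0 := by simp only [h6] at k6; grind
    exact e (N1_eq_zero (by grind))
  simp only [h5, h6] at k4
  rw [mem_W, mem_Yy]; grind

theorem inv_CW {u : UU K} (hu : u ∈ CW K) (h : u * u = 1) : u ∈ W K := by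
  obtain ⟨h1, h2, h3, h4, h5, h6⟩ := hu
  have k4 := congrArg a4 h
  uus [h1, h2, h3, h4, h5, h6] at k4
  exact ⟨h1, h2, h3, h4, h5, N1_eq_zero (by grind), h6⟩

theorem sq_CW {u : UU K} (hu : u ∈ CW K) : u * u = x4 (σ u.b4 * u.b4) := by
  obtain ⟨h1, h2, h3, h4, h5, h6⟩ := hu
  uu [h1, h2, h3, h4, h5, h6]

theorem sq_CW7 {u : UU K} (hu : u ∈ CW7 K) : u * u = x6 (σ u.b6 * u.b6) := by
  obtain ⟨h1, h2, h3, h4, h5, h6⟩ := hu
  uu [h1, h2, h3, h4, h5, h6]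

theorem inv_X0 {u : UU K} (hu : u ∈ Q K) (h2 : u.b2 = 0) (h6 : u.b6 = 0) (h1 : u.a1 ≠ 0) (h : u * u = 1) :
    u ∈ X1 K := by
  obtain ⟨h3, h4⟩ := hu
  have k2 := congrArg a2 h
  have k3 := congrArg a3 h
  have k4 := congrArg a4 h
  uus [h2, h3, h4, h6] at k2 k3 k4
  have h5 : u.b4 = 0 := by grind
  have := σ_eq_zero.not.2 h1
  have h7 : u.a7 = 0 := by grind
  simp only [h5, h7, map_zero] at k4
  exact ⟨h3, h2, h4, h6, h5, h7, by grind⟩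

theorem inv_W7 {u : UU K} (hu : u ∈ CD K) (h6 : u.b6 = 0) (h8 : u.a8 ≠ 0) (h : u * u = 1) : u ∈ W7 K := by
  obtain ⟨h1, h2, h3⟩ := hu
  have k5 := congrArg a5 h
  have k6 := congrArg a6 h
  have k4 := congrArg a4 h
  uus [h1, h2, h3, h6] at k5 k6 k4
  have h4 : u.a2 = 0 := by grind
  simp only [h4, map_zero] at k6 k4
  have h5 : u.b4 = 0 := N1_eq_zero (by grind)
  exact ⟨h1, h2, h3, h6, h5, h4, by grind⟩

/-- The involutions outside `R`. -/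
theorem conj_X1 {u : UU K} (h1 : u.a1 ≠ 0) (h : u * u = 1) :
    ∃ v ∈ U8 K, v * u * v⁻¹ ∈ X1 K ∧ (v * u * v⁻¹).a1 = u.a1 := by
  obtain ⟨h2, h3⟩ := inv_Q_of h1 h
  obtain ⟨s, hs⟩ : ∃ s, s * u.a1 = u.b2 := ⟨_, div_mul_cancel₀ _ h1⟩
  obtain ⟨t, ht⟩ : ∃ t, t * u.a1 = u.b6 + u.b2 * σ s := ⟨_, div_mul_cancel₀ _ h1⟩
  have e : (y8 s * x8 t * u * (y8 s * x8 t)⁻¹).a1 = u.a1 := by uus
  refine ⟨y8 s * x8 t, by simp, inv_X0 ?_ ?_ ?_ (e ▸ h1) (by rw [conj_mul, h]; simp), e⟩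
  · exact (normal_Q).conj_mem _ ⟨h2, h3⟩ _
  · uus [h2, h3]; grind
  · uus [h2, h3]; grind

/-- The involutions of `R` outside `Q`. -/
theorem conj_W7 {u : UU K} (hu : u ∈ R K) (h8 : u.a8 ≠ 0) (h : u * u = 1) :
    ∃ t, x1 t * u * (x1 t)⁻¹ ∈ W7 K ∧ (x1 t * u * (x1 t)⁻¹).a8 = u.a8 := by
  obtain ⟨h1, h2, h3⟩ := inv_R hu h
  obtain ⟨t, ht⟩ : ∃ t, t * u.a8 = u.b6 := ⟨_, div_mul_cancel₀ _ h8⟩
  have e : (x1 t * u * (x1 t)⁻¹).a8 = u.a8 := by uus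
  refine ⟨t, inv_W7 ((normal_CD).conj_mem _ ⟨h1, h2, h3⟩ _) ?_ (e ▸ h8) (by rw [conj_mul, h]; simp), e⟩
  uus [h1, h2, h3]; grind

end Cfsg.Lib.TF4
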