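import Cfsg.Agent.TF4.Gen

/-!
# Congruences modulo the standard subgroups
-/

set_option autoImplicit false
set_option linter.unusedSectionVars false
set_option linter.unusedSimpArgs false
set_option linter.unusedTactic false
set_option linter.unreachableTactic false
set_option linter.unnecessarySeqFocus false
set_option maxRecDepth 100000

namespace Cfsg.Lib.TF4

open Subgroup Function Cfsg.Lib.Fus Cfsg.Lib.Gold Cfsg.Lib.Oct Cfsg.Lib.Oct.UU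
open scoped commutatorElement

variable {K : Type*} [Field K] [TwF K]

theorem mul_inv_R {x y : UU K} : x * y⁻¹ ∈ R K ↔
    x.a1 = y.a1 := by
  refine ⟨fun h => ?_, fun h0 => ?_⟩
  · obtain ⟨n, rfl⟩ : ∃ n, x = n * y := ⟨x * y⁻¹, by simp⟩
    rw [mul_inv_cancel_right, mem_R] at h
    have h0 := h
    uus [h0]
    try simp
  · rw [mem_R]
    uus [h0]
    and_intros <;> grind

theorem inv_mul_R {x y : UU K} : x⁻¹ * y ∈ R K ↔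
    x.a1 = y.a1 := by
  refine ⟨fun h => ?_, fun h0 => ?_⟩
  · obtain ⟨n, rfl⟩ : ∃ n, y = x * n := ⟨x⁻¹ * y, by simp⟩
    rw [inv_mul_cancel_left, mem_R] at h
    have h0 := h
    uus [h0]
    try simp
  · rw [mem_R]
    uus [h0]
    and_intros <;> grind

theorem comm_R {u v : UU K} : ⁅u, v⁆ ∈ R K ↔
    (u * v).a1 = (v * u).a1 := by
  rw [← mul_inv_R, commutatorElement_def, mul_inv_rev, mul_assoc (u * v)]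

instance normal_R : (R K).Normal := ⟨fun n hn g => by
  rw [← inv_mul_cancel_right (g * n * g⁻¹) n]
  refine mul_mem (?_ : ⁅g, n⁆ ∈ _) hn
  rw [comm_R]
  rw [mem_R] at hn
  have h0 := hn
  uus [h0] <;> and_intros <;> grind⟩

theorem mul_inv_Pb {x y : UU K} : x * y⁻¹ ∈ Pb K ↔
    x.b8 = y.b8 := by
  refine ⟨fun h => ?_, fun h0 => ?_⟩
  · obtain ⟨n, rfl⟩ : ∃ n, x = n * y := ⟨x * y⁻¹, by simp⟩
    rw [mul_inv_cancel_right, mem_Pb] at h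
    have h0 := h
    uus [h0]
    try simp
  · rw [mem_Pb]
    uus [h0]
    and_intros <;> grind

theorem inv_mul_Pb {x y : UU K} : x⁻¹ * y ∈ Pb K ↔
    x.b8 = y.b8 := by
  refine ⟨fun h => ?_, fun h0 => ?_⟩
  · obtain ⟨n, rfl⟩ : ∃ n, y = x * n := ⟨x⁻¹ * y, by simp⟩
    rw [inv_mul_cancel_left, mem_Pb] at h
    have h0 := h
    uus [h0]
    try simp
  · rw [mem_Pb]
    uus [h0]
    and_intros <;> grind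

theorem comm_Pb {u v : UU K} : ⁅u, v⁆ ∈ Pb K ↔
    (u * v).b8 = (v * u).b8 := by
  rw [← mul_inv_Pb, commutatorElement_def, mul_inv_rev, mul_assoc (u * v)]

instance normal_Pb : (Pb K).Normal := ⟨fun n hn g => by
  rw [← inv_mul_cancel_right (g * n * g⁻¹) n]
  refine mul_mem (?_ : ⁅g, n⁆ ∈ _) hn
  rw [comm_Pb]
  rw [mem_Pb] at hn
  have h0 := hn
  uus [h0] <;> and_intros <;> grind⟩

theorem mul_inv_F {x y : UU K} : x * y⁻¹ ∈ F K ↔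
    x.a1 = y.a1 ∧ x.b8 = y.b8 := by
  refine ⟨fun h => ?_, fun ⟨h0, h1⟩ => ?_⟩
  · obtain ⟨n, rfl⟩ : ∃ n, x = n * y := ⟨x * y⁻¹, by simp⟩
    rw [mul_inv_cancel_right, mem_F] at h
    obtain ⟨h0, h1⟩ := h
    uus [h0, h1]
    try simp
  · rw [mem_F]
    uus [h0, h1]
    and_intros <;> grind

theorem inv_mul_F {x y : UU K} : x⁻¹ * y ∈ F K ↔
    x.a1 = y.a1 ∧ x.b8 = y.b8 := by
  refine ⟨fun h => ?_, fun ⟨h0, h1⟩ => ?_⟩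
  · obtain ⟨n, rfl⟩ : ∃ n, y = x * n := ⟨x⁻¹ * y, by simp⟩
    rw [inv_mul_cancel_left, mem_F] at h
    obtain ⟨h0, h1⟩ := h
    uus [h0, h1]
    try simp
  · rw [mem_F]
    uus [h0, h1]
    and_intros <;> grind

theorem comm_F {u v : UU K} : ⁅u, v⁆ ∈ F K ↔
    (u * v).a1 = (v * u).a1 ∧ (u * v).b8 = (v * u).b8 := by
  rw [← mul_inv_F, commutatorElement_def, mul_inv_rev, mul_assoc (u * v)]

instance normal_F : (F K).Normal := ⟨fun n hn g => by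
  rw [← inv_mul_cancel_right (g * n * g⁻¹) n]
  refine mul_mem (?_ : ⁅g, n⁆ ∈ _) hn
  rw [comm_F]
  rw [mem_F] at hn
  obtain ⟨h0, h1⟩ := hn
  uus [h0, h1] <;> and_intros <;> grind⟩

theorem mul_inv_Q {x y : UU K} : x * y⁻¹ ∈ Q K ↔
    x.b8 = y.b8 ∧ x.a8 = y.a8 := by
  refine ⟨fun h => ?_, fun ⟨h0, h1⟩ => ?_⟩
  · obtain ⟨n, rfl⟩ : ∃ n, x = n * y := ⟨x * y⁻¹, by simp⟩
    rw [mul_inv_cancel_right, mem_Q] at h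
    obtain ⟨h0, h1⟩ := h
    uus [h0, h1]
    try simp
  · rw [mem_Q]
    uus [h0, h1]
    and_intros <;> grind

theorem inv_mul_Q {x y : UU K} : x⁻¹ * y ∈ Q K ↔
    x.b8 = y.b8 ∧ x.a8 = y.a8 := by
  refine ⟨fun h => ?_, fun ⟨h0, h1⟩ => ?_⟩
  · obtain ⟨n, rfl⟩ : ∃ n, y = x * n := ⟨x⁻¹ * y, by simp⟩
    rw [inv_mul_cancel_left, mem_Q] at h
    obtain ⟨h0, h1⟩ := h
    uus [h0, h1]
    try simp
  · rw [mem_Q]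
    uus [h0, h1]
    and_intros <;> grind

theorem comm_Q {u v : UU K} : ⁅u, v⁆ ∈ Q K ↔
    (u * v).b8 = (v * u).b8 ∧ (u * v).a8 = (v * u).a8 := by
  rw [← mul_inv_Q, commutatorElement_def, mul_inv_rev, mul_assoc (u * v)]

instance normal_Q : (Q K).Normal := ⟨fun n hn g => by
  rw [← inv_mul_cancel_right (g * n * g⁻¹) n]
  refine mul_mem (?_ : ⁅g, n⁆ ∈ _) hn
  rw [comm_Q]
  rw [mem_Q] at hn
  obtain ⟨h0, h1⟩ := hn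
  uus [h0, h1] <;> and_intros <;> grind⟩

theorem mul_inv_CD {x y : UU K} : x * y⁻¹ ∈ CD K ↔
    x.a1 = y.a1 ∧ x.b8 = y.b8 ∧ x.b2 = y.b2 := by
  refine ⟨fun h => ?_, fun ⟨h0, h1, h2⟩ => ?_⟩
  · obtain ⟨n, rfl⟩ : ∃ n, x = n * y := ⟨x * y⁻¹, by simp⟩
    rw [mul_inv_cancel_right, mem_CD] at h
    obtain ⟨h0, h1, h2⟩ := h
    uus [h0, h1, h2]
    try simp
  · rw [mem_CD]
    uus [h0, h1, h2]
    and_intros <;> grind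

theorem inv_mul_CD {x y : UU K} : x⁻¹ * y ∈ CD K ↔
    x.a1 = y.a1 ∧ x.b8 = y.b8 ∧ x.b2 = y.b2 := by
  refine ⟨fun h => ?_, fun ⟨h0, h1, h2⟩ => ?_⟩
  · obtain ⟨n, rfl⟩ : ∃ n, y = x * n := ⟨x⁻¹ * y, by simp⟩
    rw [inv_mul_cancel_left, mem_CD] at h
    obtain ⟨h0, h1, h2⟩ := h
    uus [h0, h1, h2]
    try simp
  · rw [mem_CD]
    uus [h0, h1, h2]
    and_intros <;> grind

theorem comm_CD {u v : UU K} : ⁅u, v⁆ ∈ CD K ↔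
    (u * v).a1 = (v * u).a1 ∧ (u * v).b8 = (v * u).b8 ∧ (u * v).b2 = (v * u).b2 := by
  rw [← mul_inv_CD, commutatorElement_def, mul_inv_rev, mul_assoc (u * v)]

instance normal_CD : (CD K).Normal := ⟨fun n hn g => by
  rw [← inv_mul_cancel_right (g * n * g⁻¹) n]
  refine mul_mem (?_ : ⁅g, n⁆ ∈ _) hn
  rw [comm_CD]
  rw [mem_CD] at hn
  obtain ⟨h0, h1, h2⟩ := hn
  uus [h0, h1, h2] <;> and_intros <;> grind⟩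

theorem mul_inv_QR {x y : UU K} : x * y⁻¹ ∈ QR K ↔
    x.a1 = y.a1 ∧ x.b8 = y.b8 ∧ x.a8 = y.a8 := by
  refine ⟨fun h => ?_, fun ⟨h0, h1, h2⟩ => ?_⟩
  · obtain ⟨n, rfl⟩ : ∃ n, x = n * y := ⟨x * y⁻¹, by simp⟩
    rw [mul_inv_cancel_right, mem_QR] at h
    obtain ⟨h0, h1, h2⟩ := h
    uus [h0, h1, h2]
    try simp
  · rw [mem_QR]
    uus [h0, h1, h2]
    and_intros <;> grind

theorem inv_mul_QR {x y : UU K} : x⁻¹ * y ∈ QR K ↔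
    x.a1 = y.a1 ∧ x.b8 = y.b8 ∧ x.a8 = y.a8 := by
  refine ⟨fun h => ?_, fun ⟨h0, h1, h2⟩ => ?_⟩
  · obtain ⟨n, rfl⟩ : ∃ n, y = x * n := ⟨x⁻¹ * y, by simp⟩
    rw [inv_mul_cancel_left, mem_QR] at h
    obtain ⟨h0, h1, h2⟩ := h
    uus [h0, h1, h2]
    try simp
  · rw [mem_QR]
    uus [h0, h1, h2]
    and_intros <;> grind

theorem comm_QR {u v : UU K} : ⁅u, v⁆ ∈ QR K ↔
    (u * v).a1 = (v * u).a1 ∧ (u * v).b8 = (v * u).b8 ∧ (u * v).a8 = (v * u).a8 := by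
  rw [← mul_inv_QR, commutatorElement_def, mul_inv_rev, mul_assoc (u * v)]

instance normal_QR : (QR K).Normal := ⟨fun n hn g => by
  rw [← inv_mul_cancel_right (g * n * g⁻¹) n]
  refine mul_mem (?_ : ⁅g, n⁆ ∈ _) hn
  rw [comm_QR]
  rw [mem_QR] at hn
  obtain ⟨h0, h1, h2⟩ := hn
  uus [h0, h1, h2] <;> and_intros <;> grind⟩

theorem mul_inv_Z6 {x y : UU K} : x * y⁻¹ ∈ Z6 K ↔
    x.a1 = y.a1 ∧ x.b8 = y.b8 ∧ x.b2 = y.b2 ∧ x.a8 = y.a8 := by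
  refine ⟨fun h => ?_, fun ⟨h0, h1, h2, h3⟩ => ?_⟩
  · obtain ⟨n, rfl⟩ : ∃ n, x = n * y := ⟨x * y⁻¹, by simp⟩
    rw [mul_inv_cancel_right, mem_Z6] at h
    obtain ⟨h0, h1, h2, h3⟩ := h
    uus [h0, h1, h2, h3]
    try simp
  · rw [mem_Z6]
    uus [h0, h1, h2, h3]
    and_intros <;> grind

theorem inv_mul_Z6 {x y : UU K} : x⁻¹ * y ∈ Z6 K ↔
    x.a1 = y.a1 ∧ x.b8 = y.b8 ∧ x.b2 = y.b2 ∧ x.a8 = y.a8 := by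
  refine ⟨fun h => ?_, fun ⟨h0, h1, h2, h3⟩ => ?_⟩
  · obtain ⟨n, rfl⟩ : ∃ n, y = x * n := ⟨x⁻¹ * y, by simp⟩
    rw [inv_mul_cancel_left, mem_Z6] at h
    obtain ⟨h0, h1, h2, h3⟩ := h
    uus [h0, h1, h2, h3]
    try simp
  · rw [mem_Z6]
    uus [h0, h1, h2, h3]
    and_intros <;> grind

theorem comm_Z6 {u v : UU K} : ⁅u, v⁆ ∈ Z6 K ↔
    (u * v).a1 = (v * u).a1 ∧ (u * v).b8 = (v * u).b8 ∧ (u * v).b2 = (v * u).b2 ∧ (u * v).a8 = (v * u).a8 := by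
  rw [← mul_inv_Z6, commutatorElement_def, mul_inv_rev, mul_assoc (u * v)]

instance normal_Z6 : (Z6 K).Normal := ⟨fun n hn g => by
  rw [← inv_mul_cancel_right (g * n * g⁻¹) n]
  refine mul_mem (?_ : ⁅g, n⁆ ∈ _) hn
  rw [comm_Z6]
  rw [mem_Z6] at hn
  obtain ⟨h0, h1, h2, h3⟩ := hn
  uus [h0, h1, h2, h3] <;> and_intros <;> grind⟩

theorem mul_inv_Z5 {x y : UU K} : x * y⁻¹ ∈ Z5 K ↔
    x.a1 = y.a1 ∧ x.b8 = y.b8 ∧ x.b2 = y.b2 ∧ x.a8 = y.a8 ∧ x.b6 = y.b6 ∧ x.b4 = y.b4 := by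
  refine ⟨fun h => ?_, fun ⟨h0, h1, h2, h3, h4, h5⟩ => ?_⟩
  · obtain ⟨n, rfl⟩ : ∃ n, x = n * y := ⟨x * y⁻¹, by simp⟩
    rw [mul_inv_cancel_right, mem_Z5] at h
    obtain ⟨h0, h1, h2, h3, h4, h5⟩ := h
    uus [h0, h1, h2, h3, h4, h5]
    try simp
  · rw [mem_Z5]
    uus [h0, h1, h2, h3, h4, h5]
    and_intros <;> grind

theorem inv_mul_Z5 {x y : UU K} : x⁻¹ * y ∈ Z5 K ↔
    x.a1 = y.a1 ∧ x.b8 = y.b8 ∧ x.b2 = y.b2 ∧ x.a8 = y.a8 ∧ x.b6 = y.b6 ∧ x.b4 = y.b4 := by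
  refine ⟨fun h => ?_, fun ⟨h0, h1, h2, h3, h4, h5⟩ => ?_⟩
  · obtain ⟨n, rfl⟩ : ∃ n, y = x * n := ⟨x⁻¹ * y, by simp⟩
    rw [inv_mul_cancel_left, mem_Z5] at h
    obtain ⟨h0, h1, h2, h3, h4, h5⟩ := h
    uus [h0, h1, h2, h3, h4, h5]
    try simp
  · rw [mem_Z5]
    uus [h0, h1, h2, h3, h4, h5]
    and_intros <;> grind

theorem comm_Z5 {u v : UU K} : ⁅u, v⁆ ∈ Z5 K ↔
    (u * v).a1 = (v * u).a1 ∧ (u * v).b8 = (v * u).b8 ∧ (u * v).b2 = (v * u).b2 ∧ (u * v).a8 = (v * u).a8 ∧ (u * v).b6 = (v * u).b6 ∧ (u * v).b4 = (v * u).b4 := by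
  rw [← mul_inv_Z5, commutatorElement_def, mul_inv_rev, mul_assoc (u * v)]

instance normal_Z5 : (Z5 K).Normal := ⟨fun n hn g => by
  rw [← inv_mul_cancel_right (g * n * g⁻¹) n]
  refine mul_mem (?_ : ⁅g, n⁆ ∈ _) hn
  rw [comm_Z5]
  rw [mem_Z5] at hn
  obtain ⟨h0, h1, h2, h3, h4, h5⟩ := hn
  uus [h0, h1, h2, h3, h4, h5] <;> and_intros <;> grind⟩

theorem mul_inv_Z4 {x y : UU K} : x * y⁻¹ ∈ Z4 K ↔
    x.a1 = y.a1 ∧ x.b8 = y.b8 ∧ x.b2 = y.b2 ∧ x.a8 = y.a8 ∧ x.b6 = y.b6 ∧ x.b4 = y.b4 ∧ x.a7 = y.a7 ∧ x.a2 = y.a2 := by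
  refine ⟨fun h => ?_, fun ⟨h0, h1, h2, h3, h4, h5, h6, h7⟩ => ?_⟩
  · obtain ⟨n, rfl⟩ : ∃ n, x = n * y := ⟨x * y⁻¹, by simp⟩
    rw [mul_inv_cancel_right, mem_Z4] at h
    obtain ⟨h0, h1, h2, h3, h4, h5, h6, h7⟩ := h
    uus [h0, h1, h2, h3, h4, h5, h6, h7]
    try simp
  · rw [mem_Z4]
    uus [h0, h1, h2, h3, h4, h5, h6, h7]
    and_intros <;> grind

theorem inv_mul_Z4 {x y : UU K} : x⁻¹ * y ∈ Z4 K ↔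
    x.a1 = y.a1 ∧ x.b8 = y.b8 ∧ x.b2 = y.b2 ∧ x.a8 = y.a8 ∧ x.b6 = y.b6 ∧ x.b4 = y.b4 ∧ x.a7 = y.a7 ∧ x.a2 = y.a2 := by
  refine ⟨fun h => ?_, fun ⟨h0, h1, h2, h3, h4, h5, h6, h7⟩ => ?_⟩
  · obtain ⟨n, rfl⟩ : ∃ n, y = x * n := ⟨x⁻¹ * y, by simp⟩
    rw [inv_mul_cancel_left, mem_Z4] at h
    obtain ⟨h0, h1, h2, h3, h4, h5, h6, h7⟩ := h
    uus [h0, h1, h2, h3, h4, h5, h6, h7]
    try simp
  · rw [mem_Z4]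
    uus [h0, h1, h2, h3, h4, h5, h6, h7]
    and_intros <;> grind

theorem comm_Z4 {u v : UU K} : ⁅u, v⁆ ∈ Z4 K ↔
    (u * v).a1 = (v * u).a1 ∧ (u * v).b8 = (v * u).b8 ∧ (u * v).b2 = (v * u).b2 ∧ (u * v).a8 = (v * u).a8 ∧ (u * v).b6 = (v * u).b6 ∧ (u * v).b4 = (v * u).b4 ∧ (u * v).a7 = (v * u).a7 ∧ (u * v).a2 = (v * u).a2 := by
  rw [← mul_inv_Z4, commutatorElement_def, mul_inv_rev, mul_assoc (u * v)]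

instance normal_Z4 : (Z4 K).Normal := ⟨fun n hn g => by
  rw [← inv_mul_cancel_right (g * n * g⁻¹) n]
  refine mul_mem (?_ : ⁅g, n⁆ ∈ _) hn
  rw [comm_Z4]
  rw [mem_Z4] at hn
  obtain ⟨h0, h1, h2, h3, h4, h5, h6, h7⟩ := hn
  uus [h0, h1, h2, h3, h4, h5, h6, h7] <;> and_intros <;> grind⟩

theorem mul_inv_Yy {x y : UU K} : x * y⁻¹ ∈ Yy K ↔
    x.a1 = y.a1 ∧ x.b8 = y.b8 ∧ x.b2 = y.b2 ∧ x.a8 = y.a8 ∧ x.b6 = y.b6 ∧ x.b4 = y.b4 ∧ x.a2 = y.a2 := by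
  refine ⟨fun h => ?_, fun ⟨h0, h1, h2, h3, h4, h5, h6⟩ => ?_⟩
  · obtain ⟨n, rfl⟩ : ∃ n, x = n * y := ⟨x * y⁻¹, by simp⟩
    rw [mul_inv_cancel_right, mem_Yy] at h
    obtain ⟨h0, h1, h2, h3, h4, h5, h6⟩ := h
    uus [h0, h1, h2, h3, h4, h5, h6]
    try simp
  · rw [mem_Yy]
    uus [h0, h1, h2, h3, h4, h5, h6]
    and_intros <;> grind

theorem inv_mul_Yy {x y : UU K} : x⁻¹ * y ∈ Yy K ↔
    x.a1 = y.a1 ∧ x.b8 = y.b8 ∧ x.b2 = y.b2 ∧ x.a8 = y.a8 ∧ x.b6 = y.b6 ∧ x.b4 = y.b4 ∧ x.a2 = y.a2 := by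
  refine ⟨fun h => ?_, fun ⟨h0, h1, h2, h3, h4, h5, h6⟩ => ?_⟩
  · obtain ⟨n, rfl⟩ : ∃ n, y = x * n := ⟨x⁻¹ * y, by simp⟩
    rw [inv_mul_cancel_left, mem_Yy] at h
    obtain ⟨h0, h1, h2, h3, h4, h5, h6⟩ := h
    uus [h0, h1, h2, h3, h4, h5, h6]
    try simp
  · rw [mem_Yy]
    uus [h0, h1, h2, h3, h4, h5, h6]
    and_intros <;> grind

theorem comm_Yy {u v : UU K} : ⁅u, v⁆ ∈ Yy K ↔
    (u * v).a1 = (v * u).a1 ∧ (u * v).b8 = (v * u).b8 ∧ (u * v).b2 = (v * u).b2 ∧ (u * v).a8 = (v * u).a8 ∧ (u * v).b6 = (v * u).b6 ∧ (u * v).b4 = (v * u).b4 ∧ (u * v).a2 = (v * u).a2 := by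
  rw [← mul_inv_Yy, commutatorElement_def, mul_inv_rev, mul_assoc (u * v)]

instance normal_Yy : (Yy K).Normal := ⟨fun n hn g => by
  rw [← inv_mul_cancel_right (g * n * g⁻¹) n]
  refine mul_mem (?_ : ⁅g, n⁆ ∈ _) hn
  rw [comm_Yy]
  rw [mem_Yy] at hn
  obtain ⟨h0, h1, h2, h3, h4, h5, h6⟩ := hn
  uus [h0, h1, h2, h3, h4, h5, h6] <;> and_intros <;> grind⟩

theorem mul_inv_CW {x y : UU K} : x * y⁻¹ ∈ CW K ↔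
    x.a1 = y.a1 ∧ x.b8 = y.b8 ∧ x.b2 = y.b2 ∧ x.a8 = y.a8 ∧ x.b6 = y.b6 ∧ x.a7 = y.a7 := by
  refine ⟨fun h => ?_, fun ⟨h0, h1, h2, h3, h4, h5⟩ => ?_⟩
  · obtain ⟨n, rfl⟩ : ∃ n, x = n * y := ⟨x * y⁻¹, by simp⟩
    rw [mul_inv_cancel_right, mem_CW] at h
    obtain ⟨h0, h1, h2, h3, h4, h5⟩ := h
    uus [h0, h1, h2, h3, h4, h5]
    try simp
  · rw [mem_CW]
    uus [h0, h1, h2, h3, h4, h5]
    and_intros <;> grind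

theorem inv_mul_CW {x y : UU K} : x⁻¹ * y ∈ CW K ↔
    x.a1 = y.a1 ∧ x.b8 = y.b8 ∧ x.b2 = y.b2 ∧ x.a8 = y.a8 ∧ x.b6 = y.b6 ∧ x.a7 = y.a7 := by
  refine ⟨fun h => ?_, fun ⟨h0, h1, h2, h3, h4, h5⟩ => ?_⟩
  · obtain ⟨n, rfl⟩ : ∃ n, y = x * n := ⟨x⁻¹ * y, by simp⟩
    rw [inv_mul_cancel_left, mem_CW] at h
    obtain ⟨h0, h1, h2, h3, h4, h5⟩ := h
    uus [h0, h1, h2, h3, h4, h5]
    try simp
  · rw [mem_CW]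
    uus [h0, h1, h2, h3, h4, h5]
    and_intros <;> grind

theorem comm_CW {u v : UU K} : ⁅u, v⁆ ∈ CW K ↔
    (u * v).a1 = (v * u).a1 ∧ (u * v).b8 = (v * u).b8 ∧ (u * v).b2 = (v * u).b2 ∧ (u * v).a8 = (v * u).a8 ∧ (u * v).b6 = (v * u).b6 ∧ (u * v).a7 = (v * u).a7 := by
  rw [← mul_inv_CW, commutatorElement_def, mul_inv_rev, mul_assoc (u * v)]

instance normal_CW : (CW K).Normal := ⟨fun n hn g => by
  rw [← inv_mul_cancel_right (g * n * g⁻¹) n]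
  refine mul_mem (?_ : ⁅g, n⁆ ∈ _) hn
  rw [comm_CW]
  rw [mem_CW] at hn
  obtain ⟨h0, h1, h2, h3, h4, h5⟩ := hn
  uus [h0, h1, h2, h3, h4, h5] <;> and_intros <;> grind⟩

theorem mul_inv_W {x y : UU K} : x * y⁻¹ ∈ W K ↔
    x.a1 = y.a1 ∧ x.b8 = y.b8 ∧ x.b2 = y.b2 ∧ x.a8 = y.a8 ∧ x.b6 = y.b6 ∧ x.b4 = y.b4 ∧ x.a7 = y.a7 := by
  refine ⟨fun h => ?_, fun ⟨h0, h1, h2, h3, h4, h5, h6⟩ => ?_⟩
  · obtain ⟨n, rfl⟩ : ∃ n, x = n * y := ⟨x * y⁻¹, by simp⟩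
    rw [mul_inv_cancel_right, mem_W] at h
    obtain ⟨h0, h1, h2, h3, h4, h5, h6⟩ := h
    uus [h0, h1, h2, h3, h4, h5, h6]
    try simp
  · rw [mem_W]
    uus [h0, h1, h2, h3, h4, h5, h6]
    and_intros <;> grind

theorem inv_mul_W {x y : UU K} : x⁻¹ * y ∈ W K ↔
    x.a1 = y.a1 ∧ x.b8 = y.b8 ∧ x.b2 = y.b2 ∧ x.a8 = y.a8 ∧ x.b6 = y.b6 ∧ x.b4 = y.b4 ∧ x.a7 = y.a7 := by
  refine ⟨fun h => ?_, fun ⟨h0, h1, h2, h3, h4, h5, h6⟩ => ?_⟩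
  · obtain ⟨n, rfl⟩ : ∃ n, y = x * n := ⟨x⁻¹ * y, by simp⟩
    rw [inv_mul_cancel_left, mem_W] at h
    obtain ⟨h0, h1, h2, h3, h4, h5, h6⟩ := h
    uus [h0, h1, h2, h3, h4, h5, h6]
    try simp
  · rw [mem_W]
    uus [h0, h1, h2, h3, h4, h5, h6]
    and_intros <;> grind

theorem comm_W {u v : UU K} : ⁅u, v⁆ ∈ W K ↔
    (u * v).a1 = (v * u).a1 ∧ (u * v).b8 = (v * u).b8 ∧ (u * v).b2 = (v * u).b2 ∧ (u * v).a8 = (v * u).a8 ∧ (u * v).b6 = (v * u).b6 ∧ (u * v).b4 = (v * u).b4 ∧ (u * v).a7 = (v * u).a7 := by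
  rw [← mul_inv_W, commutatorElement_def, mul_inv_rev, mul_assoc (u * v)]

instance normal_W : (W K).Normal := ⟨fun n hn g => by
  rw [← inv_mul_cancel_right (g * n * g⁻¹) n]
  refine mul_mem (?_ : ⁅g, n⁆ ∈ _) hn
  rw [comm_W]
  rw [mem_W] at hn
  obtain ⟨h0, h1, h2, h3, h4, h5, h6⟩ := hn
  uus [h0, h1, h2, h3, h4, h5, h6] <;> and_intros <;> grind⟩

theorem mul_inv_D {x y : UU K} : x * y⁻¹ ∈ D K ↔
    x.a1 = y.a1 ∧ x.b8 = y.b8 ∧ x.b2 = y.b2 ∧ x.a8 = y.a8 ∧ x.b6 = y.b6 ∧ x.b4 = y.b4 ∧ x.a7 = y.a7 ∧ x.a2 = y.a2 ∧ x.a3 = y.a3 := by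
  refine ⟨fun h => ?_, fun ⟨h0, h1, h2, h3, h4, h5, h6, h7, h8⟩ => ?_⟩
  · obtain ⟨n, rfl⟩ : ∃ n, x = n * y := ⟨x * y⁻¹, by simp⟩
    rw [mul_inv_cancel_right, mem_D] at h
    obtain ⟨h0, h1, h2, h3, h4, h5, h6, h7, h8⟩ := h
    uus [h0, h1, h2, h3, h4, h5, h6, h7, h8]
    try simp
  · rw [mem_D]
    uus [h0, h1, h2, h3, h4, h5, h6, h7, h8]
    and_intros <;> grind

theorem inv_mul_D {x y : UU K} : x⁻¹ * y ∈ D K ↔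
    x.a1 = y.a1 ∧ x.b8 = y.b8 ∧ x.b2 = y.b2 ∧ x.a8 = y.a8 ∧ x.b6 = y.b6 ∧ x.b4 = y.b4 ∧ x.a7 = y.a7 ∧ x.a2 = y.a2 ∧ x.a3 = y.a3 := by
  refine ⟨fun h => ?_, fun ⟨h0, h1, h2, h3, h4, h5, h6, h7, h8⟩ => ?_⟩
  · obtain ⟨n, rfl⟩ : ∃ n, y = x * n := ⟨x⁻¹ * y, by simp⟩
    rw [inv_mul_cancel_left, mem_D] at h
    obtain ⟨h0, h1, h2, h3, h4, h5, h6, h7, h8⟩ := h
    uus [h0, h1, h2, h3, h4, h5, h6, h7, h8]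
    try simp
  · rw [mem_D]
    uus [h0, h1, h2, h3, h4, h5, h6, h7, h8]
    and_intros <;> grind

theorem comm_D {u v : UU K} : ⁅u, v⁆ ∈ D K ↔
    (u * v).a1 = (v * u).a1 ∧ (u * v).b8 = (v * u).b8 ∧ (u * v).b2 = (v * u).b2 ∧ (u * v).a8 = (v * u).a8 ∧ (u * v).b6 = (v * u).b6 ∧ (u * v).b4 = (v * u).b4 ∧ (u * v).a7 = (v * u).a7 ∧ (u * v).a2 = (v * u).a2 ∧ (u * v).a3 = (v * u).a3 := by
  rw [← mul_inv_D, commutatorElement_def, mul_inv_rev, mul_assoc (u * v)]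

instance normal_D : (D K).Normal := ⟨fun n hn g => by
  rw [← inv_mul_cancel_right (g * n * g⁻¹) n]
  refine mul_mem (?_ : ⁅g, n⁆ ∈ _) hn
  rw [comm_D]
  rw [mem_D] at hn
  obtain ⟨h0, h1, h2, h3, h4, h5, h6, h7, h8⟩ := hn
  uus [h0, h1, h2, h3, h4, h5, h6, h7, h8] <;> and_intros <;> grind⟩

theorem mul_inv_V {x y : UU K} : x * y⁻¹ ∈ V K ↔
    x.a1 = y.a1 ∧ x.b8 = y.b8 ∧ x.b2 = y.b2 ∧ x.a8 = y.a8 ∧ x.b6 = y.b6 ∧ x.b4 = y.b4 ∧ x.a7 = y.a7 ∧ x.a2 = y.a2 ∧ x.a3 = y.a3 ∧ x.a5 = y.a5 := by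
  refine ⟨fun h => ?_, fun ⟨h0, h1, h2, h3, h4, h5, h6, h7, h8, h9⟩ => ?_⟩
  · obtain ⟨n, rfl⟩ : ∃ n, x = n * y := ⟨x * y⁻¹, by simp⟩
    rw [mul_inv_cancel_right, mem_V] at h
    obtain ⟨h0, h1, h2, h3, h4, h5, h6, h7, h8, h9⟩ := h
    uus [h0, h1, h2, h3, h4, h5, h6, h7, h8, h9]
    try simp
  · rw [mem_V]
    uus [h0, h1, h2, h3, h4, h5, h6, h7, h8, h9]
    and_intros <;> grind

theorem inv_mul_V {x y : UU K} : x⁻¹ * y ∈ V K ↔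
    x.a1 = y.a1 ∧ x.b8 = y.b8 ∧ x.b2 = y.b2 ∧ x.a8 = y.a8 ∧ x.b6 = y.b6 ∧ x.b4 = y.b4 ∧ x.a7 = y.a7 ∧ x.a2 = y.a2 ∧ x.a3 = y.a3 ∧ x.a5 = y.a5 := by
  refine ⟨fun h => ?_, fun ⟨h0, h1, h2, h3, h4, h5, h6, h7, h8, h9⟩ => ?_⟩
  · obtain ⟨n, rfl⟩ : ∃ n, y = x * n := ⟨x⁻¹ * y, by simp⟩
    rw [inv_mul_cancel_left, mem_V] at h
    obtain ⟨h0, h1, h2, h3, h4, h5, h6, h7, h8, h9⟩ := h
    uus [h0, h1, h2, h3, h4, h5, h6, h7, h8, h9]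
    try simp
  · rw [mem_V]
    uus [h0, h1, h2, h3, h4, h5, h6, h7, h8, h9]
    and_intros <;> grind

theorem comm_V {u v : UU K} : ⁅u, v⁆ ∈ V K ↔
    (u * v).a1 = (v * u).a1 ∧ (u * v).b8 = (v * u).b8 ∧ (u * v).b2 = (v * u).b2 ∧ (u * v).a8 = (v * u).a8 ∧ (u * v).b6 = (v * u).b6 ∧ (u * v).b4 = (v * u).b4 ∧ (u * v).a7 = (v * u).a7 ∧ (u * v).a2 = (v * u).a2 ∧ (u * v).a3 = (v * u).a3 ∧ (u * v).a5 = (v * u).a5 := by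
  rw [← mul_inv_V, commutatorElement_def, mul_inv_rev, mul_assoc (u * v)]

instance normal_V : (V K).Normal := ⟨fun n hn g => by
  rw [← inv_mul_cancel_right (g * n * g⁻¹) n]
  refine mul_mem (?_ : ⁅g, n⁆ ∈ _) hn
  rw [comm_V]
  rw [mem_V] at hn
  obtain ⟨h0, h1, h2, h3, h4, h5, h6, h7, h8, h9⟩ := hn
  uus [h0, h1, h2, h3, h4, h5, h6, h7, h8, h9] <;> and_intros <;> grind⟩

theorem mul_inv_Z {x y : UU K} : x * y⁻¹ ∈ Z K ↔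
    x.a1 = y.a1 ∧ x.b8 = y.b8 ∧ x.b2 = y.b2 ∧ x.a8 = y.a8 ∧ x.b6 = y.b6 ∧ x.b4 = y.b4 ∧ x.a7 = y.a7 ∧ x.a2 = y.a2 ∧ x.a3 = y.a3 ∧ x.a5 = y.a5 ∧ x.a6 = y.a6 := by
  refine ⟨fun h => ?_, fun ⟨h0, h1, h2, h3, h4, h5, h6, h7, h8, h9, h10⟩ => ?_⟩
  · obtain ⟨n, rfl⟩ : ∃ n, x = n * y := ⟨x * y⁻¹, by simp⟩
    rw [mul_inv_cancel_right, mem_Z] at h
    obtain ⟨h0, h1, h2, h3, h4, h5, h6, h7, h8, h9, h10⟩ := h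
    uus [h0, h1, h2, h3, h4, h5, h6, h7, h8, h9, h10]
    try simp
  · rw [mem_Z]
    uus [h0, h1, h2, h3, h4, h5, h6, h7, h8, h9, h10]
    and_intros <;> grind

theorem inv_mul_Z {x y : UU K} : x⁻¹ * y ∈ Z K ↔
    x.a1 = y.a1 ∧ x.b8 = y.b8 ∧ x.b2 = y.b2 ∧ x.a8 = y.a8 ∧ x.b6 = y.b6 ∧ x.b4 = y.b4 ∧ x.a7 = y.a7 ∧ x.a2 = y.a2 ∧ x.a3 = y.a3 ∧ x.a5 = y.a5 ∧ x.a6 = y.a6 := by
  refine ⟨fun h => ?_, fun ⟨h0, h1, h2, h3, h4, h5, h6, h7, h8, h9, h10⟩ => ?_⟩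
  · obtain ⟨n, rfl⟩ : ∃ n, y = x * n := ⟨x⁻¹ * y, by simp⟩
    rw [inv_mul_cancel_left, mem_Z] at h
    obtain ⟨h0, h1, h2, h3, h4, h5, h6, h7, h8, h9, h10⟩ := h
    uus [h0, h1, h2, h3, h4, h5, h6, h7, h8, h9, h10]
    try simp
  · rw [mem_Z]
    uus [h0, h1, h2, h3, h4, h5, h6, h7, h8, h9, h10]
    and_intros <;> grind

theorem comm_Z {u v : UU K} : ⁅u, v⁆ ∈ Z K ↔
    (u * v).a1 = (v * u).a1 ∧ (u * v).b8 = (v * u).b8 ∧ (u * v).b2 = (v * u).b2 ∧ (u * v).a8 = (v * u).a8 ∧ (u * v).b6 = (v * u).b6 ∧ (u * v).b4 = (v * u).b4 ∧ (u * v).a7 = (v * u).a7 ∧ (u * v).a2 = (v * u).a2 ∧ (u * v).a3 = (v * u).a3 ∧ (u * v).a5 = (v * u).a5 ∧ (u * v).a6 = (v * u).a6 := by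
  rw [← mul_inv_Z, commutatorElement_def, mul_inv_rev, mul_assoc (u * v)]

instance normal_Z : (Z K).Normal := ⟨fun n hn g => by
  rw [← inv_mul_cancel_right (g * n * g⁻¹) n]
  refine mul_mem (?_ : ⁅g, n⁆ ∈ _) hn
  rw [comm_Z]
  rw [mem_Z] at hn
  obtain ⟨h0, h1, h2, h3, h4, h5, h6, h7, h8, h9, h10⟩ := hn
  uus [h0, h1, h2, h3, h4, h5, h6, h7, h8, h9, h10] <;> and_intros <;> grind⟩

end Cfsg.Lib.TF4
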